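import Cfsg.Agent.Lib.FFMinimal.Basic

/-!
The contragredient action.

* `card_addHom` : an elementary abelian group has as many functionals as elements
* `dualAct`, `Ctx.dual` : the contragredient of an irreducible configuration is one
* `card_le_comS` : the bound on `V*` says `|D| ≤ |[V, D]|` on `V`
-/

set_option autoImplicit false

namespace Cfsg.Agent.FFMinimal

open Subgroup
open OffenderSL2 (fixS app_mul app_one app_inv_self app_self_inv)

universe u v

theorem card_linear_dual {F : Type*} [Field F] {W : Type*} [AddCommGroup W] [Module F W] [Finite W] :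
    Nat.card (W →ₗ[F] F) = Nat.card W := by
  classical
  haveI : Fintype (Module.Basis.ofVectorSpaceIndex F W) := Fintype.ofFinite _
  exact (Nat.card_congr (Module.Basis.ofVectorSpace F W).toDualEquiv.toEquiv).symm

theorem eq_zero_of_dual {F : Type*} [Field F] {W : Type*} [AddCommGroup W] [Module F W] {v : W}
    (h : ∀ f : W →ₗ[F] F, f v = 0) : v = 0 :=
  (Module.forall_dual_apply_eq_zero_iff F v).1 h

theorem card_addHom {V : Type v} [AddCommGroup V] [Finite V] {p : ℕ} [Fact p.Prime] (hp : ∀ v : V, p • v = 0) :
    Nat.card (V →+ ZMod p) = Nat.card V := by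
  letI : Module (ZMod p) V := AddCommGroup.zmodModule hp
  refine (Nat.card_congr ?_).trans (card_linear_dual (F := ZMod p) (W := V))
  exact
    { toFun := fun f => f.toZModLinearMap p
      invFun := fun f => f.toAddMonoidHom
      left_inv := fun f => AddMonoidHom.ext fun _ => rfl
      right_inv := fun f => LinearMap.ext fun _ => rfl }

variable {P : Type u} [Group P] {V : Type v} [AddCommGroup V] (σ : P →* AddMonoid.End V) (p : ℕ)

/-- The contragredient. -/
def dualAct : P →* AddMonoid.End (V →+ ZMod p) where
  toFun g := AddMonoidHom.mk' (fun f => f.comp (σ g⁻¹)) fun _ _ => rfl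
  map_one' := AddMonoidHom.ext fun f => AddMonoidHom.ext fun v => by
    show f (σ 1⁻¹ v) = f v
    rw [inv_one, app_one]
  map_mul' g h := AddMonoidHom.ext fun f => AddMonoidHom.ext fun v => by
    show f (σ (g * h)⁻¹ v) = f (σ h⁻¹ (σ g⁻¹ v))
    rw [mul_inv_rev, app_mul]

@[simp] theorem dualAct_apply (g : P) (f : V →+ ZMod p) (v : V) : dualAct σ p g f v = f (σ g⁻¹ v) := rfl

variable {σ p}

theorem mem_fix_dual {D : Subgroup P} {f : V →+ ZMod p} :
    f ∈ fixS (dualAct σ p) D ↔ comS σ D ≤ f.ker := by
  constructor
  · refine fun h => comS_le fun g hg v => ?_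
    have := DFunLike.congr_fun (h g⁻¹ (inv_mem hg)) v
    rw [dualAct_apply, inv_inv] at this
    rw [AddMonoidHom.mem_ker, map_sub, this, sub_self]
  · refine fun h g hg => AddMonoidHom.ext fun v => ?_
    have := AddMonoidHom.mem_ker.1 (h (sub_mem_comS (inv_mem hg) v))
    rw [map_sub, sub_eq_zero] at this
    exact this

theorem card_fix_dual [Finite V] [Fact p.Prime] (hp : ∀ v : V, p • v = 0) (D : Subgroup P) :
    Nat.card ↥(fixS (dualAct σ p) D) * Nat.card ↥(comS σ D) = Nat.card V := by
  set S := comS σ D
  have e : ↥(fixS (dualAct σ p) D) ≃ (V ⧸ S →+ ZMod p) :=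
    { toFun := fun f => QuotientAddGroup.lift S f.1 (mem_fix_dual.1 f.2)
      invFun := fun f => ⟨f.comp (QuotientAddGroup.mk' S), mem_fix_dual.2 fun v hv => by
        show f (v : V ⧸ S) = 0
        rw [(QuotientAddGroup.eq_zero_iff v).2 hv, map_zero]⟩
      left_inv := fun f => Subtype.ext (AddMonoidHom.ext fun v => rfl)
      right_inv := fun f => AddMonoidHom.ext fun w => QuotientAddGroup.induction_on w fun v => rfl }
  rw [Nat.card_congr e, card_addHom fun w => QuotientAddGroup.induction_on w fun v => by
    rw [← QuotientAddGroup.mk_nsmul, hp]; rfl]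
  exact (AddSubgroup.card_eq_card_quotient_mul_card_addSubgroup S).symm

theorem Ctx.dual [Finite V] [Fact p.Prime] (h : Ctx σ p) : Ctx (dualAct σ p) p := by
  haveI : Finite (V →+ ZMod p) := Finite.of_injective (fun f => (f : V → ZMod p)) DFunLike.coe_injective
  letI : Module (ZMod p) V := AddCommGroup.zmodModule h.exponent
  have hsep : ∀ v : V, (∀ f : V →+ ZMod p, f v = 0) → v = 0 := fun v hv =>
    eq_zero_of_dual (F := ZMod p) fun φ => hv φ.toAddMonoidHom
  refine ⟨fun f => AddMonoidHom.ext fun v => by
      show p • f v = 0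
      rw [nsmul_eq_mul, ZMod.natCast_self, zero_mul], fun g hg => ?_, h.pmin, fun W hW => ?_, ?_⟩
  · refine inv_eq_one.1 (h.faith _ fun v => sub_eq_zero.1 (hsep _ fun f => ?_))
    rw [map_sub, sub_eq_zero]
    exact DFunLike.congr_fun (hg f) v
  · let N : AddSubgroup V :=
      { carrier := {v | ∀ f ∈ W, f v = 0}
        zero_mem' := fun f _ => map_zero f
        add_mem' := fun {a b} ha hb f hf => by rw [map_add, ha f hf, hb f hf, add_zero]
        neg_mem' := fun {a} ha f hf => by rw [map_neg, ha f hf, neg_zero] }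
    rcases h.irr N (fun g v hv f hf => by
      have := hv _ (hW g⁻¹ f hf)
      rwa [dualAct_apply, inv_inv] at this) with hN | hN
    · right
      let ev : V →+ (↥W →+ ZMod p) :=
        AddMonoidHom.mk' (fun v => AddMonoidHom.mk' (fun f => f.1 v) fun _ _ => rfl) fun a b =>
          AddMonoidHom.ext fun f => map_add f.1 a b
      have hev : Function.Injective ev := (injective_iff_map_eq_zero ev).2 fun v hv =>
        AddSubgroup.mem_bot.1 (hN.le (show v ∈ N from fun f hf => DFunLike.congr_fun hv ⟨f, hf⟩))
      haveI : Finite (↥W →+ ZMod p) := Finite.of_injective (fun f => (f : ↥W → ZMod p)) DFunLike.coe_injective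
      have h1 := Nat.card_le_card_of_injective ev hev
      rw [card_addHom fun f : ↥W => Subtype.ext (AddMonoidHom.ext fun v => by
        show p • f.1 v = 0
        rw [nsmul_eq_mul, ZMod.natCast_self, zero_mul])] at h1
      exact AddSubgroup.eq_top_of_le_card _ (by rwa [card_addHom h.exponent])
    · left
      refine (AddSubgroup.eq_bot_iff_forall _).2 fun f hf => AddMonoidHom.ext fun v => ?_
      exact (hN.ge (AddSubgroup.mem_top v) : v ∈ N) f hf
  · obtain ⟨v, hv⟩ := h.nt
    by_contra hc
    push Not at hc
    exact hv (hsep v fun f => by rw [hc f]; rfl)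

/-- The bound on the dual, read on `V`. -/
theorem card_le_comS [Finite P] [Finite V] [Fact p.Prime] (hp : ∀ v : V, p • v = 0)
    (hB : Bound (dualAct σ p) p) {D : Subgroup P} (hD : Elem p D) : Nat.card ↥D ≤ Nat.card ↥(comS σ D) := by
  have h := hB D hD
  rw [wt, card_addHom hp, ← card_fix_dual (σ := σ) hp D, mul_comm] at h
  refine Nat.le_of_mul_le_mul_left h ?_
  haveI : Finite (V →+ ZMod p) := Finite.of_injective (fun f => (f : V → ZMod p)) DFunLike.coe_injective
  exact Nat.card_pos

end Cfsg.Agent.FFMinimal
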