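import Cfsg.Agent.Lib.FFMinimal.Four

/-!
Two blocks over four elements with exchanged shears generate a group moving a point outside `M`.

* `Nf.false` : the normal forms
* `false_of_swap` : the general statement
-/

set_option autoImplicit false

namespace Cfsg.Agent.FFMinimal

open Subgroup
open RankOne (upSL loSL)
open scoped MatrixGroups
open OffenderSL2 (fixS cj app_mul app_one app_inv_self app_self_inv fix_le fix_sup mem_fix_cj apply_mem_fix_cj mem_cj cj_cj)

universe u v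

variable {P : Type u} [Group P] {V : Type v} [AddCommGroup V] {σ : P →* AddMonoid.End V} {p : ℕ}
  {F : Type} [Field F] {A : Subgroup P}

namespace Nf

open Four

variable {B B' : Block σ F A} {w : F} {b c : Fin 4}
  (hw : w * w = w + 1) (h2 : (2 : F) = 0) (hw3 : w * w * w = 1) (hpow : ∀ x : F, x * x * x * x = x)
  (hsurj : Function.Surjective (emb w)) (h : Nf B B' (emb w b) (emb w c))

include h hsurj in
theorem exists_vec (v : V) : ∃ k, k ∈ B.C ∧ k ∈ B'.C ∧ ∃ a, v = k + vec B w a := by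
  obtain ⟨k, hk, hk', x, z, y, rfl⟩ := h.decomp v
  obtain ⟨i, rfl⟩ := hsurj x
  obtain ⟨j, rfl⟩ := hsurj z
  obtain ⟨l, rfl⟩ := hsurj y
  exact ⟨k, hk, hk', (i, j, l), by simp only [vec]; abel⟩

include h hsurj in
theorem eq_of_acts {g g' : P} {f f' : Tr → Tr} (hg : Acts B B' w g f) (hg' : Acts B B' w g' f')
    (e : ∀ a, f a = f' a) : g = g' := by
  refine (inv_mul_eq_one.1 (h.faith _ fun v => ?_)).symm
  obtain ⟨k, hk, hk', a, rfl⟩ := exists_vec hsurj h v
  rw [app_mul, show σ g (k + vec B w a) = σ g' (k + vec B w a) by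
    rw [map_add, map_add, hg.1 k hk hk', hg'.1 k hk hk', hg.2, hg'.2, e], app_inv_self]

include hw h2 hw3 h hsurj in
/-- An element fixing `C_V(A)` and moving into it is a root element. -/
theorem false_of_word {g : P} {f : Tr → Tr} (hg : Acts B B' w g f)
    (hfix : ∀ i j : Fin 4, f (i, j, 0) = (i, j, 0)) (hmove : ∀ a, (f a).2.2 = a.2.2)
    (hne : ∀ t, ∃ a, f a ≠ fUp t a) : False := by
  have hgA : g ∈ A := by
    refine h.hkill g (fun v hv => ?_) fun v => ?_
    · obtain ⟨k, hk, hk', a, rfl⟩ := exists_vec hsurj h v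
      obtain ⟨c₀, hc₀, x₀, e⟩ := B.mem_fix_A.1 hv
      have hy : emb w a.2.2 = 0 := (B.indep (k + B.hh (emb w a.2.1) - c₀)
        (sub_mem (add_mem hk (B.hh_mem _)) hc₀) (emb w a.1 - x₀) (emb w a.2.2) (by
        rw [map_sub, ← sub_eq_zero.2 e]; simp only [vec]; abel)).2
      have ha : a.2.2 = 0 := emb_injective hw h2 hw3 hy
      rw [map_add, hg.1 k hk hk', hg.2, show a = (a.1, a.2.1, 0) by rw [← ha], hfix]
    · obtain ⟨k, hk, hk', a, rfl⟩ := exists_vec hsurj h v
      rw [map_add, hg.1 k hk hk', hg.2, add_sub_add_left_eq_sub]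
      simp only [vec]
      rw [hmove a, show ∀ p q r p' q' : V, p + q + r - (p' + q' + r) = (p - p') + (q - q') from
        fun _ _ _ _ _ => by abel]
      exact add_mem (sub_mem (B.lam_mem_fix _) (B.lam_mem_fix _))
        (sub_mem (B.C_le_fix (B.hh_mem _)) (B.C_le_fix (B.hh_mem _)))
  obtain ⟨t, ht⟩ := B.mem_A.1 hgA
  obtain ⟨i, rfl⟩ := hsurj t
  obtain ⟨a, ha⟩ := hne i
  refine ha (vec_injective hw h2 hw3 h ?_)
  rw [← hg.2, ← (act_up (B' := B') hw h2 hw3 i).2, ht]

include hw h2 hw3 hpow h hsurj in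
/-- The four normal forms. -/
theorem false {M : Subgroup P} (hAM : A ≤ M) (hdM : ∀ s, B.dg s ∈ M) (hdM' : ∀ s, B'.dg s ∈ M)
    (hout : ¬ B.grp ≤ M) (hb : b = 0 ∨ b = 1) (hc : c = 0 ∨ c = 1)
    (hl : b = 0 → c = 0 → ∀ g ∈ B.grp ⊔ B'.grp, σ g (B.lam 1 + B.hh 1) = B.lam 1 + B.hh 1 → g ∈ M) :
    False := by
  have U := act_up (B := B) (B' := B') hw h2 hw3
  have L := act_lo hw h2 hw3 h
  have L' := act_lo' hw h2 hw3 hpow h
  rcases hb with rfl | rfl <;> rcases hc with rfl | rfl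
  · -- no shear at all: the fixed point moves
    have hw0 : w ≠ 0 := fun e => one_ne_zero (α := F) (by rw [← hw3, e, mul_zero])
    have hθ := act_th (B := B) (B' := B') (s := Units.mk0 w hw0) hw3 rfl
    have hθ' := act_th' hw h2 hw3 hpow h (s := Units.mk0 w hw0) rfl
    have hg := ((L 1).mul (L' 2)).mul (L 1)
    have hgM : B.lo (emb w 1) * B'.lo (emb w 2) * B.lo (emb w 1) ∈ M := by
      refine hl rfl rfl _ (mul_mem (mul_mem (mem_sup_left (B.lo_mem_grp _)) (mem_sup_right (B'.lo_mem_grp _)))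
        (mem_sup_left (B.lo_mem_grp _))) ?_
      have e : vec B w (1, 1, 0) = B.lam 1 + B.hh 1 := by simp [vec]
      rw [← e, hg.2]
      congr 1
    have hlo1 : B.lo (emb w 1) ∈ M := by
      rw [eq_of_acts hsurj h (L 1) ((((((U 1).mul hg).mul (U 1)).mul hθ).mul hθ').mul hg) (by decide +kernel)]
      exact mul_mem (mul_mem (mul_mem (mul_mem (mul_mem (hAM (B.up_mem _)) hgM) (hAM (B.up_mem _)))
        (hdM _)) (hdM' _)) hgM
    have hlo : ∀ i, B.lo (emb w i) ∈ M := by
      intro i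
      fin_cases i
      · show B.lo 0 ∈ M
        rw [Block.lo, RankOne.loSL_zero, map_one]
        exact one_mem M
      · exact hlo1
      · show B.lo (emb w 2) ∈ M
        rw [eq_of_acts hsurj h (L 2) (((hθ.mul (L 1)).mul hθ).mul hθ) (by decide +kernel)]
        exact mul_mem (mul_mem (mul_mem (hdM _) hlo1) (hdM _)) (hdM _)
      · show B.lo (emb w 3) ∈ M
        rw [eq_of_acts hsurj h (L 3) (((hθ.mul hθ).mul (L 1)).mul hθ) (by decide +kernel)]
        exact mul_mem (mul_mem (mul_mem (hdM _) (hdM _)) hlo1) (hdM _)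
    refine hout (le_trans B.grp_eq.le (sup_le hAM ?_))
    rintro _ ⟨a, ha, rfl⟩
    obtain ⟨t, rfl⟩ := B.mem_A.1 ha
    show B.φ wSL * B.up t * (B.φ wSL)⁻¹ ∈ M
    rw [show B.φ wSL * B.up t * (B.φ wSL)⁻¹ = B.lo (-t) by
      rw [Block.up, Block.lo, ← map_inv, ← map_mul, ← map_mul, w_up, mul_inv_cancel_right]]
    obtain ⟨i, hi⟩ := hsurj (-t)
    rw [← hi]
    exact hlo i
  · exact false_of_word hw h2 hw3 hsurj h
      (((((((L 1).mul (L' 1)).mul (U 1)).mul (L 1)).mul (U 1)).mul (L' 1)).mul (L 1))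
      (by decide +kernel) (by decide +kernel) (by decide +kernel)
  · exact false_of_word hw h2 hw3 hsurj h
      (((((((L' 1).mul (L 1)).mul (U 1)).mul (L' 1)).mul (U 1)).mul (L 1)).mul (L' 1))
      (by decide +kernel) (by decide +kernel) (by decide +kernel)
  · exact false_of_word hw h2 hw3 hsurj h
      ((((((((((L 1).mul (U 1)).mul (L' 1)).mul (L' 2)).mul (L 1)).mul (L' 1)).mul (L 1)).mul (L' 2)).mul (U 1)).mul (L 1))
      (by decide +kernel) (by decide +kernel) (by decide +kernel)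

end Nf

/-- Conjugating both blocks by torus elements and scaling. -/
theorem Nf.rescale {B B' : Block σ F A} {b c : F} (h : Nf B B' b c) (hpow : ∀ x : F, x * x * x * x = x)
    (k r : Fˣ) :
    Nf ((B.conjSelf (B.dg r) (B.cj_dg r)).scale k) ((B'.conjSelf (B'.dg r) (B'.cj_dg r)).scale (k * k * (r * r)))
      (b * k) (c * ((k : F) * k) * ((r : F) * r)) := by
  have hr3 : (r : F) * r * r = 1 := mul_left_cancel₀ r.ne_zero (by linear_combination hpow r)
  have hri : ((r⁻¹ : Fˣ) : F) = (r : F) * r := by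
    rw [Units.val_inv_eq_inv_val]
    exact inv_eq_of_mul_eq_one_right (by linear_combination hr3)
  refine { up_eq := fun t => ?_, lam_eq := fun x => ?_, hh_eq := fun x => ?_, inj := ?_, two := h.two,
           faith := h.faith, hkill := h.hkill, om_eq := fun y => ?_ }
  · show B'.dg r * B'.up t * (B'.dg r)⁻¹ = B.dg r * B.up t * (B.dg r)⁻¹
    rw [B'.dg_comm_up, B.dg_comm_up, mul_inv_cancel_right, mul_inv_cancel_right, h.up_eq]
  · show σ (B'.dg r) (B'.lam (((k * k * (r * r) : Fˣ) : F) * x)) = σ (B.dg r) (B.hh ((k : F) * k * x))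
    rw [B'.app_dg_lam, B.app_dg_C _ (B.hh_mem _), h.lam_eq]
    congr 1
    simp only [Units.val_mul]
    linear_combination ((k : F) * k * x) * hr3
  · show σ (B'.dg r) (B'.hh (((k * k * (r * r) : Fˣ) : F) * ((k * k * (r * r) : Fˣ) : F) * x)) =
      σ (B.dg r) (B.lam ((k : F) * x))
    rw [B'.app_dg_C _ (B'.hh_mem _), B.app_dg_lam, h.hh_eq]
    congr 1
    simp only [Units.val_mul]
    linear_combination ((r : F) * r * r * r * x) * hpow (k : F) + ((r : F) * k * x) * hr3
  · intro x y e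
    have e' : σ (B.dg r) (B.hh ((k : F) * k * x)) = σ (B.dg r) (B.hh ((k : F) * k * y)) := e
    rw [B.app_dg_C _ (B.hh_mem _), B.app_dg_C _ (B.hh_mem _)] at e'
    exact mul_left_cancel₀ (mul_ne_zero k.ne_zero k.ne_zero) (h.inj e')
  · show σ (B'.dg r) (B'.om (((k * k * (r * r) : Fˣ) : F) * (y * y))) =
      σ (B.dg r) (B.om ((k : F) * y)) + σ (B.dg r) (B.lam ((k : F) * (b * k * (y * y)))) +
        σ (B.dg r) (B.hh ((k : F) * k * (c * ((k : F) * k) * ((r : F) * r) * y)))
    rw [B'.app_dg_om, B.app_dg_om, B.app_dg_lam, B.app_dg_C _ (B.hh_mem _),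
      show ((r⁻¹ : Fˣ) : F) * (((k * k * (r * r) : Fˣ) : F) * (y * y)) =
        ((r⁻¹ : Fˣ) : F) * ((k : F) * y) * (((r⁻¹ : Fˣ) : F) * ((k : F) * y)) by
          simp only [Units.val_mul, hri]; ring, h.om_eq]
    congr 2
    · congr 1
      rw [hri]
      linear_combination (b * (r : F) * k * k * (y * y)) * hr3
    · rw [hri]
      linear_combination (-(c * y * ((r : F) * r))) * hpow (k : F)

omit [Field F] in
/-- Units of a field with four elements are cubic roots of one. -/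
theorem cube_eq_one [Field F] (hpow : ∀ x : F, x * x * x * x = x) {x : F} (hx : x ≠ 0) : x * x * x = 1 :=
  mul_left_cancel₀ hx (by linear_combination hpow x)

/-- In characteristic two an additive map of four elements is a combination of the identity and squaring. -/
theorem exists_lin {w : F} (hsurj : Function.Surjective (Four.emb w)) (hw : w * w = w + 1) (h2 : (2 : F) = 0)
    (f : F → F) (hf : ∀ x y, f (x + y) = f x + f y) (a b : F) (ha : a + b = f 1) (hb : a * w + b * (w * w) = f w)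
    (y : F) : f y = a * y + b * (y * y) := by
  have h0 : f 0 = 0 := add_left_cancel (a := f 0) (by rw [← hf, add_zero, add_zero])
  obtain ⟨i, rfl⟩ := hsurj y
  fin_cases i
  · simp [h0]
  · simp [ha]
  · exact hb.symm
  · show f (w * w) = a * (w * w) + b * (w * w * (w * w))
    rw [show f (w * w) = f w + f 1 by rw [hw, hf], ← hb, ← ha]
    linear_combination (-a - b * (w * w + w + 1)) * hw - b * w * h2

variable [Finite P] [Finite V] [Fact p.Prime] [Finite F]

omit [Finite P] [Finite V] in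
/-- Two blocks with exchanged shears can be brought into the form `Nrm`. -/
theorem exists_nrm (hp : ∀ v : V, p • v = 0) (hf : ∀ g : P, (∀ v, σ g v = v) → g = 1)
    (hk : ∀ u : P, (∀ v ∈ fixS σ A, σ u v = v) → (∀ v, σ u v - v ∈ fixS σ A) → u ∈ A) {B B' : Block σ F A}
    (hpow : ∀ x : F, x * x * x * x = x) (h2 : (2 : F) = 0) (hinj : Function.Injective B.hh)
    (hL' : B'.lam.range = B.hh.range) (hR' : B'.hh.range = B.lam.range) {M : Subgroup P}
    (hdM' : ∀ s, B'.dg s ∈ M) :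
    ∃ B₃ : Block σ F A, Nrm B B₃ ∧ B₃.grp = B'.grp ∧ ∀ s, B₃.dg s ∈ M := by
  classical
  have h2v : ∀ v : V, v + v = 0 := fun v => by
    have hp2 : p = 2 := by
      by_contra hne
      have hpF := B.natCast_eq_zero hp
      haveI : CharP F p := (CharP.charP_iff_prime_eq_zero (Fact.out : p.Prime)).2 hpF
      have : ((2 : ℕ) : F) = 0 := by exact_mod_cast h2
      rw [CharP.cast_eq_zero_iff F p] at this
      exact hne ((Nat.prime_dvd_prime_iff_eq Fact.out Nat.prime_two).1 this)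
    have := hp v
    rwa [hp2, two_nsmul] at this
  choose τ hτ using fun t => B'.mem_A.1 (B.up_mem t)
  set π : F → F := fun y => (B'.crd (B.om y)).2
  have hrel : ∀ t y, B.hh (t * y * y) = B'.lam (τ t * π y) ∧ B.lam (t * y) = B'.hh (τ t * π y * π y) := fun t y => by
    obtain ⟨c, hc, a, b, e⟩ := B'.decomp (B.om y)
    have hb : π y = b := by show (B'.crd (B.om y)).2 = b; rw [e, B'.crd_eq hc]
    have e1 : B.lam (t * y) + B.hh (t * y * y) = B'.lam (τ t * b) + B'.hh (τ t * b * b) := by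
      rw [← B.sub_om, e, ← hτ t, B'.app_up_sub hc]
    obtain ⟨a₁, ha₁⟩ := hR'.le ⟨τ t * b * b, rfl⟩
    obtain ⟨u₁, hu₁⟩ := hL'.le ⟨τ t * b, rfl⟩
    have h2 := B.lam_hh_inj (B.hh_mem (t * y * y)) (B.hh_mem u₁) (b := a₁) (by rw [e1, ← ha₁, ← hu₁, add_comm])
    rw [hb, ← ha₁, ← hu₁]
    exact ⟨h2.2, by rw [h2.1]⟩
  have hτadd : ∀ s t, τ (s + t) = τ s + τ t := fun s t => B'.up_injective (by
    rw [hτ, B.up_add, B'.up_add, hτ, hτ])
  have hc0 : τ 1 ≠ 0 := fun h0 => one_ne_zero (hinj (by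
    have := (hrel 1 1).1
    rwa [h0, zero_mul, map_zero, one_mul, one_mul, ← map_zero B.hh] at this))
  have he0 : π 1 ≠ 0 := fun h0 => one_ne_zero (hinj (by
    have := (hrel 1 1).1
    rwa [h0, mul_zero, map_zero, one_mul, one_mul, ← map_zero B.hh] at this))
  have hA : ∀ t y, τ (t * y * y) * π 1 = τ t * π y := fun t y => B'.lam_injective (by
    rw [← (hrel (t * y * y) 1).1, mul_one, mul_one, (hrel t y).1])
  have hmul : ∀ a b, τ (a * b) * τ 1 = τ a * τ b := fun a b => by
    have e1 := hA a (b * b)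
    have e2 := hA 1 (b * b)
    have e3 : b * b * (b * b) = b := by linear_combination hpow b
    rw [mul_assoc, e3] at e1
    rw [one_mul, e3] at e2
    refine mul_right_cancel₀ he0 ?_
    linear_combination τ 1 * e1 - τ a * e2
  let σ₀ : F →+* F :=
    { toFun := fun t => τ t / τ 1
      map_one' := div_self hc0
      map_mul' := fun a b => by field_simp; linear_combination hmul a b
      map_zero' := by
        have := hτadd 0 0
        rw [add_zero] at this
        rw [show τ 0 = 0 by linear_combination -this, zero_div]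
      map_add' := fun a b => by rw [hτadd, add_div] }
  set eq₀ := RingEquiv.ofBijective σ₀ (Finite.injective_iff_bijective.1 σ₀.injective)
  set B₁ := B'.mapField eq₀.symm with hB₁
  set c₀ := eq₀.symm (τ 1)
  have hc₀ : c₀ ≠ 0 := fun e => hc0 (by
    have e' := congrArg eq₀ e
    rwa [map_zero, RingEquiv.apply_symm_apply] at e')
  have hup1 : ∀ t, B₁.up (c₀ * t) = B.up t := fun t => by
    rw [hB₁, Block.mapField_up, ← hτ t]
    congr 1
    show eq₀ (c₀ * t) = _
    rw [map_mul, RingEquiv.apply_symm_apply]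
    show τ 1 * (τ t / τ 1) = τ t
    rw [mul_div_cancel₀ _ hc0]
  set r := Units.mk0 (c₀ * c₀) (mul_ne_zero hc₀ hc₀) with hr
  set B₂ := B₁.conjSelf (B₁.dg r) (B₁.cj_dg r) with hB₂
  have hlam2 : ∀ x, B₂.lam x = B₁.lam ((r : F) * x) := fun x => B₁.app_dg_lam r x
  have hhh2 : ∀ x, B₂.hh x = B₁.hh x := fun x => B₁.app_dg_C _ (B₁.hh_mem x)
  have hup2 : ∀ t, B₂.up t = B.up t := fun t => by
    show B₁.dg r * B₁.up t * (B₁.dg r)⁻¹ = _
    rw [B₁.dg_comm_up, mul_inv_cancel_right, ← hup1]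
    congr 1
    rw [hr, Units.val_mk0]
    linear_combination t * hpow c₀
  have hL2 : B₂.lam.range = B.hh.range := by
    rw [← hL', ← B'.mapField_range_lam eq₀.symm]
    ext v
    constructor
    · rintro ⟨x, rfl⟩; exact ⟨_, (hlam2 x).symm⟩
    · rintro ⟨x, rfl⟩; exact ⟨((r⁻¹ : Fˣ) : F) * x, by rw [hlam2, Units.mul_inv_cancel_left]⟩
  have hR2 : B₂.hh.range = B.lam.range := by
    rw [← hR', ← B'.mapField_range_hh eq₀.symm]
    ext v
    exact ⟨fun ⟨x, hx⟩ => ⟨x, by rw [← hx, hhh2]⟩, fun ⟨x, hx⟩ => ⟨x, by rw [← hx, hhh2]⟩⟩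
  obtain ⟨k₀, hk₀, a, e, hom⟩ := B₂.decomp (B.om 1)
  have hrel2 : ∀ t, B.hh t = B₂.lam (t * e) ∧ B.lam t = B₂.hh (t * e * e) := fun t => by
    have e1 : B.lam t + B.hh t = B₂.lam (t * e) + B₂.hh (t * e * e) := by
      have := B.sub_om t 1
      rw [mul_one, mul_one] at this
      rw [← this, hom, ← hup2, B₂.app_up_sub hk₀]
    obtain ⟨a₁, ha₁⟩ := hR2.le ⟨t * e * e, rfl⟩
    obtain ⟨u₁, hu₁⟩ := hL2.le ⟨t * e, rfl⟩
    have h2 := B.lam_hh_inj (B.hh_mem t) (B.hh_mem u₁) (b := a₁) (by rw [e1, ← ha₁, ← hu₁, add_comm])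
    rw [← ha₁, ← hu₁]
    exact ⟨h2.2, by rw [h2.1]⟩
  have he : e ≠ 0 := fun h0 => one_ne_zero (hinj (by
    have := (hrel2 1).1
    rwa [h0, mul_zero, map_zero, ← map_zero B.hh] at this))
  have hdM1 : ∀ s, B₁.dg s ∈ M := fun s => by rw [hB₁, Block.mapField_dg]; exact hdM' _
  refine ⟨B₂.scale (Units.mk0 e he),
    { up_eq := hup2, lam_eq := fun x => ?_, hh_eq := fun x => ?_, inj := hinj, two := h2v, faith := hf,
      hkill := hk }, ?_,
    fun s => mul_mem (mul_mem (hdM1 r) (hdM1 s)) (inv_mem (hdM1 r))⟩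
  · show B₂.lam (e * x) = _
    rw [(hrel2 x).1, mul_comm]
  · show B₂.hh (e * e * x) = _
    rw [(hrel2 x).2, show x * e * e = e * e * x by ring]
  · show B₂.grp = B'.grp
    rw [hB₂, B₁.conjSelf_grp, B₁.cj_grp_self (B₁.dg_mem_grp r), hB₁, Block.mapField_grp]

omit [Finite P] [Finite V] in
/-- Blocks in the form `Nrm` can be brought into the form `Nf`. -/
theorem exists_nf {w : F} (hw : w * w = w + 1) (h2 : (2 : F) = 0) (hw3 : w * w * w = 1)
    (hpow : ∀ x : F, x * x * x * x = x) (hsurj : Function.Surjective (Four.emb w)) {B B' : Block σ F A}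
    (h : Nrm B B') : ∃ (a b c : F), Nf (B.conjSelf (B.up a) (B.cj_up a)) B' b c := by
  classical
  have hD : ∀ y, B'.om (y * y) + B.om y ∈ fixS σ A := fun y => by
    refine B.mem_fix_of_up one_ne_zero ?_
    rw [map_add]
    conv_lhs => arg 1; rw [← h.up_eq, Block.up, B'.up_om, h.lam_eq, h.hh_eq]
    rw [Block.up, B.up_om, show (1 : F) * (y * y) * (y * y) = y by linear_combination hpow y]
    simp only [one_mul]
    rw [show B'.om (y * y) + B.hh (y * y) + B.lam y + (B.om y + B.lam y + B.hh (y * y)) =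
      B'.om (y * y) + B.om y + (B.hh (y * y) + B.hh (y * y)) + (B.lam y + B.lam y) by abel, h.two, h.two,
      add_zero, add_zero]
  have hdec : ∀ y, ∃ k, k ∈ B.C ∧ k ∈ B'.C ∧ ∃ x z, B'.om (y * y) + B.om y = k + B.lam x + B.hh z := fun y => by
    obtain ⟨k, hk, hk', x, z, u, e⟩ := h.decomp (B'.om (y * y) + B.om y)
    obtain ⟨c₀, hc₀, x₀, e₀⟩ := B.mem_fix_A.1 (hD y)
    have hu := (B.indep (k + B.hh z - c₀) (sub_mem (add_mem hk (B.hh_mem z)) hc₀) (x - x₀) u (by
      rw [map_sub, ← sub_eq_zero.2 (e.symm.trans e₀)]; abel)).2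
    exact ⟨k, hk, hk', x, z, by rw [e, hu, map_zero, add_zero]⟩
  choose K hK hK' kf gf hDe using hdec
  have huniq : ∀ {k k' : V} {x x' z z' : F}, k ∈ B.C → k ∈ B'.C → k' ∈ B.C → k' ∈ B'.C →
      k + B.lam x + B.hh z = k' + B.lam x' + B.hh z' → k = k' ∧ x = x' ∧ z = z' := by
    intro k k' x x' z z' hk hk1 hk2 hk3 e
    obtain ⟨e1, e2, e3, -⟩ := h.indep (sub_mem hk hk2) (sub_mem hk1 hk3) (x := x - x') (z := z - z') (y := 0) (by
      rw [map_zero, add_zero, map_sub, map_sub, ← sub_eq_zero.2 e]; abel)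
    exact ⟨sub_eq_zero.1 e1, sub_eq_zero.1 e2, sub_eq_zero.1 e3⟩
  have hadd : ∀ x y, K (x + y) = K x + K y ∧ kf (x + y) = kf x + kf y ∧ gf (x + y) = gf x + gf y := fun x y => by
    refine huniq (hK _) (hK' _) (add_mem (hK _) (hK _)) (add_mem (hK' _) (hK' _)) ?_
    rw [← hDe, show (x + y) * (x + y) = x * x + y * y by linear_combination (x * y) * h2, map_add, map_add,
      map_add, map_add, show B'.om (x * x) + B'.om (y * y) + (B.om x + B.om y) =
        B'.om (x * x) + B.om x + (B'.om (y * y) + B.om y) by abel, hDe, hDe]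
    abel
  -- the two tori commute modulo the root group
  have hw0 : w ≠ 0 := fun e => one_ne_zero (α := F) (by rw [← hw3, e, mul_zero])
  set s := Units.mk0 w hw0
  have hsv : (s : F) = w := rfl
  have hsi : ((s⁻¹ : Fˣ) : F) = w * w := by
    rw [Units.val_inv_eq_inv_val, hsv]
    exact inv_eq_of_mul_eq_one_right (by linear_combination hw3)
  have tlam : ∀ x, σ (B'.dg s) (B.lam x) = B.lam x := fun x => B'.fix_C _ _ (h.hh_mem' x)
  have thh : ∀ x, σ (B'.dg s) (B.hh x) = B.hh (w * x) := fun x => by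
    rw [← h.lam_eq, B'.app_dg_lam, h.lam_eq, hsv]
  have slam : ∀ x, σ (B.dg s) (B.lam x) = B.lam (w * x) := fun x => B.app_dg_lam s x
  have shh : ∀ x, σ (B.dg s) (B.hh x) = B.hh x := fun x => B.app_dg_C _ (B.hh_mem x)
  have hom' : ∀ y, σ (B'.dg s) (B.om y) = B.om (w * y) + (K (w * y) + K y) +
      B.lam (kf (w * y) + kf y) + B.hh (gf (w * y) + w * gf y) := fun y => by
    have e1 : ∀ y, B.om y = B'.om (y * y) + (K y + B.lam (kf y) + B.hh (gf y)) := fun y => by
      rw [← hDe, ← add_assoc, h.two, zero_add]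
    have e2 : B'.om (w * y * (w * y)) = B.om (w * y) + (K (w * y) + B.lam (kf (w * y)) + B.hh (gf (w * y))) := by
      rw [← hDe, add_left_comm, h.two, add_zero]
    rw [e1 y, map_add, map_add, map_add, B'.app_dg_om, hsi, B'.app_dg_C _ (hK' y), tlam, thh,
      show w * w * (y * y) = w * y * (w * y) by ring, e2, map_add, map_add]
    abel
  set g₁ := B.dg s * B'.dg s
  set g₂ := B'.dg s * B.dg s
  have hg₁ : ∀ y, σ g₁ (B.om y) = B.om y + (K (w * y) + K y) + B.lam (w * (kf (w * y) + kf y)) +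
      B.hh (gf (w * y) + w * gf y) := fun y => by
    rw [app_mul, hom', map_add, map_add, map_add, B.app_dg_C _ (add_mem (hK _) (hK _)), slam, shh,
      B.app_dg_om, hsi, show w * w * (w * y) = y by linear_combination y * hw3]
  have hg₂ : ∀ y, σ g₂ (B.om y) = B.om y + (K y + K (w * w * y)) + B.lam (kf y + kf (w * w * y)) +
      B.hh (gf y + w * gf (w * w * y)) := fun y => by
    rw [app_mul, B.app_dg_om, hsi, hom', show w * (w * w * y) = y by linear_combination y * hw3]
  have hfix : ∀ k x z, k ∈ B.C → k ∈ B'.C →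
      σ g₁ (k + B.lam x + B.hh z) = k + B.lam (w * x) + B.hh (w * z) ∧
      σ g₂ (k + B.lam x + B.hh z) = k + B.lam (w * x) + B.hh (w * z) := fun k x z hk hk' =>
    ⟨by simp only [g₁, app_mul, map_add, B'.app_dg_C _ hk', tlam, thh, B.app_dg_C _ hk, slam, shh],
     by simp only [g₂, app_mul, map_add, B'.app_dg_C _ hk', tlam, thh, B.app_dg_C _ hk, slam, shh]⟩
  have hu : g₁ * g₂⁻¹ ∈ A := by
    refine h.hkill _ (fun v hv => ?_) fun v => ?_
    · rw [app_mul]
      have hinv : ∃ k x z, k ∈ B.C ∧ k ∈ B'.C ∧ σ g₂⁻¹ v = k + B.lam x + B.hh z := by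
        obtain ⟨k, hk, hk', x, z, y, e⟩ := h.decomp v
        obtain ⟨c₀, hc₀, x₀, e₀⟩ := B.mem_fix_A.1 hv
        have hy := (B.indep (k + B.hh z - c₀) (sub_mem (add_mem hk (B.hh_mem z)) hc₀) (x - x₀) y (by
          rw [map_sub, ← sub_eq_zero.2 (e.symm.trans e₀)]; abel)).2
        refine ⟨k, w * w * x, w * w * z, hk, hk', ?_⟩
        rw [e, hy, map_zero, add_zero]
        conv_rhs => rw [← app_inv_self (σ := σ) g₂ (k + B.lam (w * w * x) + B.hh (w * w * z))]
        rw [(hfix _ _ _ hk hk').2, show w * (w * w * x) = x by linear_combination x * hw3,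
          show w * (w * w * z) = z by linear_combination z * hw3]
      obtain ⟨k, x, z, hk, hk', e⟩ := hinv
      rw [e, (hfix k x z hk hk').1, ← (hfix k x z hk hk').2, ← e, app_self_inv]
    · rw [app_mul]
      obtain ⟨k, hk, hk', x, z, y, e⟩ := h.decomp (σ g₂⁻¹ v)
      rw [e, show v = σ g₂ (k + B.lam x + B.hh z + B.om y) by rw [← e, app_self_inv], map_add (σ g₁),
        map_add (σ g₂), (hfix k x z hk hk').1, (hfix k x z hk hk').2,
        add_sub_add_left_eq_sub, hg₁, hg₂,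
        show ∀ o a b c a' b' c' : V, o + a + b + c - (o + a' + b' + c') = (a - a') + (b - b') + (c - c') from
          fun _ _ _ _ _ _ _ => by abel]
      exact add_mem (add_mem (B.C_le_fix (sub_mem (add_mem (hK _) (hK _)) (add_mem (hK _) (hK _))))
        (sub_mem (B.lam_mem_fix _) (B.lam_mem_fix _)))
        (sub_mem (B.C_le_fix (B.hh_mem _)) (B.C_le_fix (B.hh_mem _)))
  obtain ⟨t, ht⟩ := B.mem_A.1 hu
  have hup : ∀ y, K (w * y) + K y = K y + K (w * w * y) ∧
      w * (kf (w * y) + kf y) = t * y + (kf y + kf (w * w * y)) ∧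
      gf (w * y) + w * gf y = t * (y * y) + (gf y + w * gf (w * w * y)) := fun y => by
    refine huniq (add_mem (hK _) (hK _)) (add_mem (hK' _) (hK' _)) (add_mem (hK _) (hK _))
      (add_mem (hK' _) (hK' _)) ?_
    refine add_left_cancel (a := B.om y) ?_
    calc _ = σ g₁ (B.om y) := by rw [hg₁]; abel
      _ = σ (B.up t) (σ g₂ (B.om y)) := by rw [← app_mul, ht, inv_mul_cancel_right]
      _ = _ := by
        rw [hg₂, map_add, map_add, map_add, B.app_up_C (add_mem (hK _) (hK _)), B.app_up_C (B.hh_mem _),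
          Block.up, B.up_lam, B.up_om, mul_assoc t, map_add B.lam (t * y), map_add B.hh (t * (y * y))]
        abel
  have hK0 : ∀ y, K y = 0 := fun y => by
    have e := (hup y).1
    rw [add_comm (K y), add_left_inj] at e
    rw [show y = w * y + w * w * y by linear_combination (-y) * hw - w * y * h2, (hadd _ _).1, e, h.two]
  obtain ⟨-, e1, e2⟩ := hup 1
  simp only [mul_one] at e1 e2
  have kw2 : kf (w * w) = kf w + kf 1 := by rw [hw, (hadd w 1).2.1]
  have gw2 : gf (w * w) = gf w + gf 1 := by rw [hw, (hadd w 1).2.2]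
  set b := kf w + w * kf 1 with hb
  set a := kf 1 + b with ha
  have had : a = gf w + w * gf 1 := by
    rw [kw2] at e1
    rw [gw2] at e2
    simp only [ha, hb]
    linear_combination w * e1 - w * e2 - (kf 1 + kf w + gf w) * hw + (w * kf 1 - gf w - w * gf 1) * h2
  set c := gf 1 + a with hc
  have hkf := exists_lin hsurj hw h2 kf (fun x y => (hadd x y).2.1) a b
    (by rw [ha]; linear_combination b * h2)
    (by rw [ha, hb]; linear_combination (kf w + w * kf 1) * hw + (w * kf w + w * kf 1 + w * w * kf 1) * h2)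
  have hgf := exists_lin hsurj hw h2 gf (fun x y => (hadd x y).2.2) c a
    (by rw [hc]; linear_combination a * h2)
    (by rw [hc, had]; linear_combination (gf w + w * gf 1) * hw + (w * gf w + w * gf 1 + w * w * gf 1) * h2)
  refine ⟨a, b, c,
    { up_eq := fun u => ?_, lam_eq := fun x => ?_, hh_eq := fun x => ?_, inj := ?_, two := h.two,
      faith := h.faith, hkill := h.hkill, om_eq := fun y => ?_ }⟩
  · show B'.up u = B.up a * B.up u * (B.up a)⁻¹
    rw [← B.up_add, add_comm, B.up_add, mul_inv_cancel_right, h.up_eq]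
  · show B'.lam x = σ (B.up a) (B.hh x)
    rw [B.app_up_C (B.hh_mem x), h.lam_eq]
  · show B'.hh x = σ (B.up a) (B.lam x)
    rw [Block.up, B.up_lam, h.hh_eq]
  · intro x y e
    have e' : σ (B.up a) (B.hh x) = σ (B.up a) (B.hh y) := e
    rw [B.app_up_C (B.hh_mem x), B.app_up_C (B.hh_mem y)] at e'
    exact h.inj e'
  · show B'.om (y * y) = σ (B.up a) (B.om y) + σ (B.up a) (B.lam (b * (y * y))) + σ (B.up a) (B.hh (c * y))
    have e := hDe y
    rw [hK0, zero_add, hkf, hgf, map_add, map_add] at e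
    rw [Block.up, B.up_lam, B.up_om, B.fix_C _ _ (B.hh_mem _), mul_assoc a]
    calc B'.om (y * y) = B'.om (y * y) + B.om y + B.om y := by rw [add_assoc, h.two, add_zero]
      _ = _ := by rw [e]; abel

/-- Two blocks over four elements with exchanged shears. -/
theorem false_of_swap (hp : ∀ v : V, p • v = 0) (hf : ∀ g : P, (∀ v, σ g v = v) → g = 1) (hbd : Bound σ p)
    (hA : Off σ p A) {B B' : Block σ F A} (h4 : Nat.card F = 4) (hinj : Function.Injective B.hh)
    (hL' : B'.lam.range = B.hh.range) (hR' : B'.hh.range = B.lam.range) {M : Subgroup P} (hAM : A ≤ M)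
    (hdM : ∀ s, B.dg s ∈ M) (hdM' : ∀ s, B'.dg s ∈ M) (hout : ¬ B.grp ≤ M) (hout' : ¬ B'.grp ≤ M)
    {l : V} (hlA : l ∈ comS σ A) (hlM : ∀ g ∈ B.grp ⊔ B'.grp, σ g l = l → g ∈ M) : False := by
  classical
  obtain ⟨w, hw, hw3, h2, hpow⟩ := exists_omega (F := F) h4
  have hsurj := Four.emb_surjective (w := w) h4 hw h2 hw3
  obtain ⟨B₁', h1, hgrp', hdM1'⟩ := exists_nrm hp hf
    (fun u h1 h2 => mem_of_hkill hp hf hbd hA B.quad h1 h2) hpow h2 hinj hL' hR' hdM'
  obtain ⟨a, b, c, h⟩ := exists_nf hw h2 hw3 hpow hsurj h1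
  set B₁ := B.conjSelf (B.up a) (B.cj_up a) with hB₁
  have hgrp : B₁.grp = B.grp := (B.conjSelf_grp _ _).trans (B.cj_grp_self (B.up_mem_grp a))
  have hdM1 : ∀ s, B₁.dg s ∈ M := fun s =>
    mul_mem (mul_mem (hAM (B.up_mem a)) (hdM s)) (inv_mem (hAM (B.up_mem a)))
  rw [← hgrp] at hout
  rw [← hgrp'] at hout'
  rw [← hgrp, ← hgrp'] at hlM
  obtain ⟨x₁, x₂, hl⟩ := B₁.exists_of_mem_comS hlA
  have hx₁ : x₁ ≠ 0 := fun e => hout fun g hg => hlM g (mem_sup_left hg) (by
    obtain ⟨g, rfl⟩ := hg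
    rw [hl, e, map_zero, zero_add, B₁.fix_C g _ (B₁.hh_mem x₂)])
  have hx₂ : x₂ ≠ 0 := fun e => hout' fun g hg => hlM g (mem_sup_right hg) (by
    obtain ⟨g, rfl⟩ := hg
    rw [hl, e, map_zero, add_zero, B₁'.fix_C g _ (h.hh_mem' x₁)])
  have key : ∀ (k r : Fˣ) (i j : Fin 4), (i = 0 ∨ i = 1) → (j = 0 ∨ j = 1) →
      Four.emb w i = b * k → Four.emb w j = c * ((k : F) * k) * ((r : F) * r) →
      (i = 0 → j = 0 → (r : F) * k = x₁ ∧ (k : F) * k = x₂) → False := by
    intro k r i j hi hj ei ej hij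
    have h' := h.rescale hpow k r
    rw [← ei, ← ej] at h'
    have g1 : ((B₁.conjSelf (B₁.dg r) (B₁.cj_dg r)).scale k).grp = B₁.grp :=
      (B₁.conjSelf_grp (B₁.dg r) (B₁.cj_dg r)).trans (B₁.cj_grp_self (B₁.dg_mem_grp r))
    have g2 : ((B₁'.conjSelf (B₁'.dg r) (B₁'.cj_dg r)).scale (k * k * (r * r))).grp = B₁'.grp :=
      (B₁'.conjSelf_grp (B₁'.dg r) (B₁'.cj_dg r)).trans (B₁'.cj_grp_self (B₁'.dg_mem_grp r))
    refine h'.false hw h2 hw3 hpow hsurj hAM
      (fun s => mul_mem (mul_mem (hdM1 r) (hdM1 s)) (inv_mem (hdM1 r)))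
      (fun s => mul_mem (mul_mem (hdM1' r) (hdM1' s)) (inv_mem (hdM1' r)))
      (by rw [g1]; exact hout) hi hj fun i0 j0 g hg hfix => hlM g (by rwa [g1, g2] at hg) ?_
    obtain ⟨e1, e2⟩ := hij i0 j0
    have hl2 : l = ((B₁.conjSelf (B₁.dg r) (B₁.cj_dg r)).scale k).lam 1 +
        ((B₁.conjSelf (B₁.dg r) (B₁.cj_dg r)).scale k).hh 1 := by
      show l = σ (B₁.dg r) (B₁.lam ((k : F) * 1)) + σ (B₁.dg r) (B₁.hh ((k : F) * k * 1))
      rw [B₁.app_dg_lam, B₁.app_dg_C _ (B₁.hh_mem _), mul_one, mul_one, e1, e2, hl]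
    rw [hl2]
    exact hfix
  by_cases hb : b = 0
  · by_cases hc : c = 0
    · refine key (Units.mk0 (x₂ * x₂) (mul_ne_zero hx₂ hx₂)) (Units.mk0 (x₁ * x₂) (mul_ne_zero hx₁ hx₂)) 0 0
        (Or.inl rfl) (Or.inl rfl) (by simp [hb]) (by simp [hc]) fun _ _ => ⟨?_, ?_⟩
      · simp only [Units.val_mk0]
        linear_combination x₁ * cube_eq_one hpow hx₂
      · simp only [Units.val_mk0]
        linear_combination hpow x₂
    · refine key 1 (Units.mk0 c hc) 0 1 (Or.inl rfl) (Or.inr rfl) (by simp [hb]) ?_ fun _ h => absurd h (by decide)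
      simp only [Units.val_one, Units.val_mk0, Four.emb_one]
      linear_combination -cube_eq_one hpow hc
  · by_cases hc : c = 0
    · refine key (Units.mk0 (b * b) (mul_ne_zero hb hb)) 1 1 0 (Or.inr rfl) (Or.inl rfl) ?_ (by simp [hc])
        fun h _ => absurd h (by decide)
      simp only [Units.val_mk0, Four.emb_one]
      linear_combination -cube_eq_one hpow hb
    · refine key (Units.mk0 (b * b) (mul_ne_zero hb hb)) (Units.mk0 (c * b) (mul_ne_zero hc hb)) 1 1
        (Or.inr rfl) (Or.inr rfl) ?_ ?_ fun h _ => absurd h (by decide)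
      · simp only [Units.val_mk0, Four.emb_one]
        linear_combination -cube_eq_one hpow hb
      · simp only [Units.val_mk0, Four.emb_one]
        linear_combination (-(b * b * b * (b * b * b))) * cube_eq_one hpow hc +
          (-1 - b * b * b) * cube_eq_one hpow hb

end Cfsg.Agent.FFMinimal
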