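import Cfsg.Agent.Lib.FFMinimal.Member
import Cfsg.Agent.Lib.FFMinimal.Swap
import Cfsg.Agent.Lib.FFMinimal.Dual

/-!
A minimal offender has a conjugate in the Sylow subgroup with a natural block outside the maximal subgroup.

* `exists_natural_conj` : the statement
* `good_of_known` : the hypotheses `Good` for an irreducible configuration
-/

set_option autoImplicit false

namespace Cfsg.Agent.FFMinimal

open Subgroup
open scoped MatrixGroups
open OffenderSL2 (fixS cj app_mul app_one app_inv_self app_self_inv fix_le fix_sup mem_fix_cj apply_mem_fix_cj mem_cj cj_cj)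

universe u v

variable {P : Type u} [Group P] {V : Type v} [AddCommGroup V] {σ : P →* AddMonoid.End V} {p : ℕ}

/-- A pointwise stabiliser. -/
def fixingV (σ : P →* AddMonoid.End V) (W : Set V) : Subgroup P where
  carrier := {g | ∀ w ∈ W, σ g w = w}
  one_mem' := fun w _ => app_one w
  mul_mem' := fun {a b} ha hb w hw => by rw [app_mul, hb w hw, ha w hw]
  inv_mem' := fun {a} ha w hw => by
    conv_lhs => rw [← ha w hw]
    rw [app_inv_self]

/-- A setwise stabiliser. -/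
def stabV [Finite P] (σ : P →* AddMonoid.End V) (W : AddSubgroup V) : Subgroup P where
  carrier := {g | ∀ w ∈ W, σ g w ∈ W}
  one_mem' := fun w hw => by rw [app_one]; exact hw
  mul_mem' := fun {a b} ha hb w hw => by rw [app_mul]; exact ha _ (hb w hw)
  inv_mem' := fun {a} ha w hw => by
    have h : ∀ n : ℕ, ∀ w ∈ W, σ (a ^ n) w ∈ W := fun n => by
      induction n with
      | zero => intro w hw; rw [pow_zero, app_one]; exact hw
      | succ n ih => intro w hw; rw [pow_succ, app_mul]; exact ih _ (ha w hw)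
    have e : a⁻¹ = a ^ (orderOf a - 1) := by
      refine inv_eq_of_mul_eq_one_right ?_
      rw [← pow_succ', Nat.sub_add_cancel (orderOf_pos a), pow_orderOf_eq_one]
    rw [e]; exact h _ w hw

theorem fix_map_mem {X : Subgroup P} (D : Subgroup ↥X) {v : V} :
    v ∈ fixS (σ.comp X.subtype) D ↔ v ∈ fixS σ (D.map X.subtype) := by rw [fix_map_subtype]

theorem comS_map_subtype {X : Subgroup P} (D : Subgroup ↥X) :
    comS (σ.comp X.subtype) D = comS σ (D.map X.subtype) :=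
  le_antisymm (comS_le fun d hd v => sub_mem_comS (σ := σ) (show (d : P) ∈ D.map X.subtype from ⟨d, hd, rfl⟩) v)
    (comS_le fun _ ⟨d, hd, e⟩ v => e ▸ sub_mem_comS (σ := σ.comp X.subtype) hd v)

theorem card_four_le [Finite V] {F : Type} [Field F] [Finite F] {A : Subgroup P} (B : Block σ F A)
    (hh : B.hh ≠ 0) : 4 ≤ Nat.card F := by
  have h2 : (2 : F) = 0 := by
    by_contra h
    exact hh (B.hh_eq_zero_of_two h)
  have h01 : ¬ ∀ t : F, t = 0 ∨ t = 1 := fun h => hh (B.hh_two h)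
  push Not at h01
  obtain ⟨t, ht0, ht1⟩ := h01
  classical
  haveI := Fintype.ofFinite F
  have h3 : 3 ≤ Fintype.card F := by
    have := Finset.card_le_univ ({0, 1, t} : Finset F)
    rwa [Finset.card_insert_of_notMem (by simp [Ne.symm ht0]), Finset.card_insert_of_notMem (by simp [Ne.symm ht1]),
      Finset.card_singleton] at this
  have hne3 : Fintype.card F ≠ 3 := fun e => by
    have h := FiniteField.cast_card_eq_zero F
    rw [e] at h
    exact one_ne_zero (α := F) (by push_cast at h; linear_combination h - h2)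
  rw [Nat.card_eq_fintype_card]
  omega

theorem Bound.comp_subtype [Finite P] (hB : Bound σ p) (X : Subgroup P) :
    Bound (σ.comp X.subtype) p := fun D hD => by
  rw [wt_map_subtype]
  refine hB _ ⟨?_, ?_⟩
  · rintro _ ⟨a, ha, rfl⟩ _ ⟨b, hb, rfl⟩
    rw [← map_mul, hD.comm a ha b hb, map_mul]
  · rintro _ ⟨a, ha, rfl⟩
    rw [← map_pow, hD.pow_eq a ha, map_one]

variable [Finite P] [Finite V] [Fact p.Prime]

namespace Cand

variable {T : Sylow p P} {M A : Subgroup P} (d : Cand p T M A)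

/-- The conjugates in the Sylow subgroup of `X`. -/
abbrev Mem (A' : Subgroup P) : Prop := A' ≤ d.T₀ ∧ ∃ g, cj A g = A'

/-- The normaliser inside the Sylow subgroup. -/
abbrev N : Subgroup P := (T : Subgroup P) ⊓ normalizer (d.T₀ : Set P)

/-- `O^p(X)` inside the group. -/
abbrev O : Subgroup P := (Cfsg.pResidual p ↥d.X).map d.X.subtype

variable (hctx : Ctx σ p) (hM : IsCoatom M) (hTM : (T : Subgroup P) ≤ M)
include d hctx hM hTM

theorem T₀_lt_N : d.T₀ < d.N := by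
  refine lt_inf_normalizer T.2 (lt_of_le_of_ne d.le fun e => d.ne_top ?_)
  exact PMinimal.eq_top_of_not_le T hM hTM hctx.pmin (e ▸ d.T₀_le_X) d.not_le

theorem mem_conj {A' : Subgroup P} (h : d.Mem A') {n : P} (hn : n ∈ d.N) : d.Mem (cj A' n) := by
  obtain ⟨hle, g, hg⟩ := h
  refine ⟨?_, n * g, by rw [← cj_cj, hg]⟩
  rintro _ ⟨a, ha, rfl⟩
  exact (mem_normalizer_iff.1 hn.2 a).1 (hle ha)

/-- Elements permuting the conjugates in `T₀` lie in `M`. -/
theorem mem_M_of_permutes (hne : A ≠ ⊥) {x : P} (h : ∀ A', d.Mem A' → d.Mem (cj A' x)) : x ∈ M := by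
  obtain ⟨g₀, hg₀, -⟩ := d.member
  set J : Subgroup P := ⨆ B : {B : Subgroup P // d.Mem B}, (B : Subgroup P) with hJ
  have hJle : J ≤ d.T₀ := iSup_le fun B => B.2.1
  have hJne : J ≠ ⊥ := fun e => hne (by
    have h1 : cj A g₀ ≤ J := le_iSup (fun B : {B : Subgroup P // d.Mem B} => (B : Subgroup P)) ⟨_, hg₀, g₀, rfl⟩
    have := le_bot_iff.1 (e ▸ h1)
    rwa [Subgroup.map_eq_bot_iff_of_injective _ (MulAut.conj g₀).injective] at this)
  have key : ∀ y, (∀ A', d.Mem A' → d.Mem (cj A' y)) → cj J y = J := fun y hy => by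
    refine Subgroup.eq_of_le_of_card_ge ?_ (card_map_of_injective (MulAut.conj y).injective).ge
    rw [cj, Subgroup.map_iSup]
    exact iSup_le fun B =>
      le_iSup (fun B : {B : Subgroup P // d.Mem B} => (B : Subgroup P)) ⟨cj B.1 y, hy _ B.2⟩
  have hn : ∀ y, cj J y = J → y ∈ normalizer (J : Set P) := fun y e => mem_normalizer_iff.2 fun z => by
    conv_rhs => rw [← e]
    exact ⟨fun hz => ⟨z, hz, rfl⟩, fun ⟨w, hw, hwe⟩ => (MulAut.conj y).injective hwe ▸ hw⟩
  by_contra hx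
  have htop := d.max (normalizer (J : Set P)) d.N inf_le_left
    (fun y hy => hn y (key y fun A' hA' => d.mem_conj hctx hM hTM hA' hy))
    (fun hle => hx (hle (hn x (key x h)))) (d.T₀_lt_N hctx hM hTM)
  exact hctx.not_normal (T.2.to_le (hJle.trans d.le)) hJne (normalizer_eq_top_iff.1 htop)

variable (hK : Known.{u, v} (P := P) p) (c : Chief (σ.comp d.X.subtype) p)
include hK c

theorem good : Good c.actBar p := by
  have hX := d.xdata hctx.exponent hTM
  have hC := c.ctx hX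
  have hconcl := d.known hK hctx.exponent hTM c
  haveI : Finite (c.U →+ ZMod p) := Finite.of_injective (fun f => (f : c.U → ZMod p)) DFunLike.coe_injective
  exact ⟨hC.exponent, hC.faith, hconcl.bound, fun D hD => card_le_comS hC.exponent
    (hK c.Xbar (c.U →+ ZMod p) (dualAct c.actBar p) (d.card_xbar_lt c) hC.dual).bound hD,
    fun _ hA' => hconcl.root hC.pmin hA'⟩

omit hK in
theorem not_V₁_le (hres : ∀ o ∈ Cfsg.pResidual p ↥d.X, ∀ v, σ (o : P) v - v ∈ c.V₁) :
    ¬ c.V₁ ≤ comS (σ.comp d.X.subtype) (d.S : Subgroup ↥d.X) := by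
  intro hle
  rw [comS_map_subtype] at hle
  set W := comS σ (T : Subgroup P)
  have hW : c.V₁ ≤ W := hle.trans (comS_mono d.le)
  have hT : (T : Subgroup P) ≤ stabV σ W := fun t ht w hw => by
    have := apply_mem_comS_cj (σ := σ) t hw
    refine comS_mono ?_ this
    rintro _ ⟨a, ha, rfl⟩
    exact mul_mem (mul_mem ht ha) (inv_mem ht)
  have hX : d.X ≤ stabV σ W := fun x hx =>
    ((PReduced.pResidual_sup_sylow d.S).ge.trans (sup_le
      (fun o ho w hw => by
        show σ (o : P) w ∈ W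
        rw [show σ (o : P) w = (σ (o : P) w - w) + w by abel]
        exact add_mem (hW (hres o ho w)) hw)
      (fun s hs => hT (d.le ⟨s, hs, rfl⟩)) : _ ≤ (stabV σ W).comap d.X.subtype) (mem_top (⟨x, hx⟩ : ↥d.X)) :
      (⟨x, hx⟩ : ↥d.X) ∈ (stabV σ W).comap d.X.subtype)
  have htop : stabV σ W = ⊤ := PMinimal.eq_top_of_not_le T hM hTM hctx.pmin hT fun h => d.not_le (hX.trans h)
  rcases hctx.irr W (fun g w hw => (htop.ge (mem_top g) : g ∈ stabV σ W) w hw) with h | h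
  · refine c.moved (le_trans (hW.trans h.le) bot_le)
  · exact comS_ne_top hctx.exponent T.2 hctx.nt h

variable (hA : MinOff σ p A) (hbd : Bound σ p)
include hA hbd

/-- The block of a conjugate outside `O_p(X)`. -/
theorem exists_block {A₁ : Subgroup P} (h₁ : d.Mem A₁) (hnQ : ¬ A₁.subgroupOf d.X ≤ Cfsg.pCore p ↥d.X) :
    ∃ (F : Type) (_ : Field F) (_ : Finite F) (B : Block σ F A₁),
      (∀ x, B.hh x ∈ fixS σ d.O) ∧ ¬ B.grp ≤ M ∧
      (B.hh ≠ 0 → (∀ s, B.dg s ∈ M) ∧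
        (∀ A', d.Mem A' → A' ≠ A₁ → comS σ A' ≤ fixS σ B.grp) ∧
        ∀ A', d.Mem A' → A'.subgroupOf d.X ≤ Cfsg.pCore p ↥d.X → comS σ A' ≤ fixS σ d.O) := by
  classical
  have hX := d.xdata hctx.exponent hTM
  have hf : ∀ x : ↥d.X, (∀ v, (σ.comp d.X.subtype) x v = v) → x = 1 :=
    fun x hx => Subtype.ext (hctx.faith x hx)
  have hle : ∀ {A'}, d.Mem A' → A' ≤ d.X := fun h => h.1.trans d.T₀_le_X
  have hmap : ∀ {A'}, d.Mem A' → (A'.subgroupOf d.X).map d.X.subtype = A' := fun h => by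
    rw [subgroupOf_map_subtype, inf_eq_left.2 (hle h)]
  have hseen : ∀ {A'}, d.Mem A' → ¬ A'.subgroupOf d.X ≤ Cfsg.pCore p ↥d.X →
      c.Seen (A'.subgroupOf d.X) ∧ A'.subgroupOf d.X ≤ (d.S : Subgroup ↥d.X) := by
    rintro A' ⟨hA', g, rfl⟩ hn
    exact d.seen hctx hK hTM hA.off.elem hA.off.le hA.strict c hA' hn
  obtain ⟨hs, hS⟩ := hseen h₁ hnQ
  obtain ⟨F, iF, fF, B', B₀, hφ, h₀, hout, hhC, htriv⟩ :=
    c.lift_block hX hf (d.known hK hctx.exponent hTM c) hs hS
  set B : Block σ F A₁ := B'.push (hmap h₁) with hB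
  have hgrp : B.grp = B'.grp.map d.X.subtype := B'.push_grp _
  refine ⟨F, iF, fF, B, fun x => (fix_map_mem _).1 (hhC x).2, fun h => hout fun g hg => h (hgrp ▸ ⟨g, hg, rfl⟩),
    fun hne => ?_⟩
  have h4 : 4 ≤ Nat.card F := card_four_le B hne
  have hnt : ¬ c.V₁ ≤ comS (σ.comp d.X.subtype) (d.S : Subgroup ↥d.X) :=
    d.not_V₁_le hctx hM hTM c fun o ho v => c.residual_trivial hX hS
      (fun h => hnQ fun x hx => c.K_inf_sylow hX ⟨h hx, hS hx⟩) hs.triv o ho v
  have hO : B.grp ≤ d.O := hgrp ▸ map_mono (B'.grp_le_residual hctx.exponent h4)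
  have hcore : ∀ A', d.Mem A' → A'.subgroupOf d.X ≤ Cfsg.pCore p ↥d.X → comS σ A' ≤ fixS σ d.O := by
    intro A' hA' hQ
    have h := c.comS_le_fix_of_core hX hf hnt
      (c.residual_trivial hX hS (fun h => hnQ fun x hx => c.K_inf_sylow hX ⟨h hx, hS hx⟩) hs.triv) hQ
    rw [comS_map_subtype, hmap hA', fix_map_subtype] at h
    exact h
  have hother : ∀ A', d.Mem A' → A' ≠ A₁ → comS σ A' ≤ fixS σ B.grp ∧ comS σ B.grp ≤ fixS σ A' := by
    intro A' hA' hne'
    by_cases hQ : A'.subgroupOf d.X ≤ Cfsg.pCore p ↥d.X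
    · refine ⟨(hcore A' hA' hQ).trans (fix_le hO), ?_⟩
      rw [hgrp, ← comS_map_subtype, ← hmap hA', ← fix_map_subtype]
      exact (comS_le fun g hg v => htriv g hg v).trans (c.coreFix.trans (fix_le hQ))
    · obtain ⟨hs', hS'⟩ := hseen hA' hQ
      have himg : c.img (A'.subgroupOf d.X) ≠ c.img (A₁.subgroupOf d.X) := fun e => hne' (by
        have h1 := Chief.Seen.eq_of_img_eq c hX hf (hbd.comp_subtype d.X) hnt hs hs' B'.quad e
        have h2 := map_mono (f := d.X.subtype) h1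
        rw [hmap hA', hmap h₁] at h2
        obtain ⟨-, g, rfl⟩ := hA'
        obtain ⟨-, g₁, rfl⟩ := h₁
        exact Subgroup.eq_of_le_of_card_ge h2 (by
          rw [card_map_of_injective (MulAut.conj g₁).injective, card_map_of_injective (MulAut.conj g).injective]))
      obtain ⟨e1, e2⟩ := Chief.Seen.block_commute c hX hf (d.good hctx hM hTM hK c) hs hs' hS hS' himg B' B₀ hφ
        h₀ h4 htriv
      rw [comS_map_subtype, fix_map_subtype, hmap hA', ← hgrp] at e1 e2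
      exact ⟨e1, e2⟩
  refine ⟨fun s => d.mem_M_of_permutes hctx hM hTM hA.off.ne fun A' hA' => ?_,
    fun A' hA' hne' => (hother A' hA' hne').1, hcore⟩
  by_cases e : A' = A₁
  · subst e; rw [B.cj_dg]; exact hA'
  · obtain ⟨e1, e2⟩ := hother A' hA' e
    rw [cj_eq_of_comm fun a ha => (commute_of_comS hctx.faith e1 e2 a ha _ (B.dg_mem_grp s))]
    exact hA'

theorem exists_natural :
    ∃ g, cj A g ≤ (T : Subgroup P) ∧
      ∃ (F : Type) (_ : Field F) (_ : Finite F) (B : Block σ F (cj A g)), B.hh = 0 ∧ ¬ B.grp ≤ M := by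
  classical
  by_contra hno
  have hne : ∀ {A₁ : Subgroup P}, d.Mem A₁ → ∀ (F : Type) [Field F] [Finite F] (B : Block σ F A₁),
      ¬ B.grp ≤ M → B.hh ≠ 0 := by
    rintro A₁ ⟨hle, g, rfl⟩ F iF fF B hB h0
    exact hno ⟨g, hle.trans d.le, F, iF, fF, B, h0, hB⟩
  obtain ⟨g₀, hg₀, hnQ₀⟩ := d.member
  set A₀ := cj A g₀ with hA₀
  have hmem₀ : d.Mem A₀ := ⟨hg₀, g₀, rfl⟩
  obtain ⟨F, iF, fF, B₀, -, hout₀, hB₀⟩ := d.exists_block hctx hM hTM hK c hA hbd hmem₀ hnQ₀
  obtain ⟨hdM₀, hoth₀, hcore⟩ := hB₀ (hne hmem₀ F B₀ hout₀)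
  have h4 : 4 ≤ Nat.card F := card_four_le B₀ (hne hmem₀ F B₀ hout₀)
  set W := AddSubgroup.closure {w | ∃ n ∈ d.N, ∃ x, σ n (B₀.hh x) = w} with hW
  -- the translates of the shear are not all fixed by `O^p(X)`
  obtain ⟨n, hn, x₀, hx₀⟩ : ∃ n ∈ d.N, ∃ x, σ n (B₀.hh x) ∉ fixS σ d.O := by
    by_contra hc
    push Not at hc
    have hWO : W ≤ fixS σ d.O := (AddSubgroup.closure_le _).2 (by
      rintro _ ⟨n, hn, x, rfl⟩; exact hc n hn x)
    have hN : d.N ≤ stabV σ W := fun m hm w hw => by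
      refine (AddSubgroup.closure_le (K := W.comap (σ m))).2 ?_ hw
      rintro _ ⟨n, hn, x, rfl⟩
      exact AddSubgroup.subset_closure ⟨m * n, mul_mem hm hn, x, app_mul _ _ _⟩
    have hX : d.X ≤ stabV σ W := fun y hy =>
      ((PReduced.pResidual_sup_sylow d.S).ge.trans (sup_le
        (fun o ho w hw => by
          show σ (o : P) w ∈ W
          rw [show σ (o : P) w = w from hWO hw _ ⟨o, ho, rfl⟩]; exact hw)
        (fun s hs => hN ((d.T₀_lt_N hctx hM hTM).le ⟨s, hs, rfl⟩)) :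
          _ ≤ (stabV σ W).comap d.X.subtype) (mem_top (⟨y, hy⟩ : ↥d.X)) :
        (⟨y, hy⟩ : ↥d.X) ∈ (stabV σ W).comap d.X.subtype)
    have htop := d.max (stabV σ W) d.N inf_le_left hN (fun h => d.not_le (hX.trans h)) (d.T₀_lt_N hctx hM hTM)
    rcases hctx.irr W (fun g w hw => (htop.ge (mem_top g) : g ∈ stabV σ W) w hw) with h | h
    · refine hne hmem₀ F B₀ hout₀ (AddMonoidHom.ext fun x => AddSubgroup.mem_bot.1 (h.le ?_))
      exact AddSubgroup.subset_closure ⟨1, one_mem _, x, app_one _⟩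
    · exact c.moved fun v _ => (fix_map_mem _).2 (hWO (h.ge (AddSubgroup.mem_top v)))
  set A₁ := cj A₀ n with hA₁
  have hmem₁ : d.Mem A₁ := d.mem_conj hctx hM hTM hmem₀ hn
  have hq4 : ∃ s : Fˣ, (s : F) ≠ 1 := by
    obtain ⟨s, hs⟩ := exists_sq_ne_one h4
    exact ⟨s, fun e => hs (by rw [e, one_mul])⟩
  have hnQ₁ : ¬ A₁.subgroupOf d.X ≤ Cfsg.pCore p ↥d.X := fun hQ =>
    hx₀ (hcore A₁ hmem₁ hQ ((B₀.conj n).hh_mem_comS hq4 x₀))
  obtain ⟨F₁, iF₁, fF₁, B₁, hhO, hout₁, hB₁⟩ := d.exists_block hctx hM hTM hK c hA hbd hmem₁ hnQ₁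
  obtain ⟨hdM₁, hoth₁, -⟩ := hB₁ (hne hmem₁ F₁ B₁ hout₁)
  haveI := Fintype.ofFinite F
  haveI := Fintype.ofFinite F₁
  have hcardF : Fintype.card F = Fintype.card F₁ := by
    rw [← Nat.card_eq_fintype_card, ← Nat.card_eq_fintype_card, ← B₁.card_A, ← (B₀.conj n).card_A]
  set B' := (B₀.conj n).mapField (FiniteField.ringEquivOfCardEq hcardF) with hB'
  have hgrp' : B'.grp = cj B₀.grp n := by rw [hB', Block.mapField_grp, B₀.conj_grp]
  have hnM : n ∈ M := hTM hn.1
  rcases B₁.range_dichotomy B' (card_four_le B₁ (hne hmem₁ F₁ B₁ hout₁)) with h | ⟨hF4, hinj, hL', hR'⟩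
  · obtain ⟨y, hy⟩ : σ n (B₀.hh x₀) ∈ B₁.hh.range := by
      rw [← h, hB', Block.mapField_range_hh]; exact ⟨x₀, rfl⟩
    exact hx₀ (hy ▸ hhO y)
  -- a fixed vector
  have hA₁M : A₁ ≤ M := hmem₁.1.trans (d.le.trans hTM)
  let N₁ : Subgroup ↥d.N :=
    { carrier := {t | cj A₁ (t : P) = A₁}
      one_mem' := cj_eq_of_comm fun a _ => by simp
      mul_mem' := fun {a b} ha hb => by
        show cj A₁ ((a : P) * b) = A₁
        rw [← cj_cj, hb, ha]
      inv_mem' := fun {a} ha => by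
        show cj A₁ ((a : P)⁻¹) = A₁
        conv_lhs => rw [← show cj A₁ (a : P) = A₁ from ha, cj_cj, inv_mul_cancel]
        exact cj_eq_of_comm fun a _ => by simp }
  have hA₁ne : comS σ A₁ ≠ ⊥ := fun e => by
    refine hne hmem₁ F₁ B₁ hout₁ (AddMonoidHom.ext fun x => AddSubgroup.mem_bot.1 (e.le ?_))
    obtain ⟨s, hs⟩ := exists_sq_ne_one (card_four_le B₁ (hne hmem₁ F₁ B₁ hout₁))
    exact B₁.hh_mem_comS ⟨s, fun e => hs (by rw [e, one_mul])⟩ x
  obtain ⟨l, hl, hl0, hlN⟩ := exists_fixed_ne_zero (σ := σ) hctx.exponent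
    (T.2.to_le ((map_subtype_le N₁).trans inf_le_left) : IsPGroup p ↥(N₁.map d.N.subtype)) (comS σ A₁) (fun b hb w hw => by
      obtain ⟨t, ht, rfl⟩ := hb
      have := apply_mem_comS_cj (σ := σ) (t : P) hw
      rwa [show cj A₁ (t : P) = A₁ from ht] at this) hA₁ne
  let f : ↥d.N ⧸ N₁ → V := fun q => Quotient.liftOn' q (fun t => σ (t : P) l) fun a b h => by
    have h' : a⁻¹ * b ∈ N₁ := QuotientGroup.leftRel_apply.1 h
    have e := hlN _ ⟨_, h', rfl⟩
    show σ (a : P) l = σ (b : P) l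
    conv_lhs => rw [← e]
    rw [← app_mul]
    congr 2
    simp
  haveI := Fintype.ofFinite (↥d.N ⧸ N₁)
  set Z := ∑ q, f q with hZ
  have hZN : ∀ m ∈ d.N, σ m Z = Z := fun m hm => by
    rw [hZ, map_sum]
    refine Fintype.sum_equiv (MulAction.toPerm (⟨m, hm⟩ : ↥d.N)) _ _ fun q => ?_
    induction q using Quotient.inductionOn' with
    | h t => exact (app_mul m (t : P) l).symm
  have hrest : ∀ g ∈ B₁.grp ⊔ B'.grp, ∀ q, q ≠ ((1 : ↥d.N) : ↥d.N ⧸ N₁) → σ g (f q) = f q := by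
    intro g hg q hq
    induction q using Quotient.inductionOn' with
    | h t =>
      have hne' : cj A₁ (t : P) ≠ A₁ := fun e => hq (QuotientGroup.eq.2 (by
        rw [mul_one]; exact inv_mem (show t ∈ N₁ from e)))
      have hmemt : d.Mem (cj A₁ (t : P)) := d.mem_conj hctx hM hTM hmem₁ t.2
      have hv : σ (t : P) l ∈ comS σ (cj A₁ (t : P)) := apply_mem_comS_cj _ hl
      have h1 : B₁.grp ≤ fixingV σ {σ (t : P) l} := fun e he w hw => by
        rw [Set.mem_singleton_iff.1 hw]; exact hoth₁ _ hmemt hne' hv e he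
      have h2 : B'.grp ≤ fixingV σ {σ (t : P) l} := by
        rw [hgrp']
        rintro _ ⟨e, he, rfl⟩ w hw
        rw [Set.mem_singleton_iff.1 hw]
        have hm2 : d.Mem (cj (cj A₁ (t : P)) n⁻¹) := d.mem_conj hctx hM hTM hmemt (inv_mem hn)
        have hne2 : cj (cj A₁ (t : P)) n⁻¹ ≠ A₀ := fun e => hne' (by
          have := congrArg (fun H => cj H n) e
          rwa [cj_cj (cj A₁ (t : P)), mul_inv_cancel, cj_eq_of_comm fun a _ => by simp] at this)
        have h3 : σ n⁻¹ (σ (t : P) l) ∈ fixS σ B₀.grp := hoth₀ _ hm2 hne2 (apply_mem_comS_cj n⁻¹ hv)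
        show σ (n * e * n⁻¹) (σ (t : P) l) = σ (t : P) l
        rw [app_mul, app_mul, h3 e he, app_self_inv]
      exact (sup_le h1 h2 hg : g ∈ fixingV σ {σ (t : P) l}) _ rfl
  have hsplit : Z = l + ∑ q ∈ Finset.univ.erase ((1 : ↥d.N) : ↥d.N ⧸ N₁), f q := by
    rw [hZ, ← Finset.add_sum_erase _ _ (Finset.mem_univ ((1 : ↥d.N) : ↥d.N ⧸ N₁))]
    congr 1
    exact app_one l
  have hfixrest : ∀ g ∈ B₁.grp ⊔ B'.grp,
      σ g (∑ q ∈ Finset.univ.erase ((1 : ↥d.N) : ↥d.N ⧸ N₁), f q) =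
        ∑ q ∈ Finset.univ.erase ((1 : ↥d.N) : ↥d.N ⧸ N₁), f q := fun g hg => by
    rw [map_sum]
    exact Finset.sum_congr rfl fun q hq => hrest g hg q (Finset.ne_of_mem_erase hq)
  have hZ0 : Z ≠ 0 := fun e => by
    rw [hsplit, add_eq_zero_iff_eq_neg] at e
    have hlfix : ∀ g ∈ B₁.grp ⊔ B'.grp, σ g l = l := fun g hg => by rw [e, map_neg, hfixrest g hg]
    have hlC : l ∈ B₁.C := by rw [← B₁.fix_grp]; exact fun g hg => hlfix g (mem_sup_left hg)
    obtain ⟨x, y, hxy⟩ := B₁.exists_of_mem_comS hl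
    have hx : x = 0 := (B₁.indep (B₁.hh y - l) (sub_mem (B₁.hh_mem y) hlC) x 0 (by
      rw [map_zero, add_zero, hxy]; abel)).1
    obtain ⟨z, hz⟩ := hL'.ge ⟨y, rfl⟩
    have hlC' : l ∈ B'.C := by rw [← B'.fix_grp]; exact fun g hg => hlfix g (mem_sup_right hg)
    have hle : l = B'.lam z := by rw [hz, hxy, hx, map_zero, zero_add]
    have hz0 := (B'.indep (-l) (neg_mem hlC') z 0 (by rw [map_zero, add_zero, ← hle, neg_add_cancel])).1
    exact hl0 (by rw [hle, hz0, map_zero])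
  have hstab : fixingV σ {Z} ≤ M := by
    by_contra hc
    have htop := d.max (fixingV σ {Z}) d.N inf_le_left
      (fun m hm w hw => by rw [Set.mem_singleton_iff.1 hw]; exact hZN m hm) hc (d.T₀_lt_N hctx hM hTM)
    exact hZ0 (AddSubgroup.mem_bot.1 (hctx.fix_top_eq_bot.le fun g _ =>
      (htop.ge (mem_top g) : g ∈ fixingV σ {Z}) Z rfl))
  refine false_of_swap hctx.exponent hctx.faith hbd (B := B₁) (B' := B') (M := M) ?_ hF4 hinj hL' hR' hA₁M hdM₁
    (fun s => ?_) hout₁ (fun hle => hout₀ fun g hg => ?_) hl fun g hg hgl => hstab fun w hw => ?_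
  · obtain ⟨-, g, hg⟩ := hmem₁
    rw [← hg]; exact hA.off.conj g
  · rw [hB', Block.mapField_dg]
    exact mul_mem (mul_mem hnM (hdM₀ _)) (inv_mem hnM)
  · have h1 : n * g * n⁻¹ ∈ M := hle (by rw [hgrp']; exact ⟨g, hg, rfl⟩)
    have := mul_mem (mul_mem (inv_mem hnM) h1) hnM
    simpa [mul_assoc] using this
  · rw [Set.mem_singleton_iff.1 hw, hsplit, map_add, hgl, hfixrest g hg]

end Cand

/-- A conjugate in the Sylow subgroup has a natural block outside the maximal subgroup. -/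
theorem exists_natural_conj (hctx : Ctx σ p) (hK : Known.{u, v} (P := P) p) {T : Sylow p P} {M A : Subgroup P}
    (hM : IsCoatom M) (hTM : (T : Subgroup P) ≤ M) (hA : MinOff σ p A) (hAT : A ≤ (T : Subgroup P)) :
    ∃ g, cj A g ≤ (T : Subgroup P) ∧
      ∃ (F : Type) (_ : Field F) (_ : Finite F) (B : Block σ F (cj A g)), B.hh = 0 ∧ ¬ B.grp ≤ M := by
  rcases exists_cases hctx hM hTM hA.off.elem hA.off.ne hAT hA.off.le hA.strict with
    ⟨F, iF, fF, B, hB, hout⟩ | ⟨⟨d⟩⟩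
  · have e : cj A (1 : P) = A := cj_eq_of_comm fun a _ => by simp
    exact ⟨1, by rw [e]; exact hAT, F, iF, fF, { B with eqA := e.trans B.eqA }, hB, hout⟩
  · obtain ⟨c⟩ := d.exists_chief hctx hM hTM
    exact d.exists_natural hctx hM hTM hK c hA (bound_of_known hctx hK)

/-- The hypotheses `Good` hold. -/
theorem good_of_known (hctx : Ctx σ p) (hK : Known.{u, v} (P := P) p) : Good σ p := by
  haveI : Finite (V →+ ZMod p) := Finite.of_injective (fun f => (f : V → ZMod p)) DFunLike.coe_injective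
  refine ⟨hctx.exponent, hctx.faith, bound_of_known hctx hK,
    fun D hD => card_le_comS hctx.exponent (bound_of_known hctx.dual hK) hD, fun A hA => ?_⟩
  obtain ⟨T, hAT⟩ := hA.off.elem.isPGroup.exists_le_sylow
  obtain ⟨M, ⟨hM, hTM⟩, -⟩ := (hctx.pmin T).2
  obtain ⟨g, -, F, iF, fF, B, hB, -⟩ := exists_natural_conj hctx hK hM hTM hA hAT
  have e : cj (cj A g) g⁻¹ = A := by
    rw [cj_cj, inv_mul_cancel]; exact cj_eq_of_comm fun a _ => by simp
  refine ⟨F, iF, fF, { B.conj g⁻¹ with eqA := e.symm.trans (B.conj g⁻¹).eqA }, ?_⟩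
  exact AddMonoidHom.ext fun x => by
    show σ g⁻¹ (B.hh x) = 0
    rw [hB, AddMonoidHom.zero_apply, map_zero]

end Cfsg.Agent.FFMinimal
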