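import Cfsg.Agent.Lib.FFMinimal.Induction

/-!
A faithful action of a `p`-minimal group without normal `p`-subgroup having an offender.

* `Red` : the chief submodule on whose top the group acts faithfully, `exists_red`
* `Red.lift` : every minimal offender has a block, acting trivially modulo the chief submodule
-/

set_option autoImplicit false

namespace Cfsg.Agent.FFMinimal

open Subgroup
open scoped MatrixGroups
open OffenderSL2 (fixS cj app_mul app_one app_inv_self app_self_inv fix_le fix_sup mem_fix_cj apply_mem_fix_cj mem_cj cj_cj)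

universe u v

variable {P : Type u} [Group P] [Finite P] {V : Type v} [AddCommGroup V] [Finite V]
  {ρ : P →* AddMonoid.End V} {p : ℕ} [Fact p.Prime]

/-- The reduction to the top of a chief submodule. -/
structure Red (ρ : P →* AddMonoid.End V) (p : ℕ) [Fact p.Prime] (c : Chief ρ p) : Prop where
  exponent : ∀ v : V, p • v = 0
  faith : ∀ g : P, (∀ v, ρ g v = v) → g = 1
  pmin : Cfsg.IsPMinimal p P
  core : Cfsg.pCore p P = ⊥
  ctx : Ctx c.actBar p
  ker : c.K = ⊥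
  exists_minOff : ∃ A, MinOff ρ p A
  residual : ∀ o ∈ Cfsg.pResidual p P, ∀ v, ρ o v - v ∈ c.V₁

/-- The reduction exists. -/
theorem exists_red (hp : ∀ v : V, p • v = 0) (hf : ∀ g : P, (∀ v, ρ g v = v) → g = 1)
    (hpm : Cfsg.IsPMinimal p P) (hcore : Cfsg.pCore p P = ⊥) (hoff : ∃ A, Off ρ p A) :
    ∃ c : Chief ρ p, Red ρ p c := by
  classical
  obtain ⟨D, hD⟩ := hoff
  obtain ⟨A₀, -, hA₀⟩ := FFMinimal.exists_minOff hD
  obtain ⟨T, hA₀T⟩ := hA₀.off.elem.isPGroup.exists_le_sylow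
  obtain ⟨M, ⟨hM, hTM⟩, -⟩ := (hpm T).2
  have hmoved : ¬ (⊤ : AddSubgroup V) ≤ fixS ρ (Cfsg.pResidual p P) := by
    intro h
    refine (hpm T).1 ?_
    have h1 : Cfsg.pResidual p P = ⊥ := (Subgroup.eq_bot_iff_forall _).2 fun o ho =>
      hf o fun v => (h (AddSubgroup.mem_top v)) o ho
    have h2 := PReduced.pResidual_sup_sylow (p := p) T
    rw [h1, bot_sup_eq] at h2
    rw [h2]
    exact ⟨fun _ _ _ => mem_top _⟩
  obtain ⟨c, -⟩ := FFMinimal.exists_chief (ρ := ρ) (p := p) ⊤ (fun _ w _ => AddSubgroup.mem_top _)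
    (by rw [hcore, fix_bot]) hmoved
  have hX : XData (V := V) p T M := ⟨hp, hpm, hM, hTM⟩
  have hKT : ∀ g ∈ c.K, g ∈ (T : Subgroup P) → g = 1 := fun g hg hgT =>
    mem_bot.1 (hcore.le (c.K_inf_sylow hX ⟨hg, hgT⟩))
  have hA₀K : ¬ A₀ ≤ c.K := fun h => hA₀.off.ne ((Subgroup.eq_bot_iff_forall _).2 fun a ha =>
    hKT a (h ha) (hA₀T ha))
  have hs := c.seen hX hf (concl (c.ctx hX)) hA₀T hA₀.off.elem hA₀K hA₀.off.le hA₀.strict
  have hres := c.residual_trivial hX hA₀T hA₀K hs.triv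
  refine ⟨c, hp, hf, hpm, hcore, c.ctx hX, (Subgroup.eq_bot_iff_forall _).2 fun k hk => ?_, ⟨A₀, hA₀⟩, hres⟩
  have hcop : (orderOf k).Coprime p := by
    rw [Nat.coprime_comm, (Fact.out : p.Prime).coprime_iff_not_dvd]
    intro hdvd
    set y := k ^ (orderOf k / p) with hy
    have hy1 : orderOf y = p := orderOf_pow_orderOf_div (orderOf_pos k).ne' hdvd
    have hP : IsPGroup p ↥(zpowers y) := IsPGroup.iff_card.2 ⟨1, by rw [Nat.card_zpowers, hy1, pow_one]⟩
    obtain ⟨S', hS'⟩ := hP.exists_le_sylow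
    obtain ⟨g, hg⟩ := MulAction.exists_smul_eq P T S'
    have hyS : g⁻¹ * y * g ∈ (T : Subgroup P) := by
      have : y ∈ ((g • T : Sylow p P) : Subgroup P) := by rw [hg]; exact hS' (mem_zpowers y)
      exact mem_cj.1 this
    have h1 := hKT _ (by simpa using (inferInstance : c.K.Normal).conj_mem y (pow_mem hk _) g⁻¹) hyS
    have h2 : y = 1 := by
      have := congrArg (fun z => g * z * g⁻¹) h1
      simpa [mul_assoc] using this
    rw [h2, orderOf_one] at hy1
    exact (Fact.out : p.Prime).ne_one hy1.symm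
  refine hf k fun v => eq_of_coprime hp hcop ?_
  exact c.app_eq_of_ker hX hk (hres k (subset_closure hcop) v)

namespace Red

variable {c : Chief ρ p} (r : Red ρ p c)
include r

theorem mk_injective : Function.Injective (QuotientGroup.mk' c.K) := fun a b e => by
  have h : a⁻¹ * b ∈ c.K := QuotientGroup.eq.1 e
  rw [r.ker, mem_bot] at h
  exact inv_mul_eq_one.1 h

omit r in
theorem img_cj (A : Subgroup P) (g : P) : c.img (cj A g) = cj (c.img A) (QuotientGroup.mk' c.K g) := by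
  show (A.map _).map _ = (A.map _).map _
  rw [Subgroup.map_map, Subgroup.map_map]
  congr 1

theorem lift {A : Subgroup P} (hA : MinOff ρ p A) {T : Sylow p P} {M : Subgroup P} (hM : IsCoatom M)
    (hTM : (T : Subgroup P) ≤ M) (hAT : A ≤ (T : Subgroup P)) :
    c.Seen A ∧ ∃ (F : Type) (_ : Field F) (_ : Finite F) (B : Block ρ F A) (B₀ : Block c.actBar F (c.img A)),
      (∀ g, (B.φ g : c.Xbar) = B₀.φ g) ∧ B₀.hh = 0 ∧ ¬ B.grp ≤ M ∧ (∀ x, B.hh x ∈ c.C) ∧
      ∀ g ∈ B.grp, ∀ v, ρ g v - v ∈ c.V₁ := by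
  have hX : XData (V := V) p T M := ⟨r.exponent, r.pmin, hM, hTM⟩
  have hAK : ¬ A ≤ c.K := fun h => hA.off.ne (le_bot_iff.1 (r.ker ▸ h))
  have hs := c.seen hX r.faith (concl (c.ctx hX)) hAT hA.off.elem hAK hA.off.le hA.strict
  exact ⟨hs, c.lift_block hX r.faith (concl (c.ctx hX)) hs hAT⟩

theorem seen {A : Subgroup P} (hA : MinOff ρ p A) : c.Seen A := by
  obtain ⟨T, hAT⟩ := hA.off.elem.isPGroup.exists_le_sylow
  obtain ⟨M, ⟨hM, hTM⟩, -⟩ := (r.pmin T).2
  exact (r.lift hA hM hTM hAT).1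

/-- A minimal offender inside a given Sylow subgroup. -/
theorem exists_le (T : Sylow p P) : ∃ A, MinOff ρ p A ∧ A ≤ (T : Subgroup P) := by
  obtain ⟨A, hA⟩ := r.exists_minOff
  obtain ⟨T', hAT'⟩ := hA.off.elem.isPGroup.exists_le_sylow
  obtain ⟨x, hx⟩ := MulAction.exists_smul_eq P T' T
  refine ⟨cj A x, hA.conj x, ?_⟩
  rintro _ ⟨a, ha, rfl⟩
  rw [← hx]
  exact ⟨a, hAT' ha, rfl⟩

/-- The dichotomy on the top. -/
theorem dichotomy {T : Sylow p P} {M : Subgroup P} (hM : IsCoatom M) (hTM : (T : Subgroup P) ≤ M) :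
    (∃ A : Subgroup P, MinOff ρ p A ∧ A ≤ (T : Subgroup P) ∧
      ∃ (F : Type) (_ : Field F) (_ : Finite F) (B : Block c.actBar F (c.img A)),
        Orbit c.actBar p (c.sylowBar T) (c.MBar M) (c.img A) B) ∨ (p = 2 ∧ TCtx c.actBar) := by
  obtain ⟨A, hA, hAT⟩ := r.exists_le T
  have hX : XData (V := V) p T M := ⟨r.exponent, r.pmin, hM, hTM⟩
  have hs := r.seen hA
  have hT' : ((c.sylowBar T : Sylow p c.Xbar) : Subgroup c.Xbar) ≤ c.MBar M := by
    rw [c.sylowBar_coe hX]; exact map_mono hTM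
  rcases orbit_or_tctx r.ctx known (c.coatom_MBar hX).1 hT' ⟨_, hs.minOff⟩ with ⟨A', F, iF, fF, B, o⟩ | h
  · obtain ⟨t, ht, e⟩ := o.mem_orbit hs.minOff (by rw [c.sylowBar_coe hX]; exact map_mono hAT)
    refine Or.inl ⟨A, hA, hAT, ?_⟩
    rw [← e]
    exact ⟨F, iF, fF, B.conj t, o.conj ht⟩
  · exact Or.inr h

end Red

end Cfsg.Agent.FFMinimal
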