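import Cfsg.Agent.Lib.FFMinimal.BlockFacts

/-!
* `Block.crd` : the natural-module coordinates, `Block.crd_app` : they are equivariant
-/

set_option autoImplicit false

namespace Cfsg.Agent.FFMinimal

open Subgroup
open RankOne (upSL loSL)
open scoped MatrixGroups
open OffenderSL2 (fixS app_mul app_one app_inv_self app_self_inv)

universe u v

variable {P : Type u} [Group P] {V : Type v} [AddCommGroup V] {σ : P →* AddMonoid.End V}
  {F : Type} [Field F] {A : Subgroup P}

/-- A matrix applied to a pair. -/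
def mulv (g : SL(2, F)) (z : F × F) : F × F :=
  (g.1 0 0 * z.1 + g.1 0 1 * z.2, g.1 1 0 * z.1 + g.1 1 1 * z.2)

theorem mulv_mul (g h : SL(2, F)) (z : F × F) : mulv (g * h) z = mulv g (mulv h z) := by
  simp only [mulv, Matrix.SpecialLinearGroup.coe_mul, Matrix.mul_apply, Fin.sum_univ_two, Prod.mk.injEq]
  constructor <;> ring

theorem mulv_one (z : F × F) : mulv (1 : SL(2, F)) z = z := by simp [mulv]

theorem mulv_up (t : F) (z : F × F) : mulv (upSL t) z = (z.1 + t * z.2, z.2) := by
  simp [mulv, RankOne.coe_upSL]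

theorem mulv_lo (t : F) (z : F × F) : mulv (loSL t) z = (z.1, t * z.1 + z.2) := by
  simp [mulv, RankOne.coe_loSL]

namespace Block

variable (B : Block σ F A)

theorem coord_symm {c : V} (hc : c ∈ B.C) (x y : F) :
    (B.coord.symm (c + B.lam x + B.om y)).2 = (x, y) := by
  have : B.coord.symm (c + B.lam x + B.om y) = (⟨c, hc⟩, x, y) := B.coord.symm_apply_eq.2 rfl
  rw [this]

/-- The coordinates in the natural module. -/
noncomputable def crd : V →+ F × F :=
  AddMonoidHom.mk' (fun v => (B.coord.symm v).2) fun v w => by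
    obtain ⟨c, hc, x, y, rfl⟩ := B.decomp v
    obtain ⟨c', hc', x', y', rfl⟩ := B.decomp w
    rw [show c + B.lam x + B.om y + (c' + B.lam x' + B.om y') =
      (c + c') + B.lam (x + x') + B.om (y + y') by rw [map_add, map_add]; abel]
    rw [B.coord_symm hc, B.coord_symm hc', B.coord_symm (add_mem hc hc'), Prod.mk_add_mk]

theorem crd_eq {c : V} (hc : c ∈ B.C) (x y : F) : B.crd (c + B.lam x + B.om y) = (x, y) :=
  B.coord_symm hc x y

theorem crd_C {c : V} (hc : c ∈ B.C) : B.crd c = 0 := by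
  have := B.crd_eq hc 0 0
  rwa [map_zero, map_zero, add_zero, add_zero] at this

theorem crd_lam (x : F) : B.crd (B.lam x) = (x, 0) := by
  have := B.crd_eq (zero_mem B.C) x 0
  rwa [map_zero B.om, add_zero, zero_add] at this

theorem crd_om (y : F) : B.crd (B.om y) = (0, y) := by
  have := B.crd_eq (zero_mem B.C) 0 y
  rwa [map_zero B.lam, add_zero, zero_add] at this

theorem crd_eq_zero {v : V} : B.crd v = 0 ↔ v ∈ B.C := by
  refine ⟨fun h => ?_, B.crd_C⟩
  obtain ⟨c, hc, x, y, rfl⟩ := B.decomp v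
  rw [B.crd_eq hc, Prod.mk_eq_zero] at h
  rwa [h.1, h.2, map_zero, map_zero, add_zero, add_zero]

theorem crd_surjective : Function.Surjective B.crd := fun z =>
  ⟨B.lam z.1 + B.om z.2, by rw [map_add, B.crd_lam, B.crd_om]; simp⟩

theorem crd_up (t : F) (v : V) : B.crd (σ (B.up t) v) = mulv (upSL t) (B.crd v) := by
  obtain ⟨c, hc, x, y, rfl⟩ := B.decomp v
  rw [B.app_up hc, B.crd_eq (add_mem hc (B.hh_mem _)), B.crd_eq hc, mulv_up]

theorem crd_lo (t : F) (v : V) : B.crd (σ (B.lo t) v) = mulv (loSL t) (B.crd v) := by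
  obtain ⟨c, hc, x, y, rfl⟩ := B.decomp v
  have e : σ (B.lo t) (c + B.lam x + B.om y) = (c + B.hh (-(t * x * x))) + B.lam x + B.om (t * x + y) := by
    rw [map_add, map_add, B.lo_om, B.lo_lam, lo, B.fix_C _ _ hc, map_add B.om]
    abel
  rw [e, B.crd_eq (add_mem hc (B.hh_mem _)), B.crd_eq hc, mulv_lo]

theorem crd_app (g : SL(2, F)) (v : V) : B.crd (σ (B.φ g) v) = mulv g (B.crd v) := by
  let S : Subgroup SL(2, F) :=
    { carrier := {g | ∀ v, B.crd (σ (B.φ g) v) = mulv g (B.crd v)}
      one_mem' := fun v => by rw [map_one, app_one, mulv_one]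
      mul_mem' := fun {a b} ha hb v => by rw [map_mul, app_mul, ha, hb, mulv_mul]
      inv_mem' := fun {a} ha v => by
        have h := ha (σ (B.φ a⁻¹) v)
        rw [← app_mul, ← map_mul, mul_inv_cancel, map_one, app_one] at h
        rw [h, ← mulv_mul, inv_mul_cancel, mulv_one] }
  have h : (⊤ : Subgroup SL(2, F)) ≤ S := by
    rw [← closure_up_lo, closure_le]
    rintro _ (⟨t, rfl⟩ | ⟨t, rfl⟩)
    · exact B.crd_up t
    · exact B.crd_lo t
  exact h (mem_top g) v

/-- The subgroup is generated by `A` and its conjugate by the Weyl element. -/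
theorem grp_eq : B.grp = A ⊔ OffenderSL2.cj A (B.φ wSL) := by
  refine le_antisymm ?_ (sup_le B.A_le_grp ?_)
  · show B.φ.range ≤ _
    rw [MonoidHom.range_eq_map, ← closure_up_lo, MonoidHom.map_closure, closure_le]
    rintro _ ⟨_, ⟨t, rfl⟩ | ⟨t, rfl⟩, rfl⟩
    · exact mem_sup_left (B.up_mem t)
    · refine mem_sup_right (OffenderSL2.mem_cj.2 ?_)
      rw [show (B.φ wSL)⁻¹ * B.φ (loSL t) * B.φ wSL = B.up (-t) by
        rw [up, ← map_inv, ← map_mul, ← map_mul, lo_eq]; group]
      exact B.up_mem _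
  · rintro _ ⟨a, ha, rfl⟩
    exact mul_mem (mul_mem ⟨_, rfl⟩ (B.A_le_grp ha)) (inv_mem ⟨_, rfl⟩)

end Block

end Cfsg.Agent.FFMinimal
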