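import Cfsg.Agent.Lib.FFMinimal.Pair

/-!
* `Good.commute_of_le` : minimal offenders in a common `p`-group commute
* `Good.grp_commute` : a block commutes with the minimal offenders commuting with its root group
-/

set_option autoImplicit false

namespace Cfsg.Agent.FFMinimal

open Subgroup
open OffenderSL2 (fixS cj app_mul app_one app_inv_self app_self_inv fix_le fix_sup mem_fix_cj apply_mem_fix_cj mem_cj cj_cj)

universe u v

variable {P : Type u} [Group P] {V : Type v} [AddCommGroup V] {σ : P →* AddMonoid.End V} {p : ℕ}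

theorem cj_eq_of_comm {A : Subgroup P} {g : P} (h : ∀ a ∈ A, a * g = g * a) : cj A g = A := by
  ext x
  constructor
  · rintro ⟨a, ha, rfl⟩
    show g * a * g⁻¹ ∈ A
    rwa [← h a ha, mul_inv_cancel_right]
  · intro hx
    exact ⟨x, hx, show g * x * g⁻¹ = x by rw [← h x hx, mul_inv_cancel_right]⟩

theorem comS_cj (A : Subgroup P) (g : P) : comS σ (cj A g) = (comS σ A).map (σ g) := by
  refine le_antisymm ?_ ?_
  · refine comS_le fun x hx v => ?_
    obtain ⟨a, ha, rfl⟩ := hx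
    refine ⟨σ a (σ g⁻¹ v) - σ g⁻¹ v, sub_mem_comS ha _, ?_⟩
    show σ g (σ a (σ g⁻¹ v) - σ g⁻¹ v) = σ (g * a * g⁻¹) v - v
    rw [map_sub, app_self_inv, app_mul, app_mul]
  · rintro _ ⟨v, hv, rfl⟩
    exact apply_mem_comS_cj g hv

variable [Finite P] [Finite V] [Fact p.Prime]

theorem exists_fixed_ne_zero (hp : ∀ v : V, p • v = 0) {B : Subgroup P} (hB : IsPGroup p ↥B)
    (W : AddSubgroup V) (hW : ∀ b ∈ B, ∀ w ∈ W, σ b w ∈ W) (hne : W ≠ ⊥) :
    ∃ w ∈ W, w ≠ 0 ∧ w ∈ fixS σ B := by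
  let act : MulAction ↥B ↥W :=
    { smul := fun b w => ⟨σ (b : P) w, hW b b.2 w w.2⟩
      one_smul := fun w => Subtype.ext (app_one (σ := σ) (w : V))
      mul_smul := fun a b w => Subtype.ext (app_mul (σ := σ) (a : P) (b : P) (w : V)) }
  obtain ⟨w₀, hw₀, hw₀'⟩ : ∃ w ∈ W, w ≠ (0 : V) := by
    by_contra hc
    push Not at hc
    exact hne ((AddSubgroup.eq_bot_iff_forall W).2 hc)
  have hdvd : p ∣ Nat.card ↥W := by
    have : addOrderOf (⟨w₀, hw₀⟩ : ↥W) = p :=
      addOrderOf_eq_prime (Subtype.ext (hp w₀)) fun e => hw₀' (congrArg Subtype.val e)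
    exact this ▸ addOrderOf_dvd_natCard _
  obtain ⟨w, hw, hwne⟩ := hB.exists_fixed_point_of_prime_dvd_card_of_fixed_point ↥W hdvd
    (a := 0) fun b => Subtype.ext (map_zero (σ (b : P)))
  exact ⟨w, w.2, fun e => hwne (Subtype.ext e).symm, fun b hb => congrArg Subtype.val (hw ⟨b, hb⟩)⟩

variable (h : Good σ p)
include h

theorem Good.comS_ne_bot {A : Subgroup P} (hA : MinOff σ p A) : comS σ A ≠ ⊥ := fun e => by
  have := h.card_comS hA
  rw [e, AddSubgroup.card_bot] at this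
  exact hA.off.ne (Subgroup.eq_bot_of_card_le A this.ge)

/-- A minimal offender permuting a set of commuting ones and moving one of them commutes with it. -/
theorem Good.false_of_moved {A B : Subgroup P} (hA : MinOff σ p A) (hB : MinOff σ p B)
    (hc : ∀ x ∈ B, ∀ y ∈ B, ∀ a ∈ cj A x, ∀ a' ∈ cj A y, a * a' = a' * a)
    {b₀ : P} (hb₀ : b₀ ∈ B) (hne : cj A b₀ ≠ A) : False := by
  classical
  have hc1 : ∀ a ∈ A, ∀ a' ∈ cj A b₀, a * a' = a' * a := fun a ha a' ha' =>
    hc 1 (one_mem B) b₀ hb₀ a (mem_cj.2 (by simpa using ha)) a' ha'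
  have hdisj := h.comS_inf hA (hA.conj b₀) hc1 hne
  -- only the identity fixes `A`
  have hfree : ∀ b ∈ B, cj A b = A → b = 1 := fun b hb he => by
    by_contra hb1
    obtain ⟨l, hl, hl0, hlb⟩ := exists_fixed_ne_zero (σ := σ) h.exponent
      (hB.off.elem.mono ((zpowers_le).2 hb)).isPGroup (comS σ A) (fun y hy w hw => by
        obtain ⟨k, rfl⟩ := mem_zpowers_iff.1 hy
        have hst : b ∈ stabS σ (comS σ A) := fun w hw => by
          have := apply_mem_comS_cj (σ := σ) b hw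
          rwa [he] at this
        exact (zpow_mem hst k) w hw) (h.comS_ne_bot hA)
    have hlB : l ∈ fixS σ B := h.mem_fix hB hb hb1 (hlb b (mem_zpowers b))
    refine hl0 (AddSubgroup.mem_bot.1 (hdisj.le ⟨hl, ?_⟩))
    rw [comS_cj]
    exact ⟨l, hl, hlB b₀ hb₀⟩
  -- the orbit
  have hinj : Function.Injective fun b : ↥B => cj A (b : P) := fun x y e => by
    have e' : cj A (x : P) = cj A (y : P) := e
    have : ((y : P)⁻¹ * x) = 1 := hfree _ (mul_mem (inv_mem y.2) x.2) (by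
      rw [← cj_cj, e', cj_cj, inv_mul_cancel]
      ext g; simp [mem_cj])
    exact Subtype.ext (inv_mul_eq_one.1 this).symm
  haveI := Fintype.ofFinite ↥B
  set s : Finset (Subgroup P) := Finset.univ.image fun b : ↥B => cj A (b : P) with hs
  obtain ⟨he, hcard, -, -, hcs⟩ := h.card_sup s (fun C hC => by
      obtain ⟨b, -, rfl⟩ := Finset.mem_image.1 hC
      exact hA.conj _) (fun C hC C' hC' => by
      obtain ⟨b, -, rfl⟩ := Finset.mem_image.1 hC
      obtain ⟨b', -, rfl⟩ := Finset.mem_image.1 hC'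
      exact hc b b.2 b' b'.2)
  have hprod : (∏ C ∈ s, Nat.card ↥C) = Nat.card ↥A ^ Nat.card ↥B := by
    have hcc : ∀ b : ↥B, Nat.card ↥(cj A (b : P)) = Nat.card ↥A := fun b =>
      card_map_of_injective (MulAut.conj (b : P)).injective
    rw [hs, Finset.prod_image hinj.injOn, Finset.prod_congr rfl (fun b _ => hcc b),
      Finset.prod_const, Finset.card_univ, Nat.card_eq_fintype_card (α := ↥B)]
  have hle : s.sup (comS σ) ≤ comS σ A ⊔ comS σ B := Finset.sup_le fun C hC => by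
    obtain ⟨b, -, rfl⟩ := Finset.mem_image.1 hC
    rw [comS_cj]
    rintro _ ⟨l, hl, rfl⟩
    show σ (b : P) l ∈ comS σ A ⊔ comS σ B
    rw [show σ (b : P) l = l + (σ (b : P) l - l) by abel]
    exact add_mem (AddSubgroup.mem_sup_left hl) (AddSubgroup.mem_sup_right (sub_mem_comS b.2 l))
  have hbound : Nat.card ↥A ^ Nat.card ↥B ≤ Nat.card ↥A * Nat.card ↥B := by
    rw [← hprod, ← hcard]
    refine (h.dual _ he).trans ((Nat.card_le_card_of_injective _
      (Set.inclusion_injective (hcs.trans hle))).trans ?_)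
    rw [← h.card_comS hA, ← h.card_comS hB]
    calc _ ≤ Nat.card ↥(comS σ A ⊔ comS σ B : AddSubgroup V) *
          Nat.card ↥(comS σ A ⊓ comS σ B : AddSubgroup V) := Nat.le_mul_of_pos_right _ Nat.card_pos
      _ = Nat.card ↥(comS σ A) * Nat.card ↥(comS σ B) := card_sup_mul_inf _ _
  have hA2 : 2 ≤ Nat.card ↥A := Finite.one_lt_card_iff_nontrivial.2 ((nontrivial_iff_ne_bot A).2 hA.off.ne)
  have hB2 : 2 ≤ Nat.card ↥B := Finite.one_lt_card_iff_nontrivial.2 ((nontrivial_iff_ne_bot B).2 hB.off.ne)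
  have hqA : Nat.card ↥A = 2 ∧ Nat.card ↥B = 2 := by
    set a := Nat.card ↥A
    obtain ⟨n, hn⟩ : ∃ n, Nat.card ↥B = n + 1 := ⟨Nat.card ↥B - 1, by omega⟩
    rw [hn] at hbound hB2 ⊢
    rw [pow_succ] at hbound
    have h1 : a ^ n ≤ n + 1 := Nat.le_of_mul_le_mul_left (by rw [mul_comm]; exact hbound) (by omega : 0 < a)
    have h2 : 2 ^ n ≤ n + 1 := (Nat.pow_le_pow_left hA2 n).trans h1
    have h3 : n = 1 := by
      rcases n with _ | _ | m
      · omega
      · rfl
      · have h4 := Nat.lt_two_pow_self (n := m)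
        rw [show (2 : ℕ) ^ (m + 1 + 1) = 4 * 2 ^ m by ring] at h2
        omega
    subst h3
    rw [pow_one] at h1
    omega
  -- two transvections
  have hLA : ∀ l ∈ comS σ A, l ∈ fixS σ A := fun l hl => h.quad hA hl
  have hLB : comS σ B ≤ fixS σ A := by
    obtain ⟨l, hl, hl0⟩ : ∃ l ∈ comS σ A, l ≠ (0 : V) := by
      by_contra hcn
      push Not at hcn
      exact h.comS_ne_bot hA ((AddSubgroup.eq_bot_iff_forall _).2 hcn)
    have hmove : σ b₀ l - l ≠ 0 := fun e => hl0 (AddSubgroup.mem_bot.1 (hdisj.le ⟨hl, by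
      rw [comS_cj]; exact ⟨l, hl, sub_eq_zero.1 e⟩⟩))
    have h2 : Nat.card ↥(comS σ B) = 2 := by rw [h.card_comS hB, hqA.2]
    intro w hw
    haveI : Finite ↥(comS σ B) := inferInstance
    obtain ⟨x, y, hxy, huniv⟩ := Nat.card_eq_two_iff.1 h2
    have hcl : ∀ z : ↥(comS σ B), (z : V) = 0 ∨ (z : V) = σ b₀ l - l := fun z => by
      have h0 : (⟨0, zero_mem _⟩ : ↥(comS σ B)) = x ∨ (⟨0, zero_mem _⟩ : ↥(comS σ B)) = y :=
        (huniv.ge (Set.mem_univ _))
      have h1 : (⟨_, sub_mem_comS hb₀ l⟩ : ↥(comS σ B)) = x ∨ (⟨_, sub_mem_comS hb₀ l⟩ : ↥(comS σ B)) = y :=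
        (huniv.ge (Set.mem_univ _))
      have hz : z = x ∨ z = y := huniv.ge (Set.mem_univ z)
      rcases h0 with e0 | e0 <;> rcases h1 with e1 | e1 <;> rcases hz with ez | ez
      all_goals first
        | (left; rw [ez, ← e0]; done)
        | (right; rw [ez, ← e1]; done)
        | exact absurd (congrArg Subtype.val (e1.trans e0.symm)) hmove
    rcases hcl ⟨w, hw⟩ with e | e <;> simp only [] at e <;> rw [e]
    · exact zero_mem _
    · exact sub_mem (h.comS_le_fix (hA.conj b₀) hA (fun a ha a' ha' => (hc1 a' ha' a ha).symm)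
        (apply_mem_comS_cj b₀ hl)) (hLA l hl)
  have hstab : ∀ v ∈ fixS σ A, ∀ b ∈ B, σ b v ∈ fixS σ A := fun v hv b hb => by
    rw [show σ b v = v + (σ b v - v) by abel]
    exact add_mem hv (hLB (sub_mem_comS hb v))
  refine hne (hA.minimal _ (fun u hu => ?_) (hA.off.conj b₀))
  refine mem_of_hkill h.exponent h.faith h.bound hA.off (h.quad hA) (fun v hv => ?_) fun v => ?_
  · exact (mem_fix_cj.2 (hstab v hv _ (inv_mem hb₀)) : v ∈ fixS σ (cj A b₀)) u hu
  · have := h.quad (hA.conj b₀) (sub_mem_comS hu v)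
    have h1 := hstab _ (mem_fix_cj.1 this) b₀ hb₀
    rwa [app_self_inv] at h1

/-- A minimal offender normalising another one commutes with it. -/
theorem Good.commute_of_normalize {A B : Subgroup P} (hA : MinOff σ p A) (hB : MinOff σ p B)
    (hn : ∀ b ∈ B, cj A b = A) : ∀ a ∈ A, ∀ b ∈ B, a * b = b * a := by
  rcases eq_or_ne A B with rfl | hne
  · exact hA.off.elem.comm
  have hL : ∀ b ∈ B, ∀ l ∈ comS σ A, σ b l ∈ comS σ A := fun b hb l hl => by
    have := apply_mem_comS_cj (σ := σ) b hl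
    rwa [hn b hb] at this
  by_cases hLB : comS σ A ≤ fixS σ B
  · intro a ha b hb
    have hc : a * b * a⁻¹ * b⁻¹ ∈ A := by
      rw [mul_assoc, mul_assoc]
      refine mul_mem ha ?_
      rw [← mul_assoc]
      exact (hn b hb).le ⟨a⁻¹, inv_mem ha, rfl⟩
    have hfix : ∀ {x : P}, x ∈ A → ∀ w ∈ fixS σ B, σ x w ∈ fixS σ B := fun {x} hx w hw => by
      rw [show σ x w = w + (σ x w - w) by abel]
      exact add_mem hw (hLB (sub_mem_comS hx w))
    have hcB : ∀ w ∈ fixS σ B, σ (a * b * a⁻¹ * b⁻¹) w = w := fun w hw => by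
      rw [app_mul, hw _ (inv_mem hb), app_mul, app_mul, hfix (inv_mem ha) w hw b hb, app_self_inv]
    by_contra hab
    have hc1 : a * b * a⁻¹ * b⁻¹ ≠ 1 := fun e => hab (by
      calc a * b = (a * b * a⁻¹ * b⁻¹) * (b * a) := by group
        _ = b * a := by rw [e, one_mul])
    refine hne (hB.minimal _ (fun x hx => ?_) hA.off)
    exact mem_of_hkill h.exponent h.faith h.bound hB.off (h.quad hB)
      (fun v hv => h.mem_fix hA hc hc1 (hcB v hv) x hx) (fun v => hLB (sub_mem_comS hx v))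
  · exfalso
    obtain ⟨l, hl, hlB⟩ := SetLike.not_le_iff_exists.1 hLB
    -- `[V, B] ≤ [V, A]`
    have hLL : comS σ B ≤ comS σ A := by
      let f : ↥B → ↥(comS σ B) := fun b => ⟨σ (b : P) l - l, sub_mem_comS b.2 l⟩
      have hf : Function.Injective f := fun x y e => by
        have e' : σ (x : P) l = σ (y : P) l := sub_left_inj.1 (congrArg Subtype.val e)
        by_contra hxy
        have h1 : (y : P)⁻¹ * x ≠ 1 := fun e => hxy (Subtype.ext (inv_mul_eq_one.1 e).symm)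
        exact hlB (h.mem_fix hB (mul_mem (inv_mem y.2) x.2) h1 (by rw [app_mul, e', app_inv_self]))
      have hb := (Nat.bijective_iff_injective_and_card f).2 ⟨hf, (h.card_comS hB).symm⟩
      intro w hw
      obtain ⟨b, hb'⟩ := hb.2 ⟨w, hw⟩
      rw [← show σ (b : P) l - l = w from congrArg Subtype.val hb']
      exact sub_mem (hL b b.2 l hl) hl
    obtain ⟨x₀, hx₀, hx₀ne, hx₀B⟩ := exists_fixed_ne_zero (σ := σ) h.exponent hB.off.elem.isPGroup
      (comS σ A) hL (h.comS_ne_bot hA)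
    obtain ⟨F, _, _, D, hD⟩ := h.root A hA
    refine hlB fun b hb => ?_
    have hLlam := D.comS_eq_range hD
    -- the action of `b` on `[V, A]` is linear
    have hstep : ∀ t y, σ b (D.lam (t * y)) =
        D.lam ((D.crd (σ (b * D.up t * b⁻¹) (D.om 1) - D.om 1)).1 * y) := by
      intro t y
      obtain ⟨t', ht'⟩ := D.mem_A.1 ((hn b hb).le ⟨D.up t, D.up_mem t, rfl⟩ : b * D.up t * b⁻¹ ∈ A)
      have e1 : ∀ y, σ (D.up t') (D.om y) - D.om y = D.lam (t' * y) := fun y => by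
        rw [D.sub_om, hD, AddMonoidHom.zero_apply, add_zero]
      rw [← ht', e1, D.crd_lam, mul_one]
      obtain ⟨z, hz, z', hz'⟩ : ∃ z ∈ fixS σ A, ∃ z', z = z' ∧ σ b (D.om y) = D.om y + z := by
        refine ⟨σ b (D.om y) - D.om y, h.quad hA (hLL (sub_mem_comS hb _)), _, rfl, ?_⟩
        abel
      have e2 : D.lam (t * y) = σ (D.up t) (D.om y) - D.om y := by
        rw [D.sub_om, hD, AddMonoidHom.zero_apply, add_zero]
      rw [e2, map_sub, ← app_mul, show b * D.up t = D.up t' * b by rw [ht', inv_mul_cancel_right],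
        app_mul, hz'.2, map_add, hz _ (D.up_mem t'), ← e1]
      abel
    set γ := fun t => (D.crd (σ (b * D.up t * b⁻¹) (D.om 1) - D.om 1)).1
    obtain ⟨y₀, rfl⟩ : x₀ ∈ D.lam.range := hLlam.le hx₀
    have hy₀ : y₀ ≠ 0 := fun e => hx₀ne (by rw [e, map_zero])
    have h1 := hstep 1 y₀
    rw [one_mul, hx₀B b hb] at h1
    have hγ : γ 1 = 1 := by
      have := D.lam_injective h1
      exact (mul_eq_right₀ hy₀).1 this.symm
    obtain ⟨y, rfl⟩ : l ∈ D.lam.range := hLlam.le hl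
    have h2 := hstep 1 y
    rw [one_mul] at h2
    rw [h2]
    show D.lam (γ 1 * y) = D.lam y
    rw [hγ, one_mul]

/-- Minimal offenders in a common `p`-group commute. -/
theorem Good.commute_of_le {S : Subgroup P} (hS : IsPGroup p ↥S) {A A' : Subgroup P} (hA : MinOff σ p A)
    (hA' : MinOff σ p A') (hAS : A ≤ S) (hA'S : A' ≤ S) : ∀ a ∈ A, ∀ b ∈ A', a * b = b * a := by
  classical
  let Mem := {B : Subgroup P | MinOff σ p B ∧ B ≤ S}
  let Comm : Set (Subgroup P) → Prop := fun 𝒞 => ∀ B ∈ 𝒞, ∀ B' ∈ 𝒞, ∀ a ∈ B, ∀ b ∈ B', a * b = b * a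
  obtain ⟨𝒞, h0, hmax⟩ := Set.Finite.exists_le_maximal (s := {𝒞 : Set (Subgroup P) | 𝒞 ⊆ Mem ∧ Comm 𝒞})
    (Set.toFinite _) (a := {A}) ⟨Set.singleton_subset_iff.2 ⟨hA, hAS⟩, by
      rintro B rfl B' rfl; exact hA.off.elem.comm⟩
  obtain ⟨⟨hsub, hcomm⟩, hmax⟩ := hmax
  have hA0 : A ∈ 𝒞 := h0 rfl
  have hins : ∀ B ∈ Mem, (∀ C ∈ 𝒞, ∀ a ∈ B, ∀ b ∈ C, a * b = b * a) → B ∈ 𝒞 := fun B hB hBc =>
    (hmax (y := insert B 𝒞) ⟨Set.insert_subset hB hsub, by
      rintro X (rfl | hX) Y (rfl | hY)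
      · exact hB.1.off.elem.comm
      · exact hBc Y hY
      · exact fun a ha b hb => (hBc X hX b hb a ha).symm
      · exact hcomm X hX Y hY⟩ (Set.subset_insert _ _)) (Set.mem_insert _ _)
  let N : Subgroup P :=
    { carrier := {g | g ∈ S ∧ ∀ B, B ∈ 𝒞 ↔ cj B g ∈ 𝒞}
      one_mem' := ⟨one_mem S, fun B => by rw [cj_eq_of_comm (fun a _ => by simp)]⟩
      mul_mem' := fun {a b} ha hb => ⟨mul_mem ha.1 hb.1, fun B => by rw [hb.2 B, ha.2, cj_cj]⟩
      inv_mem' := fun {a} ha => ⟨inv_mem ha.1, fun B => by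
        rw [ha.2 (cj B a⁻¹), cj_cj, mul_inv_cancel, cj_eq_of_comm (fun a _ => by simp)]⟩ }
  have hNS : N ≤ S := fun g hg => hg.1
  by_cases hall : ∀ B, MinOff σ p B → B ≤ N → B ∈ 𝒞
  · have hN : N = S := by
      by_contra hne
      obtain ⟨g, hgS, hgN, hgn⟩ : ∃ g ∈ S, g ∉ N ∧ g ∈ normalizer (N : Set P) := by
        haveI : Group.IsNilpotent ↥S := hS.isNilpotent
        have hlt := normalizerCondition_of_isNilpotent (G := ↥S) (N.subgroupOf S) (lt_top_iff_ne_top.2
          fun e => hne (le_antisymm hNS (subgroupOf_eq_top.1 e)))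
        obtain ⟨g, hg, hg'⟩ := SetLike.exists_of_lt hlt
        refine ⟨g, g.2, fun e => hg' (mem_subgroupOf.2 e), mem_normalizer_iff.2 fun x => ?_⟩
        by_cases hx : x ∈ S
        · exact (mem_normalizer_iff.1 hg ⟨x, hx⟩)
        · refine iff_of_false (fun e => hx (hNS e)) fun e => hx ?_
          have := mul_mem (mul_mem (inv_mem g.2) (hNS e)) g.2
          simpa [mul_assoc] using this
      refine hgN ⟨hgS, fun B => ?_⟩
      have key : ∀ g ∈ S, g ∈ normalizer (N : Set P) → ∀ B ∈ 𝒞, cj B g ∈ 𝒞 := by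
        intro g hgS hg B hB
        refine hall _ ((hsub hB).1.conj g) ?_
        rintro _ ⟨x, hx, rfl⟩
        refine (mem_normalizer_iff.1 hg x).1 ⟨(hsub hB).2 hx, fun C => ?_⟩
        constructor
        · intro hC
          rwa [cj_eq_of_comm fun c hc => hcomm C hC B hB c hc x hx]
        · intro hC
          have := cj_cj C x x⁻¹
          rw [inv_mul_cancel, cj_eq_of_comm (A := C) (g := (1 : P)) fun a _ => by simp,
            cj_eq_of_comm (A := cj C x) (g := x⁻¹) fun c hc =>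
              hcomm _ hC B hB c hc x⁻¹ (inv_mem hx)] at this
          rwa [this] at hC
      refine ⟨key g hgS hgn B, fun hB => ?_⟩
      have := key g⁻¹ (inv_mem hgS) (inv_mem hgn) _ hB
      rwa [cj_cj, inv_mul_cancel, cj_eq_of_comm (fun a _ => by simp)] at this
    exact hcomm A hA0 A' (hall A' hA' (hN.ge.trans' hA'S))
  · exfalso
    push Not at hall
    obtain ⟨B, hB, hBN, hB𝒞⟩ := hall
    refine hB𝒞 (hins B ⟨hB, hBN.trans hNS⟩ fun C hC a ha b hb => ?_)
    by_cases hmv : ∀ x ∈ B, cj C x = C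
    · exact (h.commute_of_normalize (hsub hC).1 hB hmv b hb a ha).symm
    · push Not at hmv
      obtain ⟨x, hx, hxne⟩ := hmv
      exact (h.false_of_moved (hsub hC).1 hB (fun y hy z hz => hcomm _ ((hBN hy).2 C |>.1 hC) _
        ((hBN hz).2 C |>.1 hC)) hx hxne).elim

/-- A block commutes with the other minimal offenders commuting with its root group. -/
theorem Good.grp_commute {F : Type} [Field F] [Finite F] {A A' : Subgroup P} (hA : MinOff σ p A)
    (hA' : MinOff σ p A') (hne : A ≠ A') (hc : ∀ a ∈ A, ∀ b ∈ A', a * b = b * a)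
    (B : Block σ F A') (hB : B.hh = 0) (s : Fˣ) (hs : (s : F) ≠ 1) :
    comS σ A ≤ B.C ∧ comS σ B.grp ≤ fixS σ A ∧ ∀ a ∈ A, ∀ g ∈ B.grp, a * g = g * a := by
  have hc' : ∀ a ∈ A', ∀ b ∈ A, a * b = b * a := fun a ha b hb => (hc b hb a ha).symm
  have hLH : comS σ A ≤ fixS σ A' := h.comS_le_fix hA hA' hc
  have hL'H : comS σ A' ≤ fixS σ A := h.comS_le_fix hA' hA hc'
  have hlamH : ∀ x, B.lam x ∈ fixS σ A := fun x => hL'H ((B.comS_eq_range hB).ge ⟨x, rfl⟩)
  have hdiff : ∀ (r : Fˣ) v, v ∈ fixS σ A' → σ (B.dg r) v - v ∈ comS σ A' := by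
    intro r v hv
    obtain ⟨c, hc, x, rfl⟩ := B.mem_fix_A.1 hv
    rw [B.comS_eq_range hB, Block.dg, map_add, B.fix_C _ _ hc, B.dg_lam, add_sub_add_left_eq_sub, ← map_sub]
    exact ⟨_, rfl⟩
  have hdinv : ∀ r : Fˣ, (B.dg r)⁻¹ = B.dg r⁻¹ := fun r => by
    rw [Block.dg, Block.dg, ← map_inv, dgSL_inv]
  have hkey : cj A (B.dg s) = A := by
    set A'' := cj A (B.dg s) with hA''
    have hA''m : MinOff σ p A'' := hA.conj _
    have hnorm : ∀ (r : Fˣ) b, b ∈ A' → B.dg r * b * (B.dg r)⁻¹ ∈ A' := by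
      intro r b hb
      obtain ⟨t, rfl⟩ := B.mem_A.1 hb
      rw [Block.dg, Block.up, ← map_inv, ← map_mul, ← map_mul, dg_up, mul_inv_cancel_right]
      exact B.up_mem _
    have hc'' : ∀ a ∈ A'', ∀ b ∈ A', a * b = b * a := by
      rintro _ ⟨a, ha, rfl⟩ b hb
      show B.dg s * a * (B.dg s)⁻¹ * b = b * (B.dg s * a * (B.dg s)⁻¹)
      have hb' : (B.dg s)⁻¹ * b * B.dg s ∈ A' := by
        have := hnorm s⁻¹ b hb
        rw [← hdinv, inv_inv] at this
        exact this
      calc B.dg s * a * (B.dg s)⁻¹ * b = B.dg s * (a * ((B.dg s)⁻¹ * b * B.dg s)) * (B.dg s)⁻¹ := by group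
        _ = B.dg s * (((B.dg s)⁻¹ * b * B.dg s) * a) * (B.dg s)⁻¹ := by rw [hc a ha _ hb']
        _ = _ := by group
    have hLL : comS σ A'' ≤ fixS σ A := by
      rw [hA'', comS_cj]
      rintro _ ⟨l, hl, rfl⟩
      show σ (B.dg s) l ∈ fixS σ A
      rw [show σ (B.dg s) l = l + (σ (B.dg s) l - l) by abel]
      exact add_mem (h.quad hA hl) (hL'H (hdiff s l (hLH hl)))
    have hLL' : comS σ A ≤ fixS σ A'' := fun l hl => mem_fix_cj.2 (by
      rw [hdinv, show σ (B.dg s⁻¹) l = l + (σ (B.dg s⁻¹) l - l) by abel]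
      exact add_mem (h.quad hA hl) (hL'H (hdiff s⁻¹ l (hLH hl))))
    by_contra hne'
    refine h.not_fix_le_of_three hA hA' hA''m hne (fun e => hne' e.symm) (fun e => hne ?_) hc
      (commute_of_comS h.faith hLL' hLL) (fun a ha b hb => (hc'' b hb a ha).symm) fun v hv => mem_fix_cj.2 ?_
    · -- `A'' = A'` gives `A = A'`
      ext a
      constructor
      · intro ha
        have : B.dg s * a * (B.dg s)⁻¹ ∈ A' := e.ge ⟨a, ha, rfl⟩
        have := hnorm s⁻¹ _ this
        rw [← hdinv, inv_inv] at this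
        simpa [mul_assoc] using this
      · intro ha
        obtain ⟨x, hx, hxe⟩ := e.le (hnorm s a ha)
        have hxa : x = a := (MulAut.conj (B.dg s)).injective hxe
        exact hxa ▸ hx
    · rw [hdinv, show σ (B.dg s⁻¹) v = v + (σ (B.dg s⁻¹) v - v) by abel]
      exact add_mem hv.1 (hL'H (hdiff s⁻¹ v hv.2))
  have hstabL : ∀ l ∈ comS σ A, σ (B.dg s) l ∈ comS σ A := fun l hl => by
    have := apply_mem_comS_cj (σ := σ) (B.dg s) hl
    rwa [hkey] at this
  have hstabH : ∀ v ∈ fixS σ A, σ (B.dg s) v ∈ fixS σ A := fun v hv => by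
    have := apply_mem_fix_cj (σ := σ) (B.dg s) hv
    rwa [hkey] at this
  have hLC : comS σ A ≤ B.C := by
    intro l hl
    obtain ⟨c, hc0, x, rfl⟩ := B.mem_fix_A.1 (hLH hl)
    have h1 : σ (B.dg s) (c + B.lam x) - (c + B.lam x) ∈ comS σ A := sub_mem (hstabL _ hl) hl
    have h2 := hdiff s _ (hLH hl)
    have h3 := (h.comS_inf hA hA' hc (fun e => hne e.symm)).le ⟨h1, h2⟩
    rw [AddSubgroup.mem_bot, Block.dg, map_add, B.fix_C _ _ hc0, B.dg_lam, add_sub_add_left_eq_sub,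
      ← map_sub, ← sub_one_mul] at h3
    have hx : x = 0 := (mul_eq_zero.1 (B.lam_injective (h3.trans (map_zero B.lam).symm))).resolve_left
      (sub_ne_zero.2 hs)
    rwa [hx, map_zero, add_zero]
  have homH : ∀ y, B.om y ∈ fixS σ A := by
    intro y
    obtain ⟨u, hu, u', hu', e⟩ := AddSubgroup.mem_sup.1
      ((sup_fix_eq_top h.bound hA.off hA'.off (h.inf_eq hA hA' (fun e => hne e.symm)) hc).ge
        (AddSubgroup.mem_top (B.om (y / (((s⁻¹ : Fˣ) : F) - 1)))))
    set y' := y / (((s⁻¹ : Fˣ) : F) - 1)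
    obtain ⟨c, hc0, x, rfl⟩ := B.mem_fix_A.1 hu'
    have hu2 : u = -c + B.lam (-x) + B.om y' := by rw [← e, map_neg]; abel
    have h1 := sub_mem (hstabH u hu) hu
    rw [hu2, Block.dg, map_add, map_add, B.fix_C _ _ (neg_mem hc0), B.dg_lam, B.dg_om,
      show -c + B.lam ((s : F) * -x) + B.om (((s⁻¹ : Fˣ) : F) * y') - (-c + B.lam (-x) + B.om y') =
        B.lam ((s : F) * -x - -x) + B.om (((s⁻¹ : Fˣ) : F) * y' - y') by rw [map_sub, map_sub]; abel] at h1
    have hne1 : ((s⁻¹ : Fˣ) : F) - 1 ≠ 0 := sub_ne_zero.2 fun e => hs (by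
      have := s.mul_inv; rw [e, mul_one] at this; exact this)
    rw [show ((s⁻¹ : Fˣ) : F) * y' - y' = y by
      rw [← sub_one_mul]; exact mul_div_cancel₀ y hne1] at h1
    have := sub_mem h1 (hlamH ((s : F) * -x - -x))
    rwa [add_sub_cancel_left] at this
  have hgrp : comS σ B.grp ≤ fixS σ A := by
    refine comS_le fun g hg v => ?_
    obtain ⟨k, rfl⟩ := hg
    have hd : σ (B.φ k) v - v ∈ B.lam.range ⊔ B.om.range := by
      obtain ⟨c, hc0, x, y, rfl⟩ := B.decomp v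
      obtain ⟨c', hc', x', y', e⟩ := B.decomp (σ (B.φ k) (B.lam x + B.om y))
      have hc0' : σ (B.φ k) (c + B.lam x + B.om y) = c + σ (B.φ k) (B.lam x + B.om y) := by
        rw [add_assoc, map_add, B.fix_C _ _ hc0]
      suffices hk : c' = 0 by
        rw [hc0', e, hk, zero_add, show c + (B.lam x' + B.om y') - (c + B.lam x + B.om y) =
          B.lam (x' - x) + B.om (y' - y) by rw [map_sub, map_sub]; abel]
        exact add_mem (AddSubgroup.mem_sup_left ⟨_, rfl⟩) (AddSubgroup.mem_sup_right ⟨_, rfl⟩)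
      have key : ∀ k, ∀ w ∈ B.lam.range ⊔ B.om.range, σ (B.φ k) w ∈ B.lam.range ⊔ B.om.range := by
        let St : Subgroup P := stabS σ (B.lam.range ⊔ B.om.range)
        have hgen : B.grp ≤ St := by
          rw [B.grp_eq]
          have hA'St : A' ≤ St := fun a ha w hw => by
            obtain ⟨t, rfl⟩ := B.mem_A.1 ha
            obtain ⟨l, ⟨x, rfl⟩, o, ⟨y, rfl⟩, rfl⟩ := AddSubgroup.mem_sup.1 hw
            rw [map_add, Block.up, B.up_lam, B.up_om, hB, AddMonoidHom.zero_apply, add_zero]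
            exact add_mem (AddSubgroup.mem_sup_left ⟨_, rfl⟩) (add_mem (AddSubgroup.mem_sup_right ⟨_, rfl⟩)
              (AddSubgroup.mem_sup_left ⟨_, rfl⟩))
          have hwSt : B.φ wSL ∈ St := fun w hw => by
            obtain ⟨l, ⟨x, rfl⟩, o, ⟨y, rfl⟩, rfl⟩ := AddSubgroup.mem_sup.1 hw
            rw [map_add, B.w_lam, B.w_om]
            exact add_mem (neg_mem (AddSubgroup.mem_sup_right ⟨_, rfl⟩)) (AddSubgroup.mem_sup_left ⟨_, rfl⟩)
          refine sup_le hA'St ?_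
          rintro _ ⟨a, ha, rfl⟩
          exact mul_mem (mul_mem hwSt (hA'St ha)) (inv_mem hwSt)
        exact fun k w hw => hgen ⟨k, rfl⟩ w hw
      have hw := key k (B.lam x + B.om y) (add_mem (AddSubgroup.mem_sup_left ⟨_, rfl⟩)
        (AddSubgroup.mem_sup_right ⟨_, rfl⟩))
      obtain ⟨l, ⟨a, rfl⟩, o, ⟨b, rfl⟩, e'⟩ := AddSubgroup.mem_sup.1 hw
      have h0 := B.indep c' hc' (x' - a) (y' - b) (by
        rw [map_sub, map_sub, ← sub_eq_zero.2 (e.symm.trans e'.symm)]; abel)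
      have := e.symm.trans e'.symm
      rw [sub_eq_zero.1 h0.1, sub_eq_zero.1 h0.2] at this
      rw [add_assoc] at this
      exact add_eq_right.1 this
    obtain ⟨l, ⟨a, rfl⟩, o, ⟨b, rfl⟩, e⟩ := AddSubgroup.mem_sup.1 hd
    rw [← e]
    exact add_mem (hlamH a) (homH b)
  refine ⟨hLC, hgrp, commute_of_comS h.faith ?_ hgrp⟩
  rw [B.fix_grp]; exact hLC

end Cfsg.Agent.FFMinimal
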