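import Cfsg.Agent.Lib.FFMinimal.Defs
import Cfsg.Agent.Lib.FFMinimal.Crd

/-!
Minimal offenders of a group satisfying the bound on `V` and on `V*`, all having blocks with `hh = 0`.

* `Good` : the hypotheses
* `Good.comS_le_fix`, `Good.comS_inf` : two commuting minimal offenders
* `Good.card_sup` : commuting minimal offenders form a direct product
* `Good.commute_of_le` : minimal offenders in a common `p`-group commute
-/

set_option autoImplicit false

namespace Cfsg.Agent.FFMinimal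

open Subgroup
open OffenderSL2 (fixS cj app_mul app_one app_inv_self app_self_inv fix_le fix_sup mem_fix_cj apply_mem_fix_cj mem_cj)

universe u v

variable {P : Type u} [Group P] {V : Type v} [AddCommGroup V] {σ : P →* AddMonoid.End V} {p : ℕ}

variable (σ p) in
/-- The hypotheses. -/
structure Good : Prop where
  exponent : ∀ v : V, p • v = 0
  faith : ∀ g : P, (∀ v, σ g v = v) → g = 1
  bound : Bound σ p
  dual : ∀ D : Subgroup P, Elem p D → Nat.card ↥D ≤ Nat.card ↥(comS σ D)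
  root : ∀ A, MinOff σ p A → ∃ (F : Type) (_ : Field F) (_ : Finite F) (B : Block σ F A), B.hh = 0

namespace Block

variable {F : Type} [Field F] {A : Subgroup P} (B : Block σ F A)

theorem lam_injective : Function.Injective B.lam := (injective_iff_map_eq_zero _).2 fun x hx =>
  (B.indep 0 (zero_mem _) x 0 (by rw [hx, map_zero, add_zero, add_zero])).1

theorem comS_eq_range (h : B.hh = 0) : comS σ A = B.lam.range := by
  rw [B.comS_eq]
  refine le_antisymm ((AddSubgroup.closure_le _).2 ?_) ?_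
  · rintro _ ⟨t, x, rfl⟩
    rw [h, AddMonoidHom.zero_apply, add_zero]
    exact ⟨_, rfl⟩
  · rintro _ ⟨x, rfl⟩
    exact AddSubgroup.subset_closure ⟨x, 1, by rw [h, AddMonoidHom.zero_apply, add_zero, mul_one]⟩

theorem card_comS (h : B.hh = 0) : Nat.card ↥(comS σ A) = Nat.card ↥A := by
  rw [B.comS_eq_range h, B.card_A]
  exact (Nat.card_congr (AddMonoidHom.ofInjective B.lam_injective).toEquiv).symm

end Block

theorem fix_sup_eq (A A' : Subgroup P) : fixS σ (A ⊔ A') = fixS σ A ⊓ fixS σ A' :=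
  le_antisymm (le_inf (fix_le le_sup_left) (fix_le le_sup_right)) fun _ hv => fix_sup _ _ hv.1 hv.2

theorem comS_sup_le {A A' : Subgroup P}
    (h : comS σ A ⊔ comS σ A' ≤ fixS σ A ⊓ fixS σ A') : comS σ (A ⊔ A') ≤ comS σ A ⊔ comS σ A' := by
  set W := comS σ A ⊔ comS σ A'
  let N : Subgroup P :=
    { carrier := {g | (∀ w ∈ W, σ g w = w) ∧ ∀ v, σ g v - v ∈ W}
      one_mem' := ⟨fun w _ => app_one w, fun v => by rw [app_one, sub_self]; exact zero_mem _⟩
      mul_mem' := fun {a b} ha hb => ⟨fun w hw => by rw [app_mul, hb.1 w hw, ha.1 w hw], fun v => by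
        rw [app_mul, show σ a (σ b v) - v = (σ a (σ b v) - σ b v) + (σ b v - v) by abel]
        exact add_mem (ha.2 _) (hb.2 v)⟩
      inv_mem' := fun {a} ha => ⟨fun w hw => by
          conv_lhs => rw [← ha.1 w hw]
          rw [app_inv_self], fun v => by
          have := neg_mem (ha.2 (σ a⁻¹ v))
          rwa [app_self_inv, neg_sub] at this⟩ }
  have hle : A ⊔ A' ≤ N := sup_le
    (fun a ha => ⟨fun w hw => (h hw).1 a ha, fun v => AddSubgroup.mem_sup_left (sub_mem_comS ha v)⟩)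
    (fun a ha => ⟨fun w hw => (h hw).2 a ha, fun v => AddSubgroup.mem_sup_right (sub_mem_comS ha v)⟩)
  exact comS_le fun g hg v => (hle hg).2 v

theorem commute_of_comS (hf : ∀ g : P, (∀ v, σ g v = v) → g = 1) {A A' : Subgroup P}
    (h : comS σ A ≤ fixS σ A') (h' : comS σ A' ≤ fixS σ A) : ∀ a ∈ A, ∀ b ∈ A', a * b = b * a := by
  intro a ha b hb
  refine (inv_mul_eq_one.1 (hf _ fun v => ?_)).symm
  have e : σ (a * b) v = σ (b * a) v := by
    rw [app_mul, app_mul, show σ b v = v + (σ b v - v) by abel, map_add, h' (sub_mem_comS hb v) a ha,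
      show σ a v = v + (σ a v - v) by abel, map_add, h (sub_mem_comS ha v) b hb]
    abel
  rw [app_mul, e, app_inv_self]

theorem exists_mul_of_mem_sup {A A' : Subgroup P} (hc : ∀ a ∈ A, ∀ b ∈ A', a * b = b * a) {g : P}
    (hg : g ∈ A ⊔ A') : ∃ a ∈ A, ∃ b ∈ A', a * b = g := by
  let f : ↥A × ↥A' →* P := (A.subtype).noncommCoprod A'.subtype fun x y => hc x x.2 y y.2
  have hle : A ⊔ A' ≤ f.range := sup_le
    (fun a ha => ⟨(⟨a, ha⟩, 1), mul_one a⟩)
    (fun a ha => ⟨(1, ⟨a, ha⟩), one_mul a⟩)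
  obtain ⟨⟨x, y⟩, rfl⟩ := hle hg
  exact ⟨x, x.2, y, y.2, rfl⟩

theorem card_sup_le [Finite P] {A A' : Subgroup P} (hc : ∀ a ∈ A, ∀ b ∈ A', a * b = b * a) :
    Nat.card ↥(A ⊔ A' : Subgroup P) ≤ Nat.card ↥A * Nat.card ↥A' := by
  rw [← Nat.card_prod]
  refine Nat.card_le_card_of_surjective
    (fun z => ⟨(z.1 : P) * z.2, mul_mem (mem_sup_left z.1.2) (mem_sup_right z.2.2)⟩) fun ⟨g, hg⟩ => ?_
  obtain ⟨a, ha, b, hb, e⟩ := exists_mul_of_mem_sup hc hg
  exact ⟨(⟨a, ha⟩, ⟨b, hb⟩), Subtype.ext e⟩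

theorem inf_eq_bot_of_card [Finite P] {A A' : Subgroup P} (hc : ∀ a ∈ A, ∀ b ∈ A', a * b = b * a)
    (h : Nat.card ↥A * Nat.card ↥A' ≤ Nat.card ↥(A ⊔ A' : Subgroup P)) : A ⊓ A' = ⊥ := by
  rw [eq_bot_iff]
  rintro z ⟨hz, hz'⟩
  let f : ↥A × ↥A' → ↥(A ⊔ A' : Subgroup P) :=
    fun z => ⟨(z.1 : P) * z.2, mul_mem (mem_sup_left z.1.2) (mem_sup_right z.2.2)⟩
  have hb : Function.Bijective f := by
    refine (Nat.bijective_iff_surjective_and_card f).2 ⟨fun ⟨g, hg⟩ => ?_, ?_⟩
    · obtain ⟨a, ha, b, hb, e⟩ := exists_mul_of_mem_sup hc hg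
      exact ⟨(⟨a, ha⟩, ⟨b, hb⟩), Subtype.ext e⟩
    · rw [Nat.card_prod]
      exact le_antisymm h (card_sup_le hc)
  have := @hb.1 (⟨z, hz⟩, 1) (1, ⟨z, hz'⟩) (Subtype.ext (by simp [f]))
  exact mem_bot.2 (congrArg (fun w : ↥A × ↥A' => (w.1 : P)) this)

variable [Finite P] [Finite V] [Fact p.Prime] {A A' : Subgroup P} (h : Good σ p)
include h

theorem Good.quad (hA : MinOff σ p A) : comS σ A ≤ fixS σ A := by
  obtain ⟨F, _, _, B, -⟩ := h.root A hA
  exact B.quad

theorem Good.wt_eq (hA : MinOff σ p A) : wt σ A = Nat.card V := by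
  obtain ⟨F, _, _, B, -⟩ := h.root A hA
  exact B.wt_A

theorem Good.card_comS (hA : MinOff σ p A) : Nat.card ↥(comS σ A) = Nat.card ↥A := by
  obtain ⟨F, _, _, B, hB⟩ := h.root A hA
  exact B.card_comS hB

theorem Good.mem_fix (hA : MinOff σ p A) {a : P} (ha : a ∈ A) (ha1 : a ≠ 1) {v : V} (hv : σ a v = v) :
    v ∈ fixS σ A := by
  obtain ⟨F, _, _, B, -⟩ := h.root A hA
  obtain ⟨t, rfl⟩ := B.mem_A.1 ha
  exact B.mem_fix_of_up (fun e => ha1 (by rw [e, B.up_zero])) hv

theorem Good.inf_eq (hA : MinOff σ p A) (hA' : MinOff σ p A') (hne : A' ≠ A) : A ⊓ A' = ⊥ := by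
  obtain ⟨F, _, _, B, -⟩ := h.root A hA
  obtain ⟨F', _, _, B', -⟩ := h.root A' hA'
  exact inf_eq_bot h.exponent h.faith h.bound B hA hA' B' hne

/-- The commutator of one of two commuting minimal offenders is fixed by the other one. -/
theorem Good.comS_le_fix (hA : MinOff σ p A) (hA' : MinOff σ p A')
    (hc : ∀ a ∈ A, ∀ b ∈ A', a * b = b * a) : comS σ A ≤ fixS σ A' := by
  rcases eq_or_ne A' A with rfl | hne
  · exact h.quad hA'
  refine comS_le fun a ha v b hb => ?_
  obtain ⟨u, hu, u', hu', rfl⟩ := AddSubgroup.mem_sup.1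
    ((sup_fix_eq_top h.bound hA.off hA'.off (h.inf_eq hA hA' hne) hc).ge (AddSubgroup.mem_top v))
  rw [map_add, hu a ha, add_sub_add_left_eq_sub, map_sub, ← app_mul, ← hc a ha b hb, app_mul, hu' b hb]

/-- Two commuting minimal offenders move independently. -/
theorem Good.comS_inf (hA : MinOff σ p A) (hA' : MinOff σ p A')
    (hc : ∀ a ∈ A, ∀ b ∈ A', a * b = b * a) (hne : A' ≠ A) : comS σ A ⊓ comS σ A' = ⊥ := by
  have h1 := h.comS_le_fix hA hA' hc
  have h2 := h.comS_le_fix hA' hA fun a ha b hb => (hc b hb a ha).symm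
  have hsup : comS σ A ⊔ comS σ A' ≤ fixS σ A ⊓ fixS σ A' :=
    sup_le (le_inf (h.quad hA) h1) (le_inf h2 (h.quad hA'))
  have hd := (card_sup_of_inf_eq_bot (h.inf_eq hA hA' hne) hc).trans
    ((h.dual _ (hA.off.elem.sup hA'.off.elem hc)).trans
      (Nat.card_le_card_of_injective _ (Set.inclusion_injective (comS_sup_le hsup))))
  have h3 := card_sup_mul_inf (comS σ A) (comS σ A')
  rw [h.card_comS hA, h.card_comS hA'] at h3
  rw [← AddSubgroup.card_eq_one]
  refine le_antisymm (Nat.le_of_mul_le_mul_left ?_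
    (Nat.card_pos : 0 < Nat.card ↥(comS σ A ⊔ comS σ A' : AddSubgroup V))) Nat.card_pos
  rw [h3, mul_one]
  exact hd

omit h in
theorem comm_finset_sup {s : Finset (Subgroup P)}
    (hs : ∀ B ∈ s, ∀ a ∈ A, ∀ b ∈ B, a * b = b * a) : ∀ a ∈ A, ∀ b ∈ s.sup id, a * b = b * a := by
  intro a ha b hb
  have hle : s.sup id ≤ centralizer {a} := Finset.sup_le fun B hB x hx =>
    mem_centralizer_singleton_iff.2 (hs B hB a ha x hx).symm
  exact (mem_centralizer_singleton_iff.1 (hle hb)).symm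

/-- Commuting minimal offenders form a direct product, which is again a quadratic offender. -/
theorem Good.card_sup (s : Finset (Subgroup P)) (hs : ∀ B ∈ s, MinOff σ p B)
    (hc : ∀ B ∈ s, ∀ B' ∈ s, ∀ a ∈ B, ∀ b ∈ B', a * b = b * a) :
    Elem p (s.sup id) ∧ Nat.card ↥(s.sup id) = (∏ B ∈ s, Nat.card ↥B) ∧
      Nat.card V ≤ wt σ (s.sup id) ∧ comS σ (s.sup id) ≤ fixS σ (s.sup id) ∧
      comS σ (s.sup id) ≤ s.sup (comS σ) := by
  classical
  induction hn : s.card using Nat.strong_induction_on generalizing s with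
  | _ n ih =>
  rcases s.eq_empty_or_nonempty with rfl | ⟨A, hA⟩
  · refine ⟨Elem.bot p, card_bot, (wt_bot (σ := σ)).ge, ?_, (comS_bot (σ := σ)).le.trans bot_le⟩
    rw [Finset.sup_empty, comS_bot]; exact bot_le
  set s' := s.erase A with hs'
  have hins : s = insert A s' := (Finset.insert_erase hA).symm
  have hlt : s'.card < n := hn ▸ Finset.card_erase_lt_of_mem hA
  have hmem : ∀ {B}, B ∈ s' → B ∈ s := fun hB => Finset.mem_of_mem_erase hB
  obtain ⟨he, hcard, hoff, hq, hcs⟩ := ih _ hlt s' (fun B hB => hs B (hmem hB))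
    (fun B hB B' hB' => hc B (hmem hB) B' (hmem hB')) rfl
  set D := s'.sup id with hD
  have hA' := hs A hA
  have hcAD : ∀ a ∈ A, ∀ b ∈ D, a * b = b * a :=
    comm_finset_sup fun B hB => hc A hA B (hmem hB)
  have hAD : comS σ A ≤ fixS σ D := fun v hv => by
    intro d hd
    let St : Subgroup P :=
      { carrier := {g | σ g v = v}
        one_mem' := app_one v
        mul_mem' := fun {a b} ha hb => by show σ (a * b) v = v; rw [app_mul, hb, ha]
        inv_mem' := fun {a} ha => by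
          show σ a⁻¹ v = v
          conv_lhs => rw [← show σ a v = v from ha]
          rw [app_inv_self] }
    exact (Finset.sup_le (a := St) fun B hB b hb =>
      h.comS_le_fix hA' (hs B (hmem hB)) (hc A hA B (hmem hB)) hv b hb : D ≤ St) hd
  have hDA : comS σ D ≤ fixS σ A := hcs.trans (Finset.sup_le fun B hB =>
    h.comS_le_fix (hs B (hmem hB)) hA' (hc B (hmem hB) A hA))
  have hi : A ⊓ D = ⊥ := by
    rw [eq_bot_iff]
    rintro a ⟨haA, haD⟩
    rw [mem_bot]
    by_contra ha1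
    -- `A` fixes what `D` fixes
    have hfix : fixS σ D ≤ fixS σ A := fun v hv => h.mem_fix hA' haA ha1 (hv a haD)
    have hDne : D ≠ ⊥ := fun e => ha1 (mem_bot.1 (e.le haD))
    have hAleD : A ≤ D := fun u hu => mem_of_hkill h.exponent h.faith h.bound ⟨he, hDne, hoff⟩ hq
      (fun v hv => hfix hv u hu) (fun v => hAD (sub_mem_comS hu v))
    obtain ⟨B, hB⟩ : s'.Nonempty := by
      by_contra hne
      exact hDne (by rw [hD, Finset.not_nonempty_iff_eq_empty.1 hne, Finset.sup_empty])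
    set t := s'.erase B with ht
    have hBA : B ≠ A := (Finset.mem_erase.1 hB).1
    have htA : A ∉ t := fun e => Finset.notMem_erase A s (Finset.mem_of_mem_erase e)
    have hsub : insert A t ⊆ s := Finset.insert_subset hA
      fun C hC => hmem (Finset.mem_of_mem_erase hC)
    have hlt2 : (insert A t).card < n := by
      rw [← hn]
      refine Finset.card_lt_card (Finset.ssubset_iff_of_subset hsub |>.2 ⟨B, hmem hB, ?_⟩)
      simp [ht, hBA]
    obtain ⟨-, hcard2, -⟩ := ih _ hlt2 (insert A t) (fun C hC => hs C (hsub hC))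
      (fun C hC C' hC' => hc C (hsub hC) C' (hsub hC')) rfl
    obtain ⟨het, hcardt, -⟩ := ih _ (lt_trans (Finset.card_erase_lt_of_mem hB) hlt) t
      (fun C hC => hs C (hmem (Finset.mem_of_mem_erase hC)))
      (fun C hC C' hC' => hc C (hmem (Finset.mem_of_mem_erase hC)) C' (hmem (Finset.mem_of_mem_erase hC'))) rfl
    have hBB : Nat.card ↥D = Nat.card ↥B * Nat.card ↥(t.sup id) := by
      rw [hcard, hcardt]
      exact (Finset.mul_prod_erase s' (fun C : Subgroup P => Nat.card ↥C) hB).symm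
    have hAt : A ⊓ t.sup id = ⊥ := by
      rw [Finset.sup_insert, Finset.prod_insert htA, ← hcardt] at hcard2
      exact inf_eq_bot_of_card
        (comm_finset_sup fun C hC => hc A hA C (hmem (Finset.mem_of_mem_erase hC))) hcard2.ge
    have hsplit : D = B ⊔ t.sup id := by
      rw [hD, show s' = insert B t from (Finset.insert_erase hB).symm, Finset.sup_insert]; rfl
    have hcBt : ∀ a ∈ B, ∀ b ∈ t.sup id, a * b = b * a :=
      comm_finset_sup fun C hC => hc B (hmem hB) C (hmem (Finset.mem_of_mem_erase hC))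
    obtain ⟨b, hbB, d, hdt, hbd⟩ := exists_mul_of_mem_sup hcBt (hsplit.le haD)
    have hb1 : b ≠ 1 := fun e => ha1 (mem_bot.1 (hAt.le ⟨haA, by
      rw [← hbd, e, one_mul]; exact hdt⟩))
    obtain ⟨v, hvt, hvB⟩ : ∃ v ∈ fixS σ (t.sup id), v ∉ fixS σ B := by
      by_contra hcon
      push Not at hcon
      have h1 : fixS σ (t.sup id) ≤ fixS σ D := fun v hv => by
        rw [hsplit, fix_sup_eq]; exact ⟨hcon v hv, hv⟩
      have h2 : fixS σ D = fixS σ (t.sup id) :=
        le_antisymm (hsplit ▸ fix_le le_sup_right) h1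
      have h3 := h.bound _ he
      rw [wt, hBB, h2] at h3
      obtain ⟨-, -, hofft, -⟩ := ih _ (lt_trans (Finset.card_erase_lt_of_mem hB) hlt) t
        (fun C hC => hs C (hmem (Finset.mem_of_mem_erase hC)))
        (fun C hC C' hC' => hc C (hmem (Finset.mem_of_mem_erase hC)) C' (hmem (Finset.mem_of_mem_erase hC'))) rfl
      have h4 : Nat.card ↥B ≤ 1 := Nat.le_of_mul_le_mul_right (by
        rw [one_mul, ← mul_assoc]; exact h3.trans hofft)
        (Nat.mul_pos (Nat.card_pos : 0 < Nat.card ↥(t.sup id))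
          (Nat.card_pos : 0 < Nat.card ↥(fixS σ (t.sup id))))
      exact (hs B (hmem hB)).off.ne (Subgroup.eq_bot_of_card_le B h4)
    have h1 : σ a v - v = σ b v - v := by rw [← hbd, app_mul, hvt d hdt]
    have h2 : σ b v - v = 0 := (AddSubgroup.mem_bot).1
      ((h.comS_inf (hs B (hmem hB)) hA' (hc B (hmem hB) A hA) hBA.symm).le
        ⟨sub_mem_comS hbB v, h1 ▸ sub_mem_comS haA v⟩)
    exact hvB (h.mem_fix (hs B (hmem hB)) hbB hb1 (sub_eq_zero.1 h2))
  rw [hins, Finset.sup_insert, Finset.prod_insert (Finset.notMem_erase A s), Finset.sup_insert]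
  show Elem p (A ⊔ D) ∧ Nat.card ↥(A ⊔ D : Subgroup P) = _ ∧ _ ∧ _ ∧ comS σ (A ⊔ D) ≤ _
  have hsupE : Elem p (A ⊔ D) := hA'.off.elem.sup he hcAD
  have hsum : comS σ A ⊔ comS σ D ≤ fixS σ A ⊓ fixS σ D :=
    sup_le (le_inf (h.quad hA') hAD) (le_inf hDA hq)
  have hcardAD : Nat.card ↥(A ⊔ D : Subgroup P) = Nat.card ↥A * Nat.card ↥D :=
    le_antisymm (card_sup_le hcAD) (card_sup_of_inf_eq_bot hi hcAD)
  refine ⟨hsupE, by rw [hcardAD, hcard], ?_, ?_, (comS_sup_le hsum).trans (sup_le_sup_left hcs _)⟩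
  · show Nat.card V ≤ wt σ (A ⊔ D)
    rw [wt, hcardAD, fix_sup_eq]
    have h5 := card_sup_mul_inf (fixS σ A) (fixS σ D)
    have h6 := AddSubgroup.card_le_card_addGroup (fixS σ A ⊔ fixS σ D)
    refine Nat.le_of_mul_le_mul_left ?_ (Nat.card_pos (α := V))
    calc Nat.card V * Nat.card V ≤ wt σ A * wt σ D := Nat.mul_le_mul hA'.off.le hoff
      _ = Nat.card ↥A * Nat.card ↥D * (Nat.card ↥(fixS σ A) * Nat.card ↥(fixS σ D)) := by
          simp only [wt]; ring
      _ ≤ Nat.card ↥A * Nat.card ↥D * (Nat.card V * Nat.card ↥(fixS σ A ⊓ fixS σ D : AddSubgroup V)) := by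
          rw [← h5]; exact Nat.mul_le_mul_left _ (Nat.mul_le_mul_right _ h6)
      _ = _ := by ring
  · show comS σ (A ⊔ D) ≤ fixS σ (A ⊔ D)
    rw [fix_sup_eq]
    exact (comS_sup_le hsum).trans hsum

/-- Three commuting minimal offenders: the third does not fix what the first two fix. -/
theorem Good.not_fix_le_of_three {A'' : Subgroup P} (hA : MinOff σ p A) (hA' : MinOff σ p A')
    (hA'' : MinOff σ p A'') (h12 : A ≠ A') (h13 : A ≠ A'') (h23 : A' ≠ A'')
    (hc12 : ∀ a ∈ A, ∀ b ∈ A', a * b = b * a) (hc13 : ∀ a ∈ A, ∀ b ∈ A'', a * b = b * a)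
    (hc23 : ∀ a ∈ A', ∀ b ∈ A'', a * b = b * a) : ¬ fixS σ A ⊓ fixS σ A' ≤ fixS σ A'' := by
  classical
  intro hle
  have key := h.card_sup {A'', A, A'} (by simp [hA, hA', hA'']) (by
    simp only [Finset.mem_insert, Finset.mem_singleton]
    rintro B (rfl | rfl | rfl) B' (rfl | rfl | rfl) a ha b hb
    all_goals first
      | exact hA.off.elem.comm a ha b hb
      | exact hA'.off.elem.comm a ha b hb
      | exact hA''.off.elem.comm a ha b hb
      | exact hc12 a ha b hb
      | exact hc13 a ha b hb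
      | exact hc23 a ha b hb
      | exact (hc12 b hb a ha).symm
      | exact (hc13 b hb a ha).symm
      | exact (hc23 b hb a ha).symm)
  have key2 := h.card_sup {A, A'} (by simp [hA, hA']) (by
    simp only [Finset.mem_insert, Finset.mem_singleton]
    rintro B (rfl | rfl) B' (rfl | rfl) a ha b hb
    all_goals first
      | exact hA.off.elem.comm a ha b hb
      | exact hA'.off.elem.comm a ha b hb
      | exact hc12 a ha b hb
      | exact (hc12 b hb a ha).symm)
  have hnot : A'' ∉ ({A, A'} : Finset (Subgroup P)) := by simp [h13.symm, h23.symm]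
  rw [Finset.sup_insert, Finset.prod_insert hnot] at key
  set D := ({A, A'} : Finset (Subgroup P)).sup id with hD
  obtain ⟨he, hcard, -⟩ := key
  obtain ⟨-, hcard2, hoff2, -⟩ := key2
  have hfix : fixS σ D ≤ fixS σ (id A'' ⊔ D) := by
    rw [fix_sup_eq, id, le_inf_iff]
    refine ⟨le_trans ?_ hle, le_rfl⟩
    rw [hD, Finset.sup_insert, Finset.sup_singleton, fix_sup_eq]
    exact le_rfl
  have h3 := h.bound _ he
  rw [wt, hcard, ← hcard2] at h3
  rw [wt] at hoff2
  have h4 : Nat.card ↥A'' ≤ 1 := Nat.le_of_mul_le_mul_right (by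
    rw [one_mul, ← mul_assoc]
    exact ((Nat.mul_le_mul_left _ (Nat.card_le_card_of_injective _
      (Set.inclusion_injective hfix))).trans h3).trans hoff2)
    (Nat.mul_pos (Nat.card_pos : 0 < Nat.card ↥D) (Nat.card_pos : 0 < Nat.card ↥(fixS σ D)))
  exact hA''.off.ne (Subgroup.eq_bot_of_card_le A'' h4)

end Cfsg.Agent.FFMinimal
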