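import Cfsg.Agent.Lib.FFMinimal.SplitSym

/-!
Every offender lies in the product of the components.

* `le_of_key` : shrinking an offender by a minimal one
* `Orbit.absorb`, `TCtx.absorb` : the two kinds of tops
* `exists_split_full` : the decomposition, its product being generated by the minimal offenders and
  containing all offenders
-/

set_option autoImplicit false

namespace Cfsg.Agent.FFMinimal

open Subgroup
open scoped MatrixGroups
open RankOne (upSL loSL)
open OffenderSL2 (fixS cj app_mul app_one app_inv_self app_self_inv fix_le fix_sup mem_fix_cj apply_mem_fix_cj mem_cj cj_cj)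

universe u v

variable {P : Type u} [Group P] {V : Type v} [AddCommGroup V] {σ : P →* AddMonoid.End V} {p : ℕ}

variable (σ) in
/-- A minimal offender in an offender has a complement fixing a transversal of its fixed points. -/
def Absorb (A D : Subgroup P) : Prop :=
  ∃ Y : AddSubgroup V, Nat.card ↥A ≤ Nat.card ↥Y ∧ Y ⊓ fixS σ A = ⊥ ∧
    ∀ d ∈ D, ∃ a ∈ A, ∀ y ∈ Y, σ (a⁻¹ * d) y = y

theorem Absorb.conj {A D : Subgroup P} (h : Absorb σ A D) (g : P) : Absorb σ (cj A g) (cj D g) := by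
  obtain ⟨Y, h1, h2, h3⟩ := h
  have hinj : Function.Injective (σ g : V → V) := fun x y e => by rw [← app_inv_self (σ := σ) g x, e, app_inv_self]
  refine ⟨Y.map (σ g), ?_, ?_, ?_⟩
  · rw [show Nat.card ↥(cj A g) = Nat.card ↥A from card_map_of_injective (MulAut.conj g).injective]
    exact h1.trans_eq (Nat.card_congr (AddSubgroup.equivMapOfInjective Y _ hinj).toEquiv)
  · rw [eq_bot_iff]
    rintro v ⟨⟨y, hy, rfl⟩, hv⟩
    have hy' : y ∈ Y ⊓ fixS σ A := AddSubgroup.mem_inf.2 ⟨hy, by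
      have := mem_fix_cj.1 hv
      change σ g⁻¹ (σ g y) ∈ fixS σ A at this
      rwa [app_inv_self] at this⟩
    rw [h2, AddSubgroup.mem_bot] at hy'
    rw [AddSubgroup.mem_bot, hy']
    exact map_zero _
  · rintro _ ⟨d, hd, rfl⟩
    obtain ⟨a, ha, hay⟩ := h3 d hd
    refine ⟨g * a * g⁻¹, ⟨a, ha, rfl⟩, ?_⟩
    rintro _ ⟨y, hy, rfl⟩
    show σ ((g * a * g⁻¹)⁻¹ * (g * d * g⁻¹)) (σ g y) = σ g y
    rw [← app_mul, show (g * a * g⁻¹)⁻¹ * (g * d * g⁻¹) * g = g * (a⁻¹ * d) by group, app_mul, hay y hy]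

theorem le_of_key [Finite P] [Finite V] {N : Subgroup P} (hN : ∀ A, MinOff σ p A → A ≤ N)
    (key : ∀ D, Off σ p D → ∀ A, MinOff σ p A → A ≤ D → Absorb σ A D) {D : Subgroup P}
    (hD : Off σ p D) : D ≤ N := by
  classical
  induction hn : Nat.card ↥D using Nat.strong_induction_on generalizing D with
  | _ n ih =>
    obtain ⟨A, hAD, hA⟩ := exists_minOff hD
    obtain ⟨Y, hY, hYA, hsplit⟩ := key D hD A hA hAD
    set D' := D ⊓ fixingV σ (Y : Set V) with hD'
    have hdec : ∀ d ∈ D, ∃ a ∈ A, ∃ d' ∈ D', a * d' = d := fun d hd => by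
      obtain ⟨a, ha, hay⟩ := hsplit d hd
      exact ⟨a, ha, a⁻¹ * d, Subgroup.mem_inf.2 ⟨mul_mem (inv_mem (hAD ha)) hd, hay⟩, mul_inv_cancel_left a d⟩
    intro d hd
    obtain ⟨a, ha, d', hd', rfl⟩ := hdec d hd
    refine mul_mem (hN A hA ha) ?_
    by_cases h0 : D' = ⊥
    · rw [h0] at hd'; rw [mem_bot.1 hd']; exact one_mem _
    have hne : D' ≠ D := fun e => hA.off.ne (Subgroup.eq_bot_of_card_le A (hY.trans (le_of_eq (by
      have h1 : Y ≤ fixS σ A := fun y hy a ha => ((e.ge (hAD ha)).2 : a ∈ fixingV σ (Y : Set V)) y hy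
      rw [show Y = ⊥ from le_bot_iff.1 (hYA ▸ le_inf le_rfl h1)]
      exact AddSubgroup.card_bot))))
    have hlt : Nat.card ↥D' < Nat.card ↥D :=
      lt_of_le_of_ne (card_le_of_le inf_le_left) fun e => hne (Subgroup.eq_of_le_of_card_ge inf_le_left e.ge)
    have hcD : Nat.card ↥D ≤ Nat.card ↥A * Nat.card ↥D' := by
      rw [← Nat.card_prod]
      refine Nat.card_le_card_of_surjective
        (fun z : ↥A × ↥D' => (⟨(z.1 : P) * z.2, mul_mem (hAD z.1.2) z.2.2.1⟩ : ↥D)) fun x => ?_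
      obtain ⟨a, ha, d', hd', e⟩ := hdec x x.2
      exact ⟨(⟨a, ha⟩, ⟨d', hd'⟩), Subtype.ext e⟩
    have hfix : Nat.card ↥Y * Nat.card ↥(fixS σ D) ≤ Nat.card ↥(fixS σ D') := by
      rw [← Nat.card_prod]
      refine Nat.card_le_card_of_injective (fun z : ↥Y × ↥(fixS σ D) => (⟨(z.1 : V) + z.2,
        add_mem (fun g hg => (hg.2 : g ∈ fixingV σ (Y : Set V)) _ z.1.2) (fix_le inf_le_left z.2.2)⟩ :
          ↥(fixS σ D'))) ?_
      rintro ⟨y, c⟩ ⟨y', c'⟩ e
      have e' : (y : V) + c = y' + c' := congrArg Subtype.val e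
      have e2 : (y : V) - y' = c' - c := by rw [sub_eq_sub_iff_add_eq_add, e', add_comm]
      have h1 : (y : V) - y' ∈ Y ⊓ fixS σ A :=
        AddSubgroup.mem_inf.2 ⟨sub_mem y.2 y'.2, e2 ▸ fix_le hAD (sub_mem c'.2 c.2)⟩
      rw [hYA, AddSubgroup.mem_bot] at h1
      rw [h1, eq_comm, sub_eq_zero] at e2
      exact Prod.ext (Subtype.ext (sub_eq_zero.1 h1)) (Subtype.ext e2.symm)
    have hle : Nat.card V ≤ wt σ D' := hD.le.trans (calc
      wt σ D ≤ Nat.card ↥A * Nat.card ↥D' * Nat.card ↥(fixS σ D) := Nat.mul_le_mul_right _ hcD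
      _ ≤ Nat.card ↥Y * Nat.card ↥D' * Nat.card ↥(fixS σ D) :=
        Nat.mul_le_mul_right _ (Nat.mul_le_mul_right _ hY)
      _ = Nat.card ↥D' * (Nat.card ↥Y * Nat.card ↥(fixS σ D)) := by ring
      _ ≤ _ := Nat.mul_le_mul_left _ hfix)
    exact ih _ (hn ▸ hlt) ⟨hD.elem.mono inf_le_left, h0, hle⟩ rfl hd'

namespace Orbit

variable [Finite P] [Finite V] [Fact p.Prime] {F : Type} [Field F] [Finite F] {T : Sylow p P}
  {M A : Subgroup P} {B : Block σ F A} (o : Orbit σ p T M A B)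
include o

theorem absorb_self {D : Subgroup P} (hD : Elem p D) (hDT : D ≤ (T : Subgroup P)) (hAD : A ≤ D) :
    Absorb σ A D := by
  have hhh : ∀ x, B.hh x = 0 := fun x => by rw [o.hh]; rfl
  refine ⟨B.om.range, ?_, ?_, fun d hd => ?_⟩
  · rw [B.card_A]
    refine Nat.card_le_card_of_injective (fun y => (⟨B.om y, ⟨y, rfl⟩⟩ : ↥B.om.range)) fun a b e => ?_
    have := congrArg (fun v => (B.crd v).2) (congrArg Subtype.val e)
    simpa [B.crd_om] using this
  · rw [eq_bot_iff]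
    rintro _ ⟨⟨y, rfl⟩, hy⟩
    obtain ⟨c, hc, x, e⟩ := B.mem_fix_A.1 hy
    have := congrArg (fun v => (B.crd v).2) e
    simp only [map_add, B.crd_om, B.crd_C hc, B.crd_lam, Prod.snd_add, Prod.snd_zero, zero_add] at this
    rw [AddSubgroup.mem_bot, this, map_zero]
  have hAd : cj A d = A := cj_eq_of_comm fun a ha => hD.comm a (hAD ha) d hd
  have hgd : cj B.grp d = B.grp := o.conj_grp_eq hAd
  -- the action on the root group and on the complement
  have hlam : ∀ x, σ d (B.lam x) = B.lam (B.crd (σ d (B.lam x))).1 := fun x => by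
    have h1 := apply_mem_comS_cj d (B.lam_range_le_comS o.hh x)
    rw [hAd, B.comS_eq_range o.hh] at h1
    obtain ⟨x', e⟩ := h1
    rw [← e, B.crd_lam]
  have hom : ∀ y, σ d (B.om y) = B.lam (B.crd (σ d (B.om y))).1 + B.om (B.crd (σ d (B.om y))).2 := fun y => by
    have h0 : B.om y ∈ comS σ B.grp := by
      rw [B.comS_grp o.hh]; exact AddSubgroup.mem_sup_right ⟨y, rfl⟩
    have h1 := apply_mem_comS_cj d h0
    rw [hgd, B.comS_grp o.hh] at h1
    obtain ⟨_, ⟨a, rfl⟩, _, ⟨b, rfl⟩, e⟩ := AddSubgroup.mem_sup.1 h1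
    rw [← e, map_add, B.crd_lam, B.crd_om]
    simp
  set f : F → F := fun x => (B.crd (σ d (B.lam x))).1 with hf
  set g : F → F := fun y => (B.crd (σ d (B.om y))).1 with hg
  have hk : ∀ t y, f (t * y) = t * (B.crd (σ d (B.om y))).2 := fun t y => by
    have hc : d * B.up t = B.up t * d := hD.comm d hd _ (hAD (B.up_mem t))
    have e1 : σ (B.up t) (B.om y) - B.om y = B.lam (t * y) := by rw [B.sub_om, hhh, add_zero]
    have e2 : σ d (B.lam (t * y)) = σ (B.up t) (σ d (B.om y)) - σ d (B.om y) := by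
      rw [← e1, map_sub, ← app_mul, hc, app_mul]
    have e3 := congrArg (fun v => (B.crd v).1) e2
    simp only [map_sub, B.crd_up, mulv_up, Prod.fst_sub] at e3
    rw [hf]; simpa using e3
  have hfc : ∀ t, f t = t * f 1 := fun t => by
    have h1 := hk t 1
    have h2 := hk 1 1
    rw [mul_one] at h1 h2
    rw [h1, h2, one_mul]
  have hc1 : f 1 = 1 := by
    have hpow : ∀ n : ℕ, ∀ x, σ (d ^ n) (B.lam x) = B.lam (x * f 1 ^ n) := by
      intro n
      induction n with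
      | zero => intro x; rw [pow_zero, pow_zero, app_one, mul_one]
      | succ m ihm =>
        intro x
        rw [pow_succ, app_mul, hlam x, show (B.crd (σ d (B.lam x))).1 = f x from rfl, hfc x, ihm, pow_succ',
          mul_assoc]
    have h1 := hpow p 1
    rw [hD.pow_eq d hd, app_one, one_mul] at h1
    have h2 : f 1 ^ p = 1 := by
      have := congrArg (fun v => (B.crd v).1) h1
      simpa [B.crd_lam] using this.symm
    haveI := Fintype.ofFinite F
    obtain ⟨k, hk⟩ := IsPGroup.iff_card.1 (o.minOff.off.elem.isPGroup)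
    rw [B.card_A, Nat.card_eq_fintype_card] at hk
    have hk0 : k ≠ 0 := fun e => by rw [e, pow_zero] at hk; exact absurd hk Fintype.one_lt_card.ne'
    calc f 1 = f 1 ^ Fintype.card F := (FiniteField.pow_card _).symm
      _ = (f 1 ^ p) ^ p ^ (k - 1) := by rw [hk, ← pow_mul, ← pow_succ', Nat.sub_add_cancel (Nat.pos_of_ne_zero hk0)]
      _ = 1 := by rw [h2, one_pow]
  have hlam' : ∀ x, σ d (B.lam x) = B.lam x := fun x => by
    rw [hlam x, show (B.crd (σ d (B.lam x))).1 = f x from rfl, hfc x, hc1, mul_one]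
  have hom' : ∀ y, σ d (B.om y) = B.lam (g y) + B.om y := fun y => by
    have h1 := hk 1 y
    rw [one_mul, one_mul, hfc y, hc1, mul_one] at h1
    rw [hom y, ← h1]
  have hlin : ∀ y x, g (y * x) = g y * x := by
    intro y
    have hm : d * B.lo y * d⁻¹ ∈ cj B.grp d := ⟨_, B.lo_mem_grp y, rfl⟩
    rw [hgd] at hm
    obtain ⟨m, e⟩ := hm
    have key : ∀ x, x + g (y * x) = m.1 0 0 * x := fun x => by
      have h1 : σ (B.φ m) (B.lam x) = B.lam (x + g (y * x)) + B.om (y * x) := by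
        have hinv : σ d⁻¹ (B.lam x) = B.lam x := by
          conv_lhs => rw [← hlam' x]
          exact app_inv_self _ _
        rw [e, app_mul, app_mul, hinv, B.lo_lam, hhh, add_zero, map_add, hlam', hom', map_add, add_assoc]
      have h2 := congrArg (fun v => (B.crd v).1) h1
      simp only [B.crd_app, B.crd_lam, map_add, B.crd_om] at h2
      simpa [mulv] using h2.symm
    have h0 : 1 + g y = m.1 0 0 := by simpa using key 1
    intro x
    linear_combination key x - x * h0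
  refine ⟨B.up (g 1), B.up_mem _, fun v hv => ?_⟩
  obtain ⟨y, rfl⟩ := hv
  have h1 : σ (B.up (g 1)) (B.om y) = B.lam (g y) + B.om y := by
    have e1 := hlin 1 y
    rw [one_mul] at e1
    rw [← sub_add_cancel (σ (B.up (g 1)) (B.om y)) (B.om y), B.sub_om, hhh, add_zero, e1]
  rw [app_mul, hom', ← h1, app_inv_self]

/-- An offender in the Sylow subgroup lies in every subgroup containing the minimal offenders. -/
theorem absorb {D A' : Subgroup P} (hD : Off σ p D) (hDT : D ≤ (T : Subgroup P)) (hA' : MinOff σ p A')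
    (hle : A' ≤ D) : Absorb σ A' D := by
  obtain ⟨t, ht, rfl⟩ := o.mem_orbit hA' (hle.trans hDT)
  exact (o.conj ht).absorb_self hD.elem hDT hle

/-- All minimal offenders are conjugate. -/
theorem exists_conj {A' : Subgroup P} (hA' : MinOff σ p A') : ∃ g, cj A g = A' := by
  obtain ⟨T', hT'⟩ := hA'.off.elem.isPGroup.exists_le_sylow
  obtain ⟨x, hx⟩ := MulAction.exists_smul_eq P T' T
  have hle : cj A' x ≤ (T : Subgroup P) := by
    rintro _ ⟨a, ha, rfl⟩
    rw [← hx]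
    exact ⟨a, hT' ha, rfl⟩
  obtain ⟨t, -, e⟩ := o.mem_orbit (hA'.conj x) hle
  refine ⟨x⁻¹ * t, ?_⟩
  rw [← cj_cj, e, cj_cj, inv_mul_cancel, cj_eq_of_comm fun a _ => by simp]

end Orbit

namespace TCtx

variable [Finite P] [Finite V] (h : TCtx σ)
include h

theorem exists_conj {A A' : Subgroup P} (hA : MinOff σ 2 A) (hA' : MinOff σ 2 A') : ∃ g, cj A g = A' := by
  obtain ⟨t, x, e, ht⟩ := h.exists_of_minOff hA
  obtain ⟨t', x', e', ht'⟩ := h.exists_of_minOff hA'
  obtain ⟨g, hg⟩ := h.conjugate ⟨A, hA⟩ (x := x) ⟨t, ht⟩ (y := x') ⟨t', ht'⟩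
  refine ⟨g, ?_⟩
  rw [e, e', ← h.eq_tv ht, ← h.eq_tv ht', ← hg, (h.tv_app g (x := x) ⟨t, ht⟩).2.1]
  show Subgroup.map _ _ = _
  rw [MonoidHom.map_zpowers]; rfl

theorem absorb {D A : Subgroup P} (hD : Off σ 2 D) {T : Sylow 2 P} {M : Subgroup P} (hM : IsCoatom M)
    (hTM : (T : Subgroup P) ≤ M) (hA : MinOff σ 2 A) (hle : A ≤ D) : Absorb σ A D := by
  classical
  have hex : ∃ A, MinOff σ 2 A := ⟨A, hA⟩
  obtain ⟨t, x, eA, ht⟩ := h.exists_of_minOff hA
  have hx : x ∈ tvSet σ := ⟨t, ht⟩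
  rw [← h.eq_tv ht] at eA
  subst eA
  obtain ⟨Ω, hΩ, a, ha, b, hb, hab, rfl⟩ := h.exists_frame hex hx
  obtain ⟨-, -, -, -, k, hk, hcard⟩ := hΩ.exists_top hex hM hTM
  set τ := tv σ (a + b)
  have hτD : τ ∈ D := hle (mem_zpowers _)
  have hdx : ∀ d ∈ D, σ d (a + b) = a + b := fun d hd => by
    obtain ⟨h1, h2, -⟩ := h.tv_app d hx
    have e : tv σ (σ d (a + b)) = τ := by rw [h2, hD.elem.comm d hd τ hτD, mul_inv_cancel_right]
    have hc : σ d (a + b) ∈ comS σ (zpowers (tv σ (σ d (a + b)))) := by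
      obtain ⟨v, hv⟩ := h.exists_f_one h1
      have h3 := sub_mem_comS (σ := σ) (mem_zpowers (tv σ (σ d (a + b)))) v
      rwa [h.app_one' h1 hv, add_sub_cancel_left] at h3
    rw [e] at hc
    exact (h.mem_comS_cases hx hc).resolve_left (h.ne_zero h1)
  have hstab : D ≤ hΩ.stab := fun d hd =>
    hΩ.mem_stab_of_edge hex ha hb hab ⟨a, ha, b, hb, hab, hdx d hd⟩
  letI : MulAction ↥D ↥Ω :=
    { smul := fun d w => ⟨σ d w, hstab d.2 w w.2⟩
      one_smul := fun w => Subtype.ext (app_one _)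
      mul_smul := fun d e w => Subtype.ext (app_mul _ _ _) }
  obtain ⟨o, ho⟩ := hD.elem.isPGroup.nonempty_fixed_point_of_prime_not_dvd_card ↥Ω (by
    rw [Nat.card_eq_fintype_card, Fintype.card_coe, hcard]
    have h2 : 2 ∣ 2 ^ k := dvd_pow_self 2 (by omega)
    omega)
  have hfo : ∀ d ∈ D, σ d (o : V) = o := fun d hd => congrArg Subtype.val (ho ⟨d, hd⟩)
  have hoa : a ≠ (o : V) := fun e => hab (by
    have := hfo τ hτD
    rw [← e, hΩ.swap_left ha hb hab] at this
    exact this.symm)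
  have hob : b ≠ (o : V) := fun e => hab (by
    have := hfo τ hτD
    rw [← e, hΩ.swap_right ha hb hab] at this
    exact this)
  have hy : a + (o : V) ∈ tvSet σ := hΩ.edge a ha o o.2 hoa
  have hτy : σ τ (a + o) = b + o := by rw [map_add, hΩ.swap_left ha hb hab, hfo τ hτD]
  have hne : σ τ (a + o) ≠ a + o := fun e => hab (add_right_cancel (hτy.symm.trans e)).symm
  refine ⟨AddSubgroup.zmultiples (a + (o : V)), ?_, ?_, fun d hd => ?_⟩
  · rw [h.small _ (h.isTv hx).1]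
    have : Finite ↥(AddSubgroup.zmultiples (a + (o : V))) := inferInstance
    exact (AddSubgroup.one_lt_card_iff_ne_bot _).2 fun e => h.ne_zero hy
      (AddSubgroup.mem_bot.1 (e.le (AddSubgroup.mem_zmultiples _)))
  · rw [eq_bot_iff]
    rintro v ⟨hv, hv'⟩
    obtain ⟨n, rfl⟩ := AddSubgroup.mem_zmultiples_iff.1 hv
    rcases Int.even_or_odd' n with ⟨m, rfl | rfl⟩
    · rw [AddSubgroup.mem_bot, mul_comm, mul_zsmul, show ((2 : ℤ) • (a + (o : V))) = 0 by rw [two_zsmul, h.two],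
        zsmul_zero]
    · refine absurd ?_ hne
      have e : (2 * m + 1) • (a + (o : V)) = a + o := by
        rw [add_zsmul, one_zsmul, mul_comm, mul_zsmul, show ((2 : ℤ) • (a + (o : V))) = 0 by rw [two_zsmul, h.two],
          zsmul_zero, zero_add]
      rw [← e]; exact hv' τ (mem_zpowers _)
  have hda : σ d a = a ∨ σ d a = b := by
    have hne' : σ d a ≠ σ d b := fun e => hab (by rw [← app_inv_self (σ := σ) d a, e, app_inv_self])
    have := hΩ.pair_eq (hstab hd a ha) (hstab hd b hb) ha hb hne' hab (by rw [← map_add, hdx d hd])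
    tauto
  rcases hda with e | e
  · refine ⟨1, one_mem _, fun v hv => ?_⟩
    obtain ⟨n, rfl⟩ := AddSubgroup.mem_zmultiples_iff.1 hv
    rw [inv_one, one_mul, map_zsmul, map_add, e, hfo d hd]
  · refine ⟨τ, mem_zpowers _, fun v hv => ?_⟩
    obtain ⟨n, rfl⟩ := AddSubgroup.mem_zmultiples_iff.1 hv
    rw [map_zsmul, app_mul, map_add, e, hfo d hd, ← hτy, app_inv_self]

end TCtx

namespace Red

variable [Finite P] [Finite V] [Fact p.Prime] {ρ : P →* AddMonoid.End V} {c : Chief ρ p} (r : Red ρ p c)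
include r

theorem off_img {D : Subgroup P} (hD : Off ρ p D) : Off c.actBar p (c.img D) := by
  have hinj := r.mk_injective
  have hcD : Nat.card ↥(c.img D) = Nat.card ↥D := card_map_of_injective hinj
  refine ⟨⟨?_, ?_⟩, fun e => hD.ne ((map_eq_bot_iff_of_injective D hinj).1 e), ?_⟩
  · rintro _ ⟨a, ha, rfl⟩ _ ⟨b, hb, rfl⟩
    rw [← map_mul, hD.elem.comm a ha b hb, map_mul]
  · rintro _ ⟨a, ha, rfl⟩
    rw [← map_pow, hD.elem.pow_eq a ha, map_one]
  -- the fixed points lose no more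
  set W := fixS ρ D
  set f : ↥(W ⊓ c.V₁) →+ ↥(fixS c.actBar (c.img D)) := AddMonoidHom.mk' (fun w => ⟨c.cls w.2.2, fun g hg => by
      obtain ⟨a, ha, rfl⟩ := hg
      exact (c.cls_eq (c.inv a _ w.2.2) w.2.2).2 (by rw [w.2.1 a ha, sub_self]; exact zero_mem _)⟩)
    fun a b => Subtype.ext rfl
  have h1 : Nat.card ↥(W ⊓ c.V₁ : AddSubgroup V) ≤ Nat.card ↥(fixS c.actBar (c.img D)) * Nat.card ↥c.C := by
    rw [← f.ker.index_mul_card, AddSubgroup.index_ker]
    refine Nat.mul_le_mul (Nat.le_of_dvd Nat.card_pos (AddSubgroup.card_addSubgroup_dvd_card _)) ?_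
    refine Nat.card_le_card_of_injective (fun w => (⟨(w.1 : V), (c.cls_eq_zero w.1.2.2).1
      (congrArg Subtype.val (AddMonoidHom.mem_ker.1 w.2))⟩ : ↥c.C)) fun a b e => ?_
    exact Subtype.ext (Subtype.ext (congrArg (fun z : ↥c.C => (z : V)) e))
  have h2 : Nat.card ↥W * Nat.card ↥c.V₁ ≤ Nat.card V * Nat.card ↥(W ⊓ c.V₁ : AddSubgroup V) := by
    set g : ↥W × ↥c.V₁ →+ V := AddMonoidHom.mk' (fun z => (z.1 : V) + z.2) fun a b => by
      simp only [Prod.fst_add, Prod.snd_add, AddSubgroup.coe_add]; abel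
    rw [← Nat.card_prod, ← g.ker.index_mul_card, AddSubgroup.index_ker]
    refine Nat.mul_le_mul (Nat.card_le_card_of_injective Subtype.val Subtype.val_injective) ?_
    have hz : ∀ z : ↥g.ker, (z.1.1 : V) = -(z.1.2 : V) := fun z =>
      eq_neg_of_add_eq_zero_left (AddMonoidHom.mem_ker.1 z.2)
    refine Nat.card_le_card_of_injective (fun z => (⟨(z.1.1 : V), AddSubgroup.mem_inf.2 ⟨z.1.1.2, by rw [hz z]; exact neg_mem z.1.2.2⟩⟩ :
      ↥(W ⊓ c.V₁ : AddSubgroup V))) fun a b e => ?_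
    have e1 : (a.1.1 : V) = b.1.1 := congrArg (fun z : ↥(W ⊓ c.V₁ : AddSubgroup V) => (z : V)) e
    refine Subtype.ext (Prod.ext (Subtype.ext e1) (Subtype.ext ?_))
    rwa [hz a, hz b, neg_inj] at e1
  have hV : 0 < Nat.card V := Nat.card_pos
  have hC : 0 < Nat.card ↥c.C := Nat.card_pos
  refine Nat.le_of_mul_le_mul_right (Nat.le_of_mul_le_mul_left (?_ : Nat.card V * (Nat.card c.U * Nat.card ↥c.C) ≤ Nat.card V * (wt c.actBar (c.img D) * Nat.card ↥c.C)) hV) hC
  calc Nat.card V * (Nat.card c.U * Nat.card ↥c.C) = Nat.card V * Nat.card ↥c.V₁ := by rw [c.card_U]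
    _ ≤ (Nat.card ↥D * Nat.card ↥W) * Nat.card ↥c.V₁ := Nat.mul_le_mul_right _ hD.le
    _ = Nat.card ↥D * (Nat.card ↥W * Nat.card ↥c.V₁) := by ring
    _ ≤ Nat.card ↥D * (Nat.card V * (Nat.card ↥(fixS c.actBar (c.img D)) * Nat.card ↥c.C)) :=
      Nat.mul_le_mul_left _ (h2.trans (Nat.mul_le_mul_left _ h1))
    _ = Nat.card V * (wt c.actBar (c.img D) * Nat.card ↥c.C) := by rw [wt, hcD]; ring

theorem minOff_conj {A A' : Subgroup P} (hA : MinOff ρ p A) (hA' : MinOff ρ p A') : ∃ g, cj A g = A' := by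
  obtain ⟨T, hT⟩ := hA.off.elem.isPGroup.exists_le_sylow
  obtain ⟨M, ⟨hM, hTM⟩, -⟩ := (r.pmin T).2
  have hs := (r.seen hA).minOff
  have hs' := (r.seen hA').minOff
  obtain ⟨gb, hg⟩ : ∃ gb, cj (c.img A) gb = c.img A' := by
    rcases r.dichotomy hM hTM with ⟨A₀, hA₀, -, F, iF, fF, B, o⟩ | ⟨hp2, h⟩
    · obtain ⟨g, hg⟩ := o.exists_conj hs
      obtain ⟨g', hg'⟩ := o.exists_conj hs'
      refine ⟨g' * g⁻¹, ?_⟩
      rw [← hg, cj_cj, inv_mul_cancel_right, hg']
    · subst hp2; exact h.exists_conj hs hs'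
  obtain ⟨g, rfl⟩ := QuotientGroup.mk'_surjective c.K gb
  rw [← img_cj] at hg
  exact ⟨g, Subgroup.map_injective r.mk_injective hg⟩

/-- Offenders lie in every normal subgroup containing a minimal one. -/
theorem off_le {N : Subgroup P} (hN : N.Normal) {A₀ : Subgroup P} (hA₀ : MinOff ρ p A₀) (hle : A₀ ≤ N)
    {D : Subgroup P} (hD : Off ρ p D) : D ≤ N := by
  have hall : ∀ A, MinOff ρ p A → A ≤ N := fun A hA => by
    obtain ⟨g, rfl⟩ := r.minOff_conj hA₀ hA
    rintro _ ⟨a, ha, rfl⟩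
    exact hN.conj_mem a (hle ha) g
  have hinj := r.mk_injective
  refine (Subgroup.map_le_map_iff_of_injective hinj).1 ?_
  show c.img D ≤ N.map _
  obtain ⟨T, hT⟩ := hD.elem.isPGroup.exists_le_sylow
  obtain ⟨M, ⟨hM, hTM⟩, -⟩ := (r.pmin T).2
  have hX : XData (V := V) p T M := ⟨r.exponent, r.pmin, hM, hTM⟩
  have hnN : (N.map (QuotientGroup.mk' c.K)).Normal := Subgroup.Normal.map hN _ (QuotientGroup.mk'_surjective c.K)
  rcases r.dichotomy hM hTM with ⟨A₁, hA₁, -, F, iF, fF, B, o⟩ | ⟨hp2, h⟩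
  · refine le_of_key (fun A hA => ?_) (fun D' hD' A hA hAD => ?_) (r.off_img hD)
    · obtain ⟨g, rfl⟩ := o.exists_conj hA
      rintro _ ⟨a, ha, rfl⟩
      exact hnN.conj_mem a (map_mono (hall _ hA₁) ha) g
    · obtain ⟨T', hT'⟩ := hD'.elem.isPGroup.exists_le_sylow
      obtain ⟨g, hg⟩ := MulAction.exists_smul_eq c.Xbar T' (c.sylowBar T)
      have hDg : cj D' g ≤ ((c.sylowBar T : Sylow p c.Xbar) : Subgroup c.Xbar) := by
        rintro _ ⟨a, ha, rfl⟩
        rw [← hg]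
        exact ⟨a, hT' ha, rfl⟩
      obtain ⟨Y, h1, h2, h3⟩ := o.absorb (hD'.conj g) hDg (hA.conj g) (map_mono hAD)
      have h := Absorb.conj (A := cj A g) (D := cj D' g) ⟨Y, h1, h2, h3⟩ g⁻¹
      rwa [cj_cj, cj_cj, inv_mul_cancel, cj_eq_of_comm (A := A) fun a _ => by simp,
        cj_eq_of_comm (A := D') fun a _ => by simp] at h
  · subst hp2
    obtain ⟨A₁, hA₁⟩ := r.exists_minOff
    refine le_of_key (fun A hA => ?_) (fun D' hD' A hA hAD => ?_) (r.off_img hD)
    · obtain ⟨g, rfl⟩ := h.exists_conj (r.seen hA₁).minOff hA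
      rintro _ ⟨a, ha, rfl⟩
      exact hnN.conj_mem a (map_mono (hall _ hA₁) ha) g
    · exact h.absorb hD' (c.coatom_MBar hX).1
        (T := c.sylowBar T) (by rw [c.sylowBar_coe hX]; exact map_mono hTM) hA hAD

end Red

/-- The decomposition, with the offenders in the product of the components. -/
theorem exists_split_full [Finite P] [Finite V] [Fact p.Prime] {ρ : P →* AddMonoid.End V}
    (hp : ∀ v : V, p • v = 0) (hf : ∀ g : P, (∀ v, ρ g v = v) → g = 1) (hpm : Cfsg.IsPMinimal p P)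
    (hcore : Cfsg.pCore p P = ⊥) (hoff : ∃ A, Off ρ p A) (T : Sylow p P) :
    ∃ (n : ℕ) (E : Fin n → Subgroup P), Split ρ p (T : Subgroup P) E ∧ (⨆ i, E i).Normal ∧
      (⨆ i, E i) = sSup {A | MinOff ρ p A} ∧ ∀ D, Off ρ p D → D ≤ ⨆ i, E i := by
  obtain ⟨c, r⟩ := exists_red hp hf hpm hcore hoff
  obtain ⟨n, E, hE, ⟨A₀, hA₀, hle⟩, hgen⟩ := exists_split hp hf hpm hcore hoff T
  refine ⟨n, E, hE, hE.normal, le_antisymm (iSup_le hgen) (sSup_le fun A hA => ?_), fun D hD => ?_⟩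
  · exact r.off_le hE.normal hA₀ hle hA.off
  · exact r.off_le hE.normal hA₀ hle hD

end Cfsg.Agent.FFMinimal
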