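import Cfsg.Agent.Lib.FFMinimal.Basic

/-!
Actions on invariant subgroups and on their quotients; quotient groups acting.

* `subAct`, `quoAct` : the induced actions
* `kerAct` : the action of the quotient by the kernel, with `kerAct_faith`
* `mk_mem_fix`, `mem_fix_sub` : fixed points
-/

set_option autoImplicit false

namespace Cfsg.Agent.FFMinimal

open Subgroup
open OffenderSL2 (fixS app_mul app_one)

universe u v

variable {P : Type u} [Group P] {V : Type v} [AddCommGroup V] (σ : P →* AddMonoid.End V)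

/-- The action on an invariant subgroup. -/
def subAct (W : AddSubgroup V) (hW : ∀ g, ∀ w ∈ W, σ g w ∈ W) : P →* AddMonoid.End ↥W where
  toFun g := AddMonoidHom.mk' (fun w => ⟨σ g w, hW g w w.2⟩) fun a b => Subtype.ext (map_add (σ g) a.1 b.1)
  map_one' := AddMonoidHom.ext fun w => Subtype.ext (app_one w.1)
  map_mul' g g' := AddMonoidHom.ext fun w => Subtype.ext (app_mul g g' w.1)

@[simp] theorem coe_subAct (W : AddSubgroup V) (hW : ∀ g, ∀ w ∈ W, σ g w ∈ W) (g : P) (w : ↥W) :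
    ((subAct σ W hW g w : ↥W) : V) = σ g w := rfl

/-- The action on the quotient by an invariant subgroup. -/
def quoAct (W : AddSubgroup V) (hW : ∀ g, ∀ w ∈ W, σ g w ∈ W) : P →* AddMonoid.End (V ⧸ W) where
  toFun g := QuotientAddGroup.map W W (σ g) (fun w hw => hW g w hw)
  map_one' := AddMonoidHom.ext fun w => QuotientAddGroup.induction_on w fun v => by
    show ((σ 1 v : V) : V ⧸ W) = v
    rw [app_one]
  map_mul' g g' := AddMonoidHom.ext fun w => QuotientAddGroup.induction_on w fun v => by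
    show ((σ (g * g') v : V) : V ⧸ W) = (σ g (σ g' v) : V)
    rw [app_mul]

@[simp] theorem quoAct_mk (W : AddSubgroup V) (hW : ∀ g, ∀ w ∈ W, σ g w ∈ W) (g : P) (v : V) :
    quoAct σ W hW g (v : V ⧸ W) = (σ g v : V) := rfl

/-- The action of the group modulo the kernel. -/
def kerAct : P ⧸ σ.ker →* AddMonoid.End V := QuotientGroup.lift σ.ker σ le_rfl

@[simp] theorem kerAct_mk (g : P) : kerAct σ (g : P ⧸ σ.ker) = σ g := rfl

theorem kerAct_faith : ∀ g : P ⧸ σ.ker, (∀ v, kerAct σ g v = v) → g = 1 := fun g =>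
  QuotientGroup.induction_on g fun x hx => (QuotientGroup.eq_one_iff x).2
    (MonoidHom.mem_ker.2 (AddMonoidHom.ext hx))

theorem mem_fix_sub {W : AddSubgroup V} {hW : ∀ g, ∀ w ∈ W, σ g w ∈ W} {H : Subgroup P} {w : ↥W} :
    w ∈ fixS (subAct σ W hW) H ↔ (w : V) ∈ fixS σ H :=
  ⟨fun h g hg => congrArg Subtype.val (h g hg), fun h g hg => Subtype.ext (h g hg)⟩

theorem mk_mem_fix {W : AddSubgroup V} {hW : ∀ g, ∀ w ∈ W, σ g w ∈ W} {H : Subgroup P} {v : V} :
    ((v : V) : V ⧸ W) ∈ fixS (quoAct σ W hW) H ↔ ∀ g ∈ H, σ g v - v ∈ W :=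
  ⟨fun h g hg => QuotientAddGroup.eq_iff_sub_mem.1 (h g hg),
    fun h g hg => QuotientAddGroup.eq_iff_sub_mem.2 (h g hg)⟩

theorem fix_kerAct (H : Subgroup P) :
    fixS (kerAct σ) (H.map (QuotientGroup.mk' σ.ker)) = fixS σ H := by
  ext v
  constructor
  · exact fun h g hg => h _ ⟨g, hg, rfl⟩
  · rintro h _ ⟨g, hg, rfl⟩
    exact h g hg

end Cfsg.Agent.FFMinimal
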