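import Cfsg.Agent.Lib.OffenderSL2.Main

/-!
Offenders of a finite group acting faithfully on an abelian group of exponent `p`.

* `Elem`, `wt`, `Off`, `MinOff`, `Bound` : elementary abelian subgroups, `|D| * |C_V(D)|`, offenders
* `comS` : the commutator `[V, H]`
* `mem_of_hkill` : under the bound, what fixes `C_V(A)` and moves into it lies in `A`
* `isPGroup_of_chain` : the stabiliser of a series of length three is a `p`-group
-/

set_option autoImplicit false

namespace Cfsg.Agent.FFMinimal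

open Subgroup
open OffenderSL2 (fixS cj mem_cj cj_cj app_mul app_one app_inv_self app_self_inv mem_fix_cj
  apply_mem_fix_cj fix_le fix_sup apply_mem_fix_top)

universe u v

variable {P : Type u} [Group P] {V : Type v} [AddCommGroup V] {σ : P →* AddMonoid.End V}

/-- An elementary abelian `p`-subgroup. -/
structure Elem (p : ℕ) (D : Subgroup P) : Prop where
  comm : ∀ a ∈ D, ∀ b ∈ D, a * b = b * a
  pow_eq : ∀ a ∈ D, a ^ p = 1

theorem Elem.mono {p : ℕ} {D D' : Subgroup P} (h : Elem p D) (hle : D' ≤ D) : Elem p D' :=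
  ⟨fun a ha b hb => h.comm a (hle ha) b (hle hb), fun a ha => h.pow_eq a (hle ha)⟩

theorem Elem.bot (p : ℕ) : Elem p (⊥ : Subgroup P) :=
  ⟨fun a ha b hb => by rw [mem_bot.1 ha, mem_bot.1 hb], fun a ha => by rw [mem_bot.1 ha, one_pow]⟩

theorem Elem.conj {p : ℕ} {D : Subgroup P} (h : Elem p D) (x : P) : Elem p (cj D x) := by
  refine ⟨?_, ?_⟩
  · rintro _ ⟨a, ha, rfl⟩ _ ⟨b, hb, rfl⟩
    rw [← map_mul, h.comm a ha b hb, map_mul]
  · rintro _ ⟨a, ha, rfl⟩
    rw [← map_pow, h.pow_eq a ha, map_one]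

theorem Elem.isPGroup {p : ℕ} {D : Subgroup P} (h : Elem p D) : IsPGroup p ↥D :=
  fun a => ⟨1, Subtype.ext (by simpa using h.pow_eq a a.2)⟩

/-- Two commuting elementary abelian subgroups generate one. -/
theorem Elem.sup {p : ℕ} {D D' : Subgroup P} (h : Elem p D) (h' : Elem p D')
    (hc : ∀ a ∈ D, ∀ b ∈ D', a * b = b * a) : Elem p (D ⊔ D') := by
  set S : Set P := (D : Set P) ∪ D'
  have hS : ∀ a ∈ S, ∀ b ∈ S, a * b = b * a := by
    rintro a (ha | ha) b (hb | hb)
    · exact h.comm a ha b hb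
    · exact hc a ha b hb
    · exact (hc b hb a ha).symm
    · exact h'.comm a ha b hb
  have hcen : D ⊔ D' ≤ centralizer S := by
    refine sup_le ?_ ?_
    · exact fun a ha => mem_centralizer_iff.2 fun b hb => hS b hb a (Or.inl ha)
    · exact fun a ha => mem_centralizer_iff.2 fun b hb => hS b hb a (Or.inr ha)
  have hcomm : ∀ a ∈ D ⊔ D', ∀ b ∈ D ⊔ D', a * b = b * a := by
    intro a ha b hb
    have h1 : D ⊔ D' ≤ centralizer {a} := sup_le
      (fun x hx => mem_centralizer_singleton_iff.2 (mem_centralizer_iff.1 (hcen ha) x (Or.inl hx)))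
      (fun x hx => mem_centralizer_singleton_iff.2 (mem_centralizer_iff.1 (hcen ha) x (Or.inr hx)))
    exact (mem_centralizer_singleton_iff.1 (h1 hb)).symm
  refine ⟨hcomm, fun a ha => ?_⟩
  rw [sup_eq_closure] at ha
  induction ha using closure_induction with
  | mem x hx => exact hx.elim (h.pow_eq x) (h'.pow_eq x)
  | one => exact one_pow p
  | mul a b ha hb iha ihb =>
    rw [← sup_eq_closure] at ha hb
    rw [(Commute.mul_pow (hcomm a ha b hb)), iha, ihb, one_mul]
  | inv a _ iha => rw [inv_pow, iha, inv_one]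

variable (σ) in
/-- `|D| * |C_V(D)|`. -/
noncomputable def wt (D : Subgroup P) : ℕ := Nat.card ↥D * Nat.card ↥(fixS σ D)

variable (σ) in
/-- `[V, H]`. -/
def comS (H : Subgroup P) : AddSubgroup V :=
  AddSubgroup.closure {w | ∃ h ∈ H, ∃ v, σ h v - v = w}

theorem sub_mem_comS {H : Subgroup P} {h : P} (hh : h ∈ H) (v : V) : σ h v - v ∈ comS σ H :=
  AddSubgroup.subset_closure ⟨h, hh, v, rfl⟩

theorem comS_le {H : Subgroup P} {S : AddSubgroup V} (h : ∀ g ∈ H, ∀ v, σ g v - v ∈ S) : comS σ H ≤ S :=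
  (AddSubgroup.closure_le _).2 (by rintro _ ⟨g, hg, v, rfl⟩; exact h g hg v)

theorem comS_mono {H K : Subgroup P} (h : H ≤ K) : comS σ H ≤ comS σ K :=
  comS_le fun g hg v => sub_mem_comS (h hg) v

theorem comS_bot : comS σ (⊥ : Subgroup P) = ⊥ :=
  eq_bot_iff.2 (comS_le fun g hg v => by rw [mem_bot.1 hg, app_one, sub_self]; exact zero_mem _)

theorem fix_bot : fixS σ (⊥ : Subgroup P) = ⊤ :=
  eq_top_iff.2 fun v _ g hg => by rw [mem_bot.1 hg, app_one]

theorem wt_bot : wt σ (⊥ : Subgroup P) = Nat.card V := by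
  rw [wt, card_bot, one_mul, fix_bot, AddSubgroup.card_top]

theorem wt_cj [Finite P] (D : Subgroup P) (x : P) : wt σ (cj D x) = wt σ D := by
  unfold wt
  congr 1
  · exact card_map_of_injective (MulAut.conj x).injective
  · exact Nat.card_congr
      { toFun := fun v => ⟨σ x⁻¹ v, mem_fix_cj.1 v.2⟩
        invFun := fun v => ⟨σ x v, apply_mem_fix_cj x v.2⟩
        left_inv := fun v => Subtype.ext (app_self_inv x v.1)
        right_inv := fun v => Subtype.ext (app_inv_self x v.1) }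

theorem apply_mem_comS_cj {A : Subgroup P} (x : P) {v : V} (hv : v ∈ comS σ A) :
    σ x v ∈ comS σ (cj A x) := by
  have h : comS σ A ≤ (comS σ (cj A x)).comap (σ x) := comS_le fun g hg v => by
    show σ x (σ g v - v) ∈ comS σ (cj A x)
    have e : σ (x * g * x⁻¹) (σ x v) = σ x (σ g v) := by
      rw [app_mul, app_mul, app_inv_self]
    rw [map_sub, ← e]
    exact sub_mem_comS (show x * g * x⁻¹ ∈ cj A x from ⟨g, hg, rfl⟩) _
  exact h hv

variable (σ) in
/-- An offender. -/
structure Off (p : ℕ) (D : Subgroup P) : Prop where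
  elem : Elem p D
  ne : D ≠ ⊥
  le : Nat.card V ≤ wt σ D

variable (σ) in
/-- A minimal offender. -/
structure MinOff (p : ℕ) (A : Subgroup P) : Prop where
  off : Off σ p A
  minimal : ∀ D ≤ A, Off σ p D → D = A

variable (σ) in
/-- No elementary abelian subgroup has `|D| * |C_V(D)| > |V|`. -/
def Bound (p : ℕ) : Prop := ∀ D : Subgroup P, Elem p D → wt σ D ≤ Nat.card V

theorem exists_minOff [Finite P] {p : ℕ} {D : Subgroup P} (h : Off σ p D) : ∃ A ≤ D, MinOff σ p A := by
  induction hn : Nat.card ↥D using Nat.strong_induction_on generalizing D with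
  | _ n ih =>
    by_cases hm : MinOff σ p D
    · exact ⟨D, le_rfl, hm⟩
    obtain ⟨D', hle, ho, hne⟩ : ∃ D' ≤ D, Off σ p D' ∧ D' ≠ D := by
      by_contra hc
      push Not at hc
      exact hm ⟨h, hc⟩
    have hlt : Nat.card ↥D' < n := by
      rw [← hn]
      exact lt_of_le_of_ne (Subgroup.card_le_of_le hle) fun e => hne (Subgroup.eq_of_le_of_card_ge hle e.ge)
    obtain ⟨A, hA, hA'⟩ := ih _ hlt ho rfl
    exact ⟨A, hA.trans hle, hA'⟩

theorem Off.conj [Finite P] {p : ℕ} {D : Subgroup P} (h : Off σ p D) (x : P) : Off σ p (cj D x) :=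
  ⟨h.elem.conj x, fun e => h.ne (by
    rwa [Subgroup.map_eq_bot_iff_of_injective _ (MulAut.conj x).injective] at e), by
    rw [wt_cj]; exact h.le⟩

theorem MinOff.conj [Finite P] {p : ℕ} {A : Subgroup P} (h : MinOff σ p A) (x : P) : MinOff σ p (cj A x) := by
  refine ⟨h.off.conj x, fun D hD ho => ?_⟩
  have e : cj D x⁻¹ = A := h.minimal _ (by
    intro g hg
    have := mem_cj.1 (hD (mem_cj.1 hg))
    simpa [mul_assoc] using this) (ho.conj x⁻¹)
  rw [← e, cj_cj, mul_inv_cancel]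
  ext g; simp [mem_cj]

theorem card_sup_mul_inf [Finite V] (S T : AddSubgroup V) :
    Nat.card ↥(S ⊔ T : AddSubgroup V) * Nat.card ↥(S ⊓ T : AddSubgroup V) = Nat.card ↥S * Nat.card ↥T := by
  let f : ↥S × ↥T →+ ↥(S ⊔ T : AddSubgroup V) := AddMonoidHom.mk'
    (fun z => ⟨(z.1 : V) + z.2, add_mem (AddSubgroup.mem_sup_left z.1.2) (AddSubgroup.mem_sup_right z.2.2)⟩)
    fun a b => Subtype.ext (show (a.1 : V) + b.1 + (a.2 + b.2) = a.1 + a.2 + (b.1 + b.2) by abel)
  have hsurj : Function.Surjective f := fun ⟨v, hv⟩ => by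
    obtain ⟨s, hs, t, ht, rfl⟩ := AddSubgroup.mem_sup.1 hv
    exact ⟨(⟨s, hs⟩, ⟨t, ht⟩), rfl⟩
  let e : ↥f.ker ≃ ↥(S ⊓ T : AddSubgroup V) :=
    { toFun := fun z => ⟨z.1.1, z.1.1.2, by
        have h : (z.1.1 : V) + z.1.2 = 0 := congrArg Subtype.val z.2
        show (z.1.1 : V) ∈ T
        rw [eq_neg_of_add_eq_zero_left h]
        exact T.neg_mem z.1.2.2⟩
      invFun := fun v => ⟨(⟨v.1, v.2.1⟩, ⟨-v.1, neg_mem v.2.2⟩), Subtype.ext (add_neg_cancel v.1)⟩
      left_inv := fun z => by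
        have h : (z.1.1 : V) + z.1.2 = 0 := congrArg Subtype.val z.2
        exact Subtype.ext (Prod.ext rfl (Subtype.ext (neg_eq_of_add_eq_zero_right h)))
      right_inv := fun v => rfl }
  have h1 := AddSubgroup.card_eq_card_quotient_mul_card_addSubgroup f.ker
  rw [Nat.card_congr (QuotientAddGroup.quotientKerEquivOfSurjective f hsurj).toEquiv, Nat.card_congr e,
    Nat.card_prod] at h1
  exact h1.symm

/-- `g v = v + w` with `w` fixed gives `g^n v = v + n w`. -/
theorem app_pow_of_fixed {g : P} {v : V} (h : σ g (σ g v - v) = σ g v - v) (n : ℕ) :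
    σ (g ^ n) v = v + n • (σ g v - v) := by
  induction n with
  | zero => rw [pow_zero, app_one, zero_nsmul, add_zero]
  | succ n ih =>
    rw [pow_succ', app_mul, ih, map_add, map_nsmul, h, succ_nsmul]
    abel

variable {p : ℕ}

/-- What fixes `C_V(A)` and moves into it lies in the offender `A`, if the bound holds. -/
theorem mem_of_hkill [Finite P] [Finite V] (hp : ∀ v : V, p • v = 0)
    (hf : ∀ g : P, (∀ v, σ g v = v) → g = 1) (hB : Bound σ p) {A : Subgroup P} (hA : Off σ p A)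
    (hq : comS σ A ≤ fixS σ A) {u : P} (h1 : ∀ v ∈ fixS σ A, σ u v = v)
    (h2 : ∀ v, σ u v - v ∈ fixS σ A) : u ∈ A := by
  have hu : ∀ v, σ u (σ u v - v) = σ u v - v := fun v => h1 _ (h2 v)
  have hup : u ^ p = 1 := hf _ fun v => by rw [app_pow_of_fixed (hu v), hp, add_zero]
  have hc : ∀ a ∈ A, ∀ b ∈ zpowers u, a * b = b * a := by
    intro a ha b hb
    obtain ⟨k, rfl⟩ := mem_zpowers_iff.1 hb
    refine (Commute.zpow_right ?_ k)
    refine inv_mul_eq_one.1 (hf _ fun v => ?_) |>.symm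
    have e : σ (a * u) v = σ (u * a) v := by
      rw [app_mul, app_mul, show σ u v = v + (σ u v - v) by abel, map_add, h2 v a ha,
        show σ a v = v + (σ a v - v) by abel, map_add, h1 _ (hq (sub_mem_comS ha v))]
      abel
    rw [app_mul, e, app_inv_self]
  have hz : Elem p (zpowers u) := by
    refine ⟨fun a ha b hb => ?_, fun a ha => ?_⟩
    · obtain ⟨i, rfl⟩ := mem_zpowers_iff.1 ha
      obtain ⟨j, rfl⟩ := mem_zpowers_iff.1 hb
      exact (Commute.refl u).zpow_zpow i j
    · obtain ⟨i, rfl⟩ := mem_zpowers_iff.1 ha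
      rw [← zpow_natCast, ← zpow_mul, mul_comm, zpow_mul, zpow_natCast, hup, one_zpow]
  have hD := hB _ (hA.elem.sup hz hc)
  have hfix : fixS σ A ≤ fixS σ (A ⊔ zpowers u) := fun v hv => fix_sup _ _ hv fun g hg => by
    have : g ∈ ({g : P | σ g v = v}) := by
      obtain ⟨i, rfl⟩ := mem_zpowers_iff.1 hg
      clear hg
      induction i using Int.induction_on with
      | zero => show σ _ v = v; rw [zpow_zero, app_one]
      | succ i ih => show σ _ v = v; rw [zpow_add_one, app_mul, h1 v hv]; exact ih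
      | pred i ih =>
        show σ _ v = v
        rw [zpow_sub_one, app_mul, show σ u⁻¹ v = v by
          conv_lhs => rw [← h1 v hv]
          rw [app_inv_self]]
        exact ih
    exact this
  have hle : Nat.card ↥(A ⊔ zpowers u : Subgroup P) ≤ Nat.card ↥A := by
    refine Nat.le_of_mul_le_mul_right (le_trans ?_ (le_trans hD hA.le)) (Nat.card_pos : 0 < Nat.card ↥(fixS σ A))
    exact Nat.mul_le_mul_left _ (Nat.card_le_card_of_injective (Set.inclusion hfix)
      (Set.inclusion_injective hfix))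
  have := Subgroup.eq_of_le_of_card_ge (le_sup_left : A ≤ A ⊔ zpowers u) hle
  rw [this]
  exact mem_sup_right (mem_zpowers u)

/-- The stabiliser of a series `S₁ ≤ S₂ ≤ V`. -/
theorem isPGroup_of_chain [Fact p.Prime] (hp : ∀ v : V, p • v = 0)
    (hf : ∀ g : P, (∀ v, σ g v = v) → g = 1) {H : Subgroup P} (S₁ S₂ : AddSubgroup V)
    (h1 : ∀ g ∈ H, ∀ v, σ g v - v ∈ S₂) (h2 : ∀ g ∈ H, ∀ v ∈ S₂, σ g v - v ∈ S₁)
    (h3 : ∀ g ∈ H, ∀ v ∈ S₁, σ g v = v) : IsPGroup p ↥H := fun g => by
  obtain ⟨g, hg⟩ := g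
  refine ⟨2, Subtype.ext ?_⟩
  show g ^ p ^ 2 = 1
  have hq : ∀ v ∈ S₂, σ (g ^ p) v = v := fun v hv => by
    rw [app_pow_of_fixed (h3 g hg _ (h2 g hg v hv)), hp, add_zero]
  rw [sq, pow_mul]
  exact hf _ fun v => by
    rw [app_pow_of_fixed (hq _ (h1 _ (pow_mem hg p) v)), hp, add_zero]

/-- Stabilising subgroup of an additive subgroup. -/
def stabS [Finite P] (σ : P →* AddMonoid.End V) (W : AddSubgroup V) : Subgroup P where
  carrier := {g | ∀ w ∈ W, σ g w ∈ W}
  one_mem' := fun w hw => by rwa [app_one]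
  mul_mem' := fun {a b} ha hb w hw => by rw [app_mul]; exact ha _ (hb w hw)
  inv_mem' := fun {a} ha => by
    obtain ⟨n, hn, he⟩ := (isOfFinOrder_of_finite a).exists_pow_eq_one
    have : ∀ k : ℕ, ∀ w ∈ W, σ (a ^ k) w ∈ W := by
      intro k
      induction k with
      | zero => exact fun w hw => by rwa [pow_zero, app_one]
      | succ k ih => exact fun w hw => by rw [pow_succ', app_mul]; exact ha _ (ih w hw)
    intro w hw
    rw [inv_eq_of_mul_eq_one_right (show a * a ^ (n - 1) = 1 by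
      rw [← pow_succ', Nat.sub_add_cancel hn, he])]
    exact this _ w hw

theorem mem_stabS [Finite P] {W : AddSubgroup V} {g : P} : g ∈ stabS σ W ↔ ∀ w ∈ W, σ g w ∈ W := Iff.rfl

variable (σ) in
/-- The irreducible `p`-minimal configuration. -/
structure Ctx (p : ℕ) : Prop where
  exponent : ∀ v : V, p • v = 0
  faith : ∀ g : P, (∀ v, σ g v = v) → g = 1
  pmin : Cfsg.IsPMinimal p P
  irr : ∀ W : AddSubgroup V, (∀ g, ∀ w ∈ W, σ g w ∈ W) → W = ⊥ ∨ W = ⊤
  nt : ∃ v : V, v ≠ 0

theorem Ctx.fix_top_eq_bot [Finite P] [Fact p.Prime] (h : Ctx σ p) : fixS σ (⊤ : Subgroup P) = ⊥ := by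
  refine (h.irr _ fun g w hw => by rwa [apply_mem_fix_top g hw]).resolve_right fun e => ?_
  obtain ⟨S⟩ : Nonempty (Sylow p P) := inferInstance
  have h1 : ∀ g : P, g = 1 := fun g => h.faith g fun v =>
    (e.ge (AddSubgroup.mem_top v) : v ∈ fixS σ (⊤ : Subgroup P)) g (mem_top g)
  exact (h.pmin S).1 ⟨fun a ha g => by rw [h1 (g * a * g⁻¹)]; exact one_mem _⟩

/-- A `p`-group moves less than everything. -/
theorem comS_ne_top [Finite P] [Finite V] [Fact p.Prime] (hp : ∀ v : V, p • v = 0) {S : Subgroup P}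
    (hS : IsPGroup p ↥S) (hne : ∃ v : V, v ≠ 0) : comS σ S ≠ ⊤ := by
  intro htop
  -- induct on invariant subgroups: the fixed vectors of the quotient by a maximal invariant subgroup
  obtain ⟨W, ⟨hW, hWtop⟩, hmax⟩ := Set.Finite.exists_maximal
    (s := {W : AddSubgroup V | (∀ g ∈ S, ∀ w ∈ W, σ g w ∈ W) ∧ W ≠ ⊤}) (Set.toFinite _)
    ⟨⊥, fun g _ w hw => by rw [AddSubgroup.mem_bot.1 hw, map_zero]; exact zero_mem _, fun e => by
      obtain ⟨v, hv⟩ := hne
      exact hv (AddSubgroup.mem_bot.1 (e.ge (AddSubgroup.mem_top v)))⟩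
  let act : MulAction ↥S (V ⧸ W) :=
    { smul := fun g x => QuotientAddGroup.map W W (σ (g : P)) (fun w hw => hW _ g.2 w hw) x
      one_smul := fun x => QuotientAddGroup.induction_on x fun v => by
        show ((σ ((1 : ↥S) : P) v : V) : V ⧸ W) = v
        rw [OneMemClass.coe_one, app_one]
      mul_smul := fun a b x => QuotientAddGroup.induction_on x fun v => by
        show ((σ ((a * b : ↥S) : P) v : V) : V ⧸ W) = (σ (a : P) (σ (b : P) v) : V)
        rw [Subgroup.coe_mul, app_mul] }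
  have hcard : p ∣ Nat.card (V ⧸ W) := by
    obtain ⟨v, hv⟩ : ∃ v : V, v ∉ W := by
      by_contra hc
      push Not at hc
      exact hWtop (eq_top_iff.2 fun v _ => hc v)
    have : addOrderOf ((v : V) : V ⧸ W) = p := addOrderOf_eq_prime (by rw [← QuotientAddGroup.mk_nsmul, hp]; rfl)
      fun e => hv ((QuotientAddGroup.eq_zero_iff v).1 e)
    exact this ▸ addOrderOf_dvd_natCard _
  have h0 : ((0 : V) : V ⧸ W) ∈ MulAction.fixedPoints ↥S (V ⧸ W) := fun g => by
    show ((σ (g : P) 0 : V) : V ⧸ W) = (0 : V)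
    rw [map_zero]
  obtain ⟨x, hx, hxne⟩ := hS.exists_fixed_point_of_prime_dvd_card_of_fixed_point (V ⧸ W) hcard h0
  induction x using QuotientAddGroup.induction_on with
  | H v =>
    have hv : v ∉ W := fun e => hxne (QuotientAddGroup.eq.2 (by simpa using e))
    let W' := W ⊔ AddSubgroup.zmultiples v
    have hsub : ∀ g ∈ S, σ g v - v ∈ W := fun g hg => by
      have := hx ⟨g, hg⟩
      exact QuotientAddGroup.eq_iff_sub_mem.1 this
    have hinv : ∀ g ∈ S, ∀ w ∈ W', σ g w ∈ W' := by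
      intro g hg w hw
      obtain ⟨a, ha, b, hb, rfl⟩ := AddSubgroup.mem_sup.1 hw
      obtain ⟨k, rfl⟩ := AddSubgroup.mem_zmultiples_iff.1 hb
      rw [map_add, map_zsmul, show σ g v = (σ g v - v) + v by abel, zsmul_add]
      exact add_mem (AddSubgroup.mem_sup_left (hW g hg a ha)) (add_mem
        (AddSubgroup.mem_sup_left (zsmul_mem (hsub g hg) k))
        (AddSubgroup.mem_sup_right (zsmul_mem (AddSubgroup.mem_zmultiples v) k)))
    have htop' : W' = ⊤ := by
      by_contra hne'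
      exact hv ((hmax ⟨hinv, hne'⟩ le_sup_left) (AddSubgroup.mem_sup_right (AddSubgroup.mem_zmultiples v)))
    refine hWtop (top_le_iff.1 (htop ▸ comS_le fun g hg w => ?_))
    obtain ⟨a, ha, b, hb, rfl⟩ := AddSubgroup.mem_sup.1 (htop'.ge (AddSubgroup.mem_top w))
    obtain ⟨k, rfl⟩ := AddSubgroup.mem_zmultiples_iff.1 hb
    rw [map_add, map_zsmul, add_sub_add_comm, ← zsmul_sub]
    exact add_mem (sub_mem (hW g hg a ha) ha) (zsmul_mem (hsub g hg) k)

end Cfsg.Agent.FFMinimal
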