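import Cfsg.Agent.Lib.FFMinimal.Basic
import Cfsg.Agent.Lib.RankOne.SL2

/-!
Blocks: `SL₂(F)` acting as the natural module plus fixed points, with exact coordinates.

* `Model` : `V` modulo the fixed points is the natural module
* `Block` : coordinates `c + lam x + om y`; the opposite group acts by the mirrored formulas
* `Model.exists_block` : coordinates exist for every model
-/

set_option autoImplicit false

namespace Cfsg.Agent.FFMinimal

open Subgroup
open RankOne (upSL loSL)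
open scoped MatrixGroups
open OffenderSL2 (fixS cj app_mul app_one app_inv_self app_self_inv)

universe u v

section Mat

variable {F : Type} [Field F]

/-- `diag(s, s⁻¹)`. -/
def dgSL (s : Fˣ) : SL(2, F) := ⟨!![(s : F), 0; 0, ((s⁻¹ : Fˣ) : F)], by simp [Matrix.det_fin_two]⟩

/-- `[[0, 1], [-1, 0]]`. -/
def wSL : SL(2, F) := ⟨!![0, 1; -1, 0], by simp [Matrix.det_fin_two]⟩

theorem coe_dgSL (s : Fˣ) : ((dgSL s : SL(2, F)) : Matrix (Fin 2) (Fin 2) F) = !![(s : F), 0; 0, ((s⁻¹ : Fˣ) : F)] := rfl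

theorem coe_wSL : ((wSL : SL(2, F)) : Matrix (Fin 2) (Fin 2) F) = !![0, 1; -1, 0] := rfl

theorem dgSL_mul (s t : Fˣ) : dgSL s * dgSL t = dgSL (s * t) := by
  apply Subtype.ext; simp [coe_dgSL, mul_comm]

theorem dgSL_one : dgSL (1 : Fˣ) = (1 : SL(2, F)) := by
  apply Subtype.ext; simp [coe_dgSL, Matrix.one_fin_two]

theorem dgSL_inv (s : Fˣ) : (dgSL s)⁻¹ = dgSL s⁻¹ :=
  inv_eq_of_mul_eq_one_right (by rw [dgSL_mul, mul_inv_cancel, dgSL_one])

theorem dg_up (s : Fˣ) (t : F) : dgSL s * upSL t = upSL ((s : F) * s * t) * dgSL s := by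
  apply Subtype.ext
  simp [coe_dgSL, RankOne.coe_upSL]
  field_simp

theorem up_dg (s : Fˣ) (t : F) : upSL t * dgSL s = dgSL s * upSL (((s⁻¹ : Fˣ) : F) * (s⁻¹ : Fˣ) * t) := by
  rw [dg_up]
  congr 2
  simp
  field_simp

theorem w_up (t : F) : wSL * upSL t = loSL (-t) * wSL := by
  apply Subtype.ext; simp [coe_wSL, RankOne.coe_upSL, RankOne.coe_loSL]

theorem w_lo (t : F) : wSL * loSL t = upSL (-t) * wSL := by
  apply Subtype.ext; simp [coe_wSL, RankOne.coe_upSL, RankOne.coe_loSL]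

theorem w_dg (s : Fˣ) : wSL * dgSL s = dgSL s⁻¹ * wSL := by
  apply Subtype.ext; simp [coe_wSL, coe_dgSL]

theorem up_lo_up (t : Fˣ) : upSL (t : F) * loSL (-((t⁻¹ : Fˣ) : F)) * upSL (t : F) = dgSL t * wSL := by
  apply Subtype.ext; simp [coe_wSL, coe_dgSL, RankOne.coe_upSL, RankOne.coe_loSL]

theorem closure_up_lo : Subgroup.closure (Set.range (upSL (k := F)) ∪ Set.range (loSL (k := F))) = ⊤ := by
  rw [eq_top_iff, ← RankOne.lower_sup_upper (k := F)]
  refine sup_le (fun g hg => ?_) (fun g hg => ?_)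
  · obtain ⟨t, rfl⟩ := RankOne.mem_lowerUnipotentSL2.1 hg
    exact subset_closure (Or.inr ⟨t, rfl⟩)
  · obtain ⟨t, rfl⟩ := RankOne.mem_upperUnipotentSL2.1 hg
    exact subset_closure (Or.inl ⟨t, rfl⟩)

end Mat

variable {P : Type u} [Group P] {V : Type v} [AddCommGroup V] (σ : P →* AddMonoid.End V)

/-- `SL₂(F)` acting on `V` modulo fixed points as on its natural module. -/
structure Model (F : Type) [Field F] (A : Subgroup P) where
  φ : SL(2, F) →* P
  eqA : A = (Cfsg.upperUnipotentSL2 F).map φ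
  ψ : V →+ F × F
  surj : Function.Surjective ψ
  ker : ∀ v, ψ v = 0 ↔ v ∈ fixS σ φ.range
  equiv : ∀ (g : SL(2, F)) (v : V), ψ (σ (φ g) v) =
    (g.1 0 0 * (ψ v).1 + g.1 0 1 * (ψ v).2, g.1 1 0 * (ψ v).1 + g.1 1 1 * (ψ v).2)
  quad : comS σ A ≤ fixS σ A

/-- A block with coordinates. -/
structure Block (F : Type) [Field F] (A : Subgroup P) where
  φ : SL(2, F) →* P
  eqA : A = (Cfsg.upperUnipotentSL2 F).map φ
  C : AddSubgroup V
  lam : F →+ V
  om : F →+ V
  hh : F →+ V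
  hh_mem : ∀ x, hh x ∈ C
  fix_C : ∀ g, ∀ c ∈ C, σ (φ g) c = c
  decomp : ∀ v, ∃ c ∈ C, ∃ x y, v = c + lam x + om y
  indep : ∀ c ∈ C, ∀ x y, c + lam x + om y = 0 → x = 0 ∧ y = 0
  up_lam : ∀ t x, σ (φ (upSL t)) (lam x) = lam x
  up_om : ∀ t x, σ (φ (upSL t)) (om x) = om x + lam (t * x) + hh (t * x * x)
  dg_lam : ∀ (s : Fˣ) x, σ (φ (dgSL s)) (lam x) = lam (s * x)
  dg_om : ∀ (s : Fˣ) x, σ (φ (dgSL s)) (om x) = om (((s⁻¹ : Fˣ) : F) * x)
  w_lam : ∀ x, σ (φ wSL) (lam x) = - om x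
  w_om : ∀ x, σ (φ wSL) (om x) = lam x
  hh_two : (∀ t : F, t = 0 ∨ t = 1) → hh = 0

variable {σ} {F : Type} [Field F] {A : Subgroup P}

theorem Model.mem_A (M : Model σ F A) {a : P} : a ∈ A ↔ ∃ t, M.φ (upSL t) = a := by
  constructor
  · intro ha
    obtain ⟨g, hg, rfl⟩ := M.eqA.le ha
    obtain ⟨t, rfl⟩ := RankOne.mem_upperUnipotentSL2.1 hg
    exact ⟨t, rfl⟩
  · rintro ⟨t, rfl⟩
    exact M.eqA.ge ⟨_, RankOne.upSL_mem t, rfl⟩

theorem Model.up_mem (M : Model σ F A) (t : F) : M.φ (upSL t) ∈ A := M.mem_A.2 ⟨t, rfl⟩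

theorem Model.app_ker (M : Model σ F A) (g : SL(2, F)) {v : V} (hv : M.ψ v = 0) : σ (M.φ g) v = v :=
  (M.ker v).1 hv _ ⟨g, rfl⟩

/-- `g v - v` depends only on `ψ v`. -/
theorem Model.sub_eq (M : Model σ F A) (g : SL(2, F)) {v w : V} (h : M.ψ v = M.ψ w) :
    σ (M.φ g) v - v = σ (M.φ g) w - w := by
  have := M.app_ker g (show M.ψ (v - w) = 0 by rw [map_sub, h, sub_self])
  rw [map_sub] at this
  rw [sub_eq_sub_iff_sub_eq_sub]
  exact this

theorem Model.psi_dg (M : Model σ F A) (s : Fˣ) (v : V) :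
    M.ψ (σ (M.φ (dgSL s)) v) = ((s : F) * (M.ψ v).1, ((s⁻¹ : Fˣ) : F) * (M.ψ v).2) := by
  rw [M.equiv]; simp [coe_dgSL]

theorem Model.psi_w (M : Model σ F A) (v : V) :
    M.ψ (σ (M.φ wSL) v) = ((M.ψ v).2, - (M.ψ v).1) := by
  rw [M.equiv]; simp [coe_wSL]

theorem Model.psi_up (M : Model σ F A) (t : F) (v : V) :
    M.ψ (σ (M.φ (upSL t)) v) = ((M.ψ v).1 + t * (M.ψ v).2, (M.ψ v).2) := by
  rw [M.equiv]; simp [RankOne.coe_upSL]

theorem Model.psi_lo (M : Model σ F A) (t : F) (v : V) :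
    M.ψ (σ (M.φ (loSL t)) v) = ((M.ψ v).1, t * (M.ψ v).1 + (M.ψ v).2) := by
  rw [M.equiv]; simp [RankOne.coe_loSL]

/-- Coordinates when the field has more than two elements. -/
theorem Model.exists_block_of_unit (M : Model σ F A) (s : Fˣ) (hs : (s : F) ≠ 1) :
    ∃ B : Block σ F A, B.φ = M.φ ∧ B.C = M.ψ.ker := by
  classical
  set g₀ := M.φ (dgSL s) with hg₀
  set D : V → V := fun v => σ g₀ v - v with hD
  have hψD : ∀ v, M.ψ (D v) = (((s : F) - 1) * (M.ψ v).1, (((s⁻¹ : Fˣ) : F) - 1) * (M.ψ v).2) := by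
    intro v
    rw [hD]; simp only []
    rw [map_sub, hg₀, M.psi_dg]
    ext <;> simp [sub_mul]
  have hDw : ∀ v w, M.ψ v = M.ψ w → D v = D w := fun v w h => M.sub_eq _ h
  have hDadd : ∀ v w, D (v + w) = D v + D w := fun v w => by rw [hD]; simp only [map_add]; abel
  have hs' : ((s⁻¹ : Fˣ) : F) ≠ 1 := fun e => hs (by
    have := s.mul_inv; rw [e, mul_one] at this; exact this)
  choose pre hpre using M.surj
  set a : F := ((s : F) - 1)⁻¹ with ha
  set b : F := (((s⁻¹ : Fˣ) : F) - 1)⁻¹ with hb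
  have ha' : ((s : F) - 1) * a = 1 := mul_inv_cancel₀ (sub_ne_zero.2 hs)
  have hb' : (((s⁻¹ : Fˣ) : F) - 1) * b = 1 := mul_inv_cancel₀ (sub_ne_zero.2 hs')
  let lam : F →+ V := AddMonoidHom.mk' (fun x => D (pre (a * x, 0))) fun x y => by
    rw [← hDadd]
    exact hDw _ _ (by rw [map_add, hpre, hpre, hpre, Prod.mk_add_mk, mul_add, add_zero])
  let om : F →+ V := AddMonoidHom.mk' (fun y => D (pre (0, b * y))) fun x y => by
    rw [← hDadd]
    exact hDw _ _ (by rw [map_add, hpre, hpre, hpre, Prod.mk_add_mk, mul_add, add_zero])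
  have hlam : ∀ x, M.ψ (lam x) = (x, 0) := fun x => by
    show M.ψ (D _) = _
    rw [hψD, hpre]; simp [← mul_assoc, ha']
  have hom : ∀ y, M.ψ (om y) = (0, y) := fun y => by
    show M.ψ (D _) = _
    rw [hψD, hpre]
    refine Prod.ext (mul_zero _) ?_
    show (((s⁻¹ : Fˣ) : F) - 1) * (b * y) = y
    rw [← mul_assoc, hb', one_mul]
  have hlamD : ∀ v, (M.ψ v).2 = 0 → D v = lam (((s : F) - 1) * (M.ψ v).1) := fun v h => hDw _ _ (by
    rw [hpre, ← mul_assoc, mul_comm a, ha', one_mul, ← h])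
  have homD : ∀ v, (M.ψ v).1 = 0 → D v = om ((((s⁻¹ : Fˣ) : F) - 1) * (M.ψ v).2) := fun v h => hDw _ _ (by
    rw [hpre, ← mul_assoc, mul_comm b, hb', one_mul, ← h])
  have hcomm : ∀ (t : Fˣ) v, σ (M.φ (dgSL t)) (D v) = D (σ (M.φ (dgSL t)) v) := fun t v => by
    rw [hD]; simp only [map_sub, hg₀, ← app_mul, ← map_mul, dgSL_mul, mul_comm t s]
  have dg_lam : ∀ (t : Fˣ) x, σ (M.φ (dgSL t)) (lam x) = lam (t * x) := fun t x => by
    show σ _ (D _) = _
    rw [hcomm, hlamD _ (by rw [M.psi_dg, hpre]; simp)]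
    rw [M.psi_dg, hpre]
    congr 1
    simp only []
    linear_combination ((t : F) * x) * ha'
  have dg_om : ∀ (t : Fˣ) x, σ (M.φ (dgSL t)) (om x) = om (((t⁻¹ : Fˣ) : F) * x) := fun t x => by
    show σ _ (D _) = _
    rw [hcomm, homD _ (by rw [M.psi_dg, hpre]; simp)]
    rw [M.psi_dg, hpre]
    congr 1
    simp only []
    linear_combination (((t⁻¹ : Fˣ) : F) * x) * hb'
  have hwD : ∀ v, σ (M.φ wSL) (D v) = - σ (M.φ (dgSL s⁻¹)) (D (σ (M.φ wSL) v)) := fun v => by
    have hwd : σ (M.φ wSL) (σ g₀ v) = σ (M.φ (dgSL s⁻¹)) (σ (M.φ wSL) v) := by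
      rw [hg₀, ← app_mul, ← app_mul, ← map_mul, ← map_mul, w_dg]
    have hinv : ∀ u, σ (M.φ (dgSL s⁻¹)) (σ g₀ u) = u := fun u => by
      rw [hg₀, ← app_mul, ← map_mul, dgSL_mul, inv_mul_cancel, dgSL_one, map_one, app_one]
    show σ _ (σ g₀ v - v) = - σ _ (σ g₀ _ - _)
    rw [map_sub, map_sub, hwd, hinv, neg_sub]
  have w_om : ∀ x, σ (M.φ wSL) (om x) = lam x := fun x => by
    show σ _ (D _) = _
    rw [hwD, hlamD _ (by rw [M.psi_w, hpre]; simp), dg_lam, ← map_neg]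
    congr 1
    rw [M.psi_w, hpre]
    simp only []
    have e : ((s⁻¹ : Fˣ) : F) * ((s : F) - 1) = -(((s⁻¹ : Fˣ) : F) - 1) := by
      rw [mul_sub, s.inv_mul, mul_one]; ring
    rw [← mul_assoc, e]
    linear_combination x * hb'
  have w_lam : ∀ x, σ (M.φ wSL) (lam x) = - om x := fun x => by
    show σ _ (D _) = _
    rw [hwD, homD _ (by rw [M.psi_w, hpre]), dg_om]
    congr 2
    rw [M.psi_w, hpre]
    simp only [inv_inv]
    have e : (s : F) * (((s⁻¹ : Fˣ) : F) - 1) = -((s : F) - 1) := by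
      rw [mul_sub, s.mul_inv, mul_one]; ring
    rw [← mul_assoc, e]
    linear_combination x * ha'
  let hh : F →+ V := AddMonoidHom.mk' (fun t => σ (M.φ (upSL t)) (om 1) - om 1 - lam t) fun t t' => by
    have h1 : σ (M.φ (upSL t)) (σ (M.φ (upSL t')) (om 1) - om 1) = σ (M.φ (upSL t')) (om 1) - om 1 :=
      M.quad (sub_mem_comS (M.up_mem t') _) _ (M.up_mem t)
    rw [map_sub] at h1
    rw [← RankOne.upSL_mul, map_mul, app_mul, map_add lam]
    rw [show σ (M.φ (upSL t)) (σ (M.φ (upSL t')) (om 1)) =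
      σ (M.φ (upSL t)) (om 1) + (σ (M.φ (upSL t')) (om 1) - om 1) by rw [← h1]; abel]
    abel
  have hhψ : ∀ t, M.ψ (hh t) = 0 := fun t => by
    show M.ψ (_ - _ - _) = 0
    rw [map_sub, map_sub, M.psi_up, hom, hlam]
    simp
  have up_lam : ∀ t x, σ (M.φ (upSL t)) (lam x) = lam x := fun t x => by
    have h1 : σ (M.φ (upSL t)) (σ (M.φ (upSL x)) (om 1) - om 1) = σ (M.φ (upSL x)) (om 1) - om 1 :=
      M.quad (sub_mem_comS (M.up_mem x) _) _ (M.up_mem t)
    rw [show lam x = (σ (M.φ (upSL x)) (om 1) - om 1) - hh x by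
      show lam x = _ - (_ - _ - lam x); abel, map_sub, h1, M.app_ker _ (hhψ x)]
  refine ⟨
    { φ := M.φ, eqA := M.eqA, C := M.ψ.ker, lam := lam, om := om, hh := hh
      hh_mem := fun x => hhψ x
      fix_C := fun g c hc => M.app_ker g hc
      decomp := fun v => ⟨v - lam (M.ψ v).1 - om (M.ψ v).2, ?_, (M.ψ v).1, (M.ψ v).2, by abel⟩
      indep := fun c hc x y h => ?_
      up_lam := up_lam, up_om := fun t x => ?_
      dg_lam := dg_lam, dg_om := dg_om, w_lam := w_lam, w_om := w_om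
      hh_two := fun h01 => absurd ((h01 (s : F)).resolve_left s.ne_zero) hs }, rfl, rfl⟩
  · rw [AddMonoidHom.mem_ker, map_sub, map_sub, hlam, hom]
    exact Prod.ext (by simp) (by simp)
  · have h' := congrArg M.ψ h
    rw [map_add, map_add, AddMonoidHom.mem_ker.1 hc, hlam, hom, map_zero] at h'
    simpa [Prod.ext_iff] using h'
  · by_cases hx : x = 0
    · simp [hx]
    set u := Units.mk0 x hx with hu
    have e : om x = σ (M.φ (dgSL u⁻¹)) (om 1) := by rw [dg_om]; simp [hu]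
    have e1 : σ (M.φ (upSL t)) (om x) =
        σ (M.φ (dgSL u⁻¹)) (σ (M.φ (upSL (t * x * x))) (om 1)) := by
      rw [e, ← app_mul, ← map_mul, up_dg, map_mul, app_mul]
      simp [hu]
      ring_nf
    rw [e1, show σ (M.φ (upSL (t * x * x))) (om 1) = om 1 + lam (t * x * x) + hh (t * x * x) by
      show _ = om 1 + lam _ + (_ - _ - lam _); abel, map_add, map_add, dg_lam, ← e,
      M.app_ker _ (hhψ _)]
    congr 3
    simp [hu]; field_simp

/-- Coordinates over the field with two elements. -/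
theorem Model.exists_block_of_two (M : Model σ F A) (h01 : ∀ t : F, t = 0 ∨ t = 1) :
    ∃ B : Block σ F A, B.φ = M.φ ∧ B.C = M.ψ.ker := by
  classical
  have h2 : (1 : F) + 1 = 0 := (h01 (1 + 1)).elim id fun e => absurd (add_eq_left.1 e) one_ne_zero
  have hneg : ∀ t : F, -t = t := fun t => by
    rcases h01 t with rfl | rfl
    · exact neg_zero
    · exact neg_eq_of_add_eq_zero_left h2
  set a := M.φ (upSL 1) with ha
  set b := M.φ (loSL 1) with hb
  have hab : σ (M.φ wSL) = σ a * σ b * σ a := by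
    have : (wSL : SL(2, F)) = upSL 1 * loSL 1 * upSL 1 := by
      apply Subtype.ext
      simp [coe_wSL, RankOne.coe_upSL, RankOne.coe_loSL, h2, hneg]
    rw [this, map_mul, map_mul, map_mul, map_mul]
  choose pre hpre using M.surj
  set o := σ b (pre (1, 0)) - pre (1, 0) with ho
  have hoψ : M.ψ o = (0, 1) := by rw [ho, map_sub, hb, M.psi_lo, hpre]; simp
  set l := σ a o - o with hl
  have hlψ : M.ψ l = (1, 0) := by rw [hl, map_sub, ha, M.psi_up, hoψ]; simp
  have ho' : o = σ b l - l := M.sub_eq _ (by rw [hpre, hlψ])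
  have hal : σ a l = l := M.quad (sub_mem_comS (M.up_mem 1) o) _ (M.up_mem 1)
  have hbo : σ b o = o := by
    have hw : (wSL : SL(2, F)) * upSL 1 = loSL 1 * wSL := by rw [w_up, hneg]
    have hww : ∀ g, σ (M.φ wSL) (σ a g) = σ b (σ (M.φ wSL) g) := fun g => by
      rw [ha, hb, ← app_mul, ← app_mul, ← map_mul, ← map_mul, hw]
    -- transport `[V, a]` to `[V, b]`
    have key : ∀ v, σ b (σ b v - v) = σ b v - v := fun v => by
      obtain ⟨u, rfl⟩ : ∃ u, σ (M.φ wSL) u = v := ⟨σ (M.φ wSL)⁻¹ v, app_self_inv _ _⟩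
      rw [← hww, ← map_sub, ← hww,
        M.quad (sub_mem_comS (M.up_mem 1) u) _ (M.up_mem 1)]
    exact key _
  have hbl : σ b l = l + o := by rw [ho']; abel
  have hao : σ a o = o + l := by rw [hl]; abel
  let mkH : (v : V) → v + v = 0 → (F →+ V) := fun v hv =>
    AddMonoidHom.mk' (fun t => if t = 0 then 0 else v) fun x y => by
      rcases h01 x with rfl | rfl <;> rcases h01 y with rfl | rfl <;> simp [h2, hv]
  have hdbl : ∀ (g : SL(2, F)), g * g = 1 → ∀ w, σ (M.φ g) (σ (M.φ g) w - w) = σ (M.φ g) w - w →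
      (σ (M.φ g) w - w) + (σ (M.φ g) w - w) = 0 := fun g hg w hw => by
    rw [map_sub, ← app_mul, ← map_mul, hg, map_one, app_one] at hw
    calc _ = (σ (M.φ g) w - w) + (w - σ (M.φ g) w) := by conv_lhs => arg 2; rw [← hw]
      _ = 0 := by abel
  have hll : l + l = 0 := hdbl (upSL 1) (by rw [RankOne.upSL_mul, h2, RankOne.upSL_zero]) o hal
  have hoo : o + o = 0 := by
    rw [ho]
    exact hdbl (loSL 1) (by rw [RankOne.loSL_mul, h2, RankOne.loSL_zero]) _ hbo
  set lam := mkH l hll with hlam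
  set om := mkH o hoo with hom
  have lam1 : lam 1 = l := by simp [hlam, mkH]
  have om1 : om 1 = o := by simp [hom, mkH]
  have hψl : ∀ x, M.ψ (lam x) = (x, 0) := fun x => by
    rcases h01 x with rfl | rfl
    · rw [map_zero, map_zero]; rfl
    · rw [lam1, hlψ]
  have hψo : ∀ x, M.ψ (om x) = (0, x) := fun x => by
    rcases h01 x with rfl | rfl
    · rw [map_zero, map_zero]; rfl
    · rw [om1, hoψ]
  have hdg : ∀ s : Fˣ, dgSL s = (1 : SL(2, F)) := fun s => by
    rw [show s = 1 from Units.ext ((h01 s).resolve_left s.ne_zero), dgSL_one]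
  have hu1 : ∀ s : Fˣ, s = 1 := fun s => Units.ext ((h01 s).resolve_left s.ne_zero)
  refine ⟨
    { φ := M.φ, eqA := M.eqA, C := M.ψ.ker, lam := lam, om := om, hh := 0
      hh_mem := fun x => zero_mem _
      fix_C := fun g c hc => M.app_ker g hc
      decomp := fun v => ⟨v - lam (M.ψ v).1 - om (M.ψ v).2, ?_, (M.ψ v).1, (M.ψ v).2, by abel⟩
      indep := fun c hc x y h => ?_
      up_lam := fun t x => ?_, up_om := fun t x => ?_
      dg_lam := fun s x => by rw [hdg, map_one, app_one, hu1 s]; simp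
      dg_om := fun s x => by rw [hdg, map_one, app_one, hu1 s]; simp
      w_lam := fun x => ?_, w_om := fun x => ?_, hh_two := fun _ => rfl }, rfl, rfl⟩
  · rw [AddMonoidHom.mem_ker, map_sub, map_sub, hψl, hψo]
    exact Prod.ext (by simp) (by simp)
  · have h' := congrArg M.ψ h
    rw [map_add, map_add, AddMonoidHom.mem_ker.1 hc, hψl, hψo, map_zero] at h'
    simpa [Prod.ext_iff] using h'
  · rcases h01 t with rfl | rfl
    · rw [RankOne.upSL_zero, map_one, app_one]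
    rcases h01 x with rfl | rfl
    · simp
    · rw [lam1, ← ha, hal]
  · rcases h01 t with rfl | rfl
    · simp [RankOne.upSL_zero, app_one]
    rcases h01 x with rfl | rfl
    · simp
    · simp only [one_mul, AddMonoidHom.zero_apply, add_zero, lam1, om1, ← ha, hao]
  · rcases h01 x with rfl | rfl
    · simp
    · rw [lam1, om1, hab]
      show σ a (σ b (σ a l)) = -o
      rw [hal, hbl, map_add, hal, hao, ← sub_eq_zero,
        show l + (o + l) - -o = (l + l) + (o + o) by abel, hll, hoo, add_zero]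
  · rcases h01 x with rfl | rfl
    · simp
    · rw [lam1, om1, hab]
      show σ a (σ b (σ a o)) = l
      rw [hao, map_add, hbo, hbl, show o + (l + o) = l + (o + o) by abel, hoo, add_zero, hal]

theorem Model.exists_block (M : Model σ F A) : ∃ B : Block σ F A, B.φ = M.φ ∧ B.C = M.ψ.ker := by
  by_cases h : ∃ s : F, s ≠ 0 ∧ s ≠ 1
  · obtain ⟨s, h0, h1⟩ := h
    exact M.exists_block_of_unit (Units.mk0 s h0) h1
  · push Not at h
    exact M.exists_block_of_two fun t => or_iff_not_imp_left.2 (h t)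

end Cfsg.Agent.FFMinimal
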