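import Cfsg.Agent.Lib.FFMinimal.Block

/-!
First consequences of the coordinates of a block.

* `Block.fix_A`, `Block.card_fix_A`, `Block.fix_range` : fixed points
* `Block.lo_lam`, `Block.lo_om` : the opposite root group
* `Block.hh_eq_zero_of_two` : `hh = 0` outside characteristic two
* `Block.conj` : transport by conjugation
* `hom_eq_one` : `SL₂(F)`, `|F| ≥ 4`, has no nontrivial abelian image
-/

set_option autoImplicit false

namespace Cfsg.Agent.FFMinimal

open Subgroup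
open RankOne (upSL loSL)
open scoped MatrixGroups
open OffenderSL2 (fixS cj app_mul app_one app_inv_self app_self_inv mem_fix_cj apply_mem_fix_cj fix_le fix_sup)

universe u v

variable {P : Type u} [Group P] {V : Type v} [AddCommGroup V] {σ : P →* AddMonoid.End V}
  {F : Type} [Field F] {A : Subgroup P}

namespace Block

variable (B : Block σ F A)

/-- The root element. -/
def up (t : F) : P := B.φ (upSL t)

/-- The opposite root element. -/
def lo (t : F) : P := B.φ (loSL t)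

/-- The torus element. -/
def dg (s : Fˣ) : P := B.φ (dgSL s)

/-- The subgroup of the block. -/
abbrev grp : Subgroup P := B.φ.range

theorem up_mem_grp (t : F) : B.up t ∈ B.grp := ⟨_, rfl⟩

theorem lo_mem_grp (t : F) : B.lo t ∈ B.grp := ⟨_, rfl⟩

theorem dg_mem_grp (s : Fˣ) : B.dg s ∈ B.grp := ⟨_, rfl⟩

theorem mem_A {a : P} : a ∈ A ↔ ∃ t, B.up t = a := by
  constructor
  · intro ha
    obtain ⟨g, hg, rfl⟩ := B.eqA.le ha
    obtain ⟨t, rfl⟩ := RankOne.mem_upperUnipotentSL2.1 hg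
    exact ⟨t, rfl⟩
  · rintro ⟨t, rfl⟩
    exact B.eqA.ge ⟨_, RankOne.upSL_mem t, rfl⟩

theorem up_mem (t : F) : B.up t ∈ A := B.mem_A.2 ⟨t, rfl⟩

theorem A_le_grp : A ≤ B.grp := fun a ha => by
  obtain ⟨t, rfl⟩ := B.mem_A.1 ha
  exact B.up_mem_grp t

theorem up_add (s t : F) : B.up (s + t) = B.up s * B.up t := by
  rw [up, ← RankOne.upSL_mul, map_mul]; rfl

theorem up_zero : B.up 0 = 1 := by rw [up, RankOne.upSL_zero, map_one]

theorem app_up_C {c : V} (hc : c ∈ B.C) (t : F) : σ (B.up t) c = c := B.fix_C _ c hc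

/-- The action of a root element. -/
theorem app_up {c : V} (hc : c ∈ B.C) (t x y : F) :
    σ (B.up t) (c + B.lam x + B.om y) = c + B.hh (t * y * y) + B.lam (x + t * y) + B.om y := by
  rw [map_add, map_add, B.app_up_C hc, up, B.up_lam, B.up_om, map_add]
  abel

theorem lo_eq (t : F) : loSL t = wSL * upSL (-t) * wSL⁻¹ := by
  rw [w_up, neg_neg, mul_inv_cancel_right]

theorem w_inv_lam (x : F) : σ (B.φ wSL⁻¹) (B.lam x) = B.om x := by
  rw [← B.w_om x, ← app_mul, ← map_mul, inv_mul_cancel, map_one, app_one]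

theorem w_inv_om (x : F) : σ (B.φ wSL⁻¹) (B.om x) = - B.lam x := by
  have : B.om x = σ (B.φ wSL) (- B.lam x) := by rw [map_neg, B.w_lam, neg_neg]
  conv_lhs => rw [this]
  rw [← app_mul, ← map_mul, inv_mul_cancel, map_one, app_one]

theorem lo_lam (t x : F) : σ (B.lo t) (B.lam x) = B.lam x + B.om (t * x) + B.hh (-(t * x * x)) := by
  rw [lo, lo_eq, map_mul B.φ, map_mul B.φ, app_mul, app_mul, B.w_inv_lam, B.up_om, map_add, map_add, B.w_om,
    B.w_lam, B.fix_C _ _ (B.hh_mem _), neg_mul, map_neg B.om, neg_neg, neg_mul]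

theorem lo_om (t x : F) : σ (B.lo t) (B.om x) = B.om x := by
  rw [lo, lo_eq, map_mul B.φ, map_mul B.φ, app_mul, app_mul, B.w_inv_om, map_neg, B.up_lam, map_neg, B.w_lam, neg_neg]

theorem mem_fix_up {t : F} (ht : t ≠ 0) {v : V} :
    σ (B.up t) v = v ↔ ∃ c ∈ B.C, ∃ x, v = c + B.lam x := by
  constructor
  · intro h
    obtain ⟨c, hc, x, y, rfl⟩ := B.decomp v
    rw [B.app_up hc] at h
    have h0 : B.hh (t * y * y) + B.lam (t * y) + B.om 0 = 0 := by
      rw [map_zero, add_zero]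
      calc B.hh (t * y * y) + B.lam (t * y)
          = (c + B.hh (t * y * y) + B.lam (x + t * y) + B.om y) - (c + B.lam x + B.om y) := by
            rw [map_add]; abel
        _ = 0 := by rw [h, sub_self]
    have := (B.indep _ (B.hh_mem _) _ _ h0).1
    rw [mul_eq_zero] at this
    refine ⟨c, hc, x, ?_⟩
    rw [this.resolve_left ht, map_zero, add_zero]
  · rintro ⟨c, hc, x, rfl⟩
    rw [map_add, B.app_up_C hc, up, B.up_lam]

theorem mem_fix_A {v : V} : v ∈ fixS σ A ↔ ∃ c ∈ B.C, ∃ x, v = c + B.lam x := by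
  constructor
  · exact fun h => (B.mem_fix_up one_ne_zero).1 (h _ (B.up_mem 1))
  · rintro ⟨c, hc, x, rfl⟩ a ha
    obtain ⟨t, rfl⟩ := B.mem_A.1 ha
    rw [map_add, B.app_up_C hc, up, B.up_lam]

theorem C_le_fix : B.C ≤ fixS σ A := fun c hc => B.mem_fix_A.2 ⟨c, hc, 0, by rw [map_zero, add_zero]⟩

theorem lam_mem_fix (x : F) : B.lam x ∈ fixS σ A := B.mem_fix_A.2 ⟨0, zero_mem _, x, by rw [zero_add]⟩

theorem mem_fix_of_up {t : F} (ht : t ≠ 0) {v : V} (hv : σ (B.up t) v = v) : v ∈ fixS σ A :=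
  B.mem_fix_A.2 ((B.mem_fix_up ht).1 hv)

theorem up_injective : Function.Injective B.up := fun s t h => by
  by_contra hne
  have h1 : B.up (s - t) = 1 := by
    have := B.up_add (s - t) t
    rw [sub_add_cancel, h] at this
    exact (mul_eq_right.1 this.symm)
  obtain ⟨c, hc, x, hx⟩ := (B.mem_fix_up (sub_ne_zero.2 hne)).1 (show σ (B.up (s - t)) (B.om 1) = B.om 1 by
    rw [h1, app_one])
  exact one_ne_zero (B.indep (-c) (neg_mem hc) (-x) 1 (by rw [hx, map_neg]; abel)).2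

theorem card_A (B : Block σ F A) : Nat.card ↥A = Nat.card F :=
  (Nat.card_congr (Equiv.ofBijective (fun t => (⟨B.up t, B.up_mem t⟩ : ↥A))
    ⟨fun _ _ h => B.up_injective (congrArg Subtype.val h), fun ⟨a, ha⟩ => by
      obtain ⟨t, rfl⟩ := B.mem_A.1 ha
      exact ⟨t, rfl⟩⟩)).symm

/-- The coordinates. -/
noncomputable def coord : ↥B.C × F × F ≃ V :=
  Equiv.ofBijective (fun z => (z.1 : V) + B.lam z.2.1 + B.om z.2.2) ⟨fun ⟨c, x, y⟩ ⟨c', x', y'⟩ h => by
    simp only [] at h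
    have h0 : ((c : V) - c') + B.lam (x - x') + B.om (y - y') = 0 := by
      rw [map_sub, map_sub, ← sub_eq_zero.2 h]; abel
    obtain ⟨hx, hy⟩ := B.indep _ (sub_mem c.2 c'.2) _ _ h0
    rw [sub_eq_zero] at hx hy
    subst hx hy
    rw [add_left_inj, add_left_inj] at h
    rw [Subtype.ext h], fun v => by
    obtain ⟨c, hc, x, y, rfl⟩ := B.decomp v
    exact ⟨(⟨c, hc⟩, x, y), rfl⟩⟩

theorem card_V : Nat.card V = Nat.card ↥B.C * (Nat.card F * Nat.card F) := by
  rw [← Nat.card_congr B.coord, Nat.card_prod, Nat.card_prod]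

theorem card_fix_A : Nat.card ↥(fixS σ A) = Nat.card ↥B.C * Nat.card F := by
  rw [← Nat.card_prod]
  refine (Nat.card_congr (Equiv.ofBijective
    (fun z : ↥B.C × F => (⟨(z.1 : V) + B.lam z.2, B.mem_fix_A.2 ⟨_, z.1.2, _, rfl⟩⟩ : ↥(fixS σ A)))
    ⟨fun ⟨c, x⟩ ⟨c', x'⟩ h => ?_, fun ⟨v, hv⟩ => ?_⟩)).symm
  · have h' : (c : V) + B.lam x = c' + B.lam x' := congrArg Subtype.val h
    have := B.coord.injective (a₁ := (c, x, 0)) (a₂ := (c', x', 0)) (by
      show (c : V) + B.lam x + B.om 0 = c' + B.lam x' + B.om 0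
      rw [h'])
    simpa [Prod.ext_iff] using this
  · obtain ⟨c, hc, x, rfl⟩ := B.mem_fix_A.1 hv
    exact ⟨(⟨c, hc⟩, x), rfl⟩

theorem wt_A (B : Block σ F A) : wt σ A = Nat.card V := by
  rw [wt, B.card_A, B.card_fix_A, B.card_V]; ring

theorem fix_grp : fixS σ B.grp = B.C := by
  refine le_antisymm (fun v hv => ?_) fun c hc g hg => ?_
  · obtain ⟨c, hc, x, rfl⟩ := (B.mem_fix_up one_ne_zero).1 (hv _ (B.up_mem_grp 1))
    have h := hv _ (B.lo_mem_grp 1)
    rw [map_add, lo, B.fix_C _ _ hc, ← lo, B.lo_lam, add_right_inj] at h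
    have h0 : B.hh (-(1 * x * x)) + B.lam 0 + B.om (1 * x) = 0 := by
      rw [map_zero, add_zero]
      calc B.hh (-(1 * x * x)) + B.om (1 * x)
          = (B.lam x + B.om (1 * x) + B.hh (-(1 * x * x))) - B.lam x := by abel
        _ = 0 := by rw [h, sub_self]
    have := (B.indep _ (B.hh_mem _) _ _ h0).2
    rw [one_mul] at this
    rw [this, map_zero, add_zero]
    exact hc
  · obtain ⟨g, rfl⟩ := hg
    exact B.fix_C g c hc

theorem sub_om (t x : F) : σ (B.up t) (B.om x) - B.om x = B.lam (t * x) + B.hh (t * x * x) := by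
  rw [up, B.up_om]; abel

theorem app_up_sub {c : V} (hc : c ∈ B.C) (t x y : F) :
    σ (B.up t) (c + B.lam x + B.om y) - (c + B.lam x + B.om y) = B.lam (t * y) + B.hh (t * y * y) := by
  rw [B.app_up hc, map_add]; abel

theorem comS_eq : comS σ A = AddSubgroup.closure {w | ∃ t x : F, w = B.lam (t * x) + B.hh (t * x * x)} := by
  refine le_antisymm (comS_le fun a ha v => ?_) ((AddSubgroup.closure_le _).2 ?_)
  · obtain ⟨t, rfl⟩ := B.mem_A.1 ha
    obtain ⟨c, hc, x, y, rfl⟩ := B.decomp v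
    exact AddSubgroup.subset_closure ⟨t, y, B.app_up_sub hc t x y⟩
  · rintro _ ⟨t, x, rfl⟩
    rw [← B.sub_om]
    exact sub_mem_comS (B.up_mem t) _

theorem quad (B : Block σ F A) : comS σ A ≤ fixS σ A := by
  rw [B.comS_eq, AddSubgroup.closure_le]
  rintro _ ⟨t, x, rfl⟩
  exact add_mem (B.lam_mem_fix _) (B.C_le_fix (B.hh_mem _))

/-- Outside characteristic two nothing is added. -/
theorem hh_eq_zero_of_two (h2 : (2 : F) ≠ 0) : B.hh = 0 := by
  ext t
  have e := map_add (σ (B.up (t * 2⁻¹))) (B.om 1) (B.om 1)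
  rw [← map_add B.om, up, B.up_om, B.up_om] at e
  simp only [one_add_one_eq_two, mul_one] at e
  have : B.hh (t * 2⁻¹ * 2 * 2) = B.hh (t * 2⁻¹) + B.hh (t * 2⁻¹) := by
    have e' : B.om 1 + B.om 1 = B.om 2 := by rw [← map_add, one_add_one_eq_two]
    have e'' : B.lam (t * 2⁻¹) + B.lam (t * 2⁻¹) = B.lam (t * 2⁻¹ * 2) := by rw [← map_add, mul_two]
    calc B.hh (t * 2⁻¹ * 2 * 2) = B.om 2 + B.lam (t * 2⁻¹ * 2) + B.hh (t * 2⁻¹ * 2 * 2) -
          B.om 2 - B.lam (t * 2⁻¹ * 2) := by abel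
      _ = (B.om 1 + B.lam (t * 2⁻¹) + B.hh (t * 2⁻¹) + (B.om 1 + B.lam (t * 2⁻¹) + B.hh (t * 2⁻¹))) -
          B.om 2 - B.lam (t * 2⁻¹ * 2) := by rw [e]
      _ = B.hh (t * 2⁻¹) + B.hh (t * 2⁻¹) := by rw [← e', ← e'']; abel
  rw [← map_add, inv_mul_cancel_right₀ h2, ← mul_two, inv_mul_cancel_right₀ h2, mul_two, map_add,
    add_eq_left] at this
  exact this

/-- Transport by conjugation. -/
def conj (g : P) : Block σ F (cj A g) where
  φ := (MulAut.conj g).toMonoidHom.comp B.φ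
  eqA := by rw [← Subgroup.map_map]; exact congrArg _ B.eqA
  C := B.C.map (σ g)
  lam := AddMonoidHom.comp (σ g) B.lam
  om := AddMonoidHom.comp (σ g) B.om
  hh := AddMonoidHom.comp (σ g) B.hh
  hh_mem x := ⟨_, B.hh_mem x, rfl⟩
  fix_C k := by
    rintro _ ⟨c, hc, rfl⟩
    show σ (g * B.φ k * g⁻¹) (σ g c) = σ g c
    rw [app_mul, app_inv_self, app_mul, B.fix_C k c hc]
  decomp v := by
    obtain ⟨c, hc, x, y, h⟩ := B.decomp (σ g⁻¹ v)
    refine ⟨σ g c, ⟨c, hc, rfl⟩, x, y, ?_⟩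
    rw [← app_self_inv (σ := σ) g v, h, map_add, map_add]
    rfl
  indep := by
    rintro _ ⟨c, hc, rfl⟩ x y h
    refine B.indep c hc x y ?_
    have h' : σ g c + σ g (B.lam x) + σ g (B.om y) = 0 := h
    have := congrArg (σ g⁻¹) h'
    simpa only [map_add, app_inv_self, map_zero] using this
  up_lam t x := by
    show σ (g * B.φ (upSL t) * g⁻¹) (σ g (B.lam x)) = σ g (B.lam x)
    rw [app_mul, app_inv_self, app_mul, B.up_lam]
  up_om t x := by
    show σ (g * B.φ (upSL t) * g⁻¹) (σ g (B.om x)) = σ g (B.om x) + σ g _ + σ g _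
    rw [app_mul, app_inv_self, app_mul, B.up_om, map_add, map_add]
  dg_lam s x := by
    show σ (g * B.φ (dgSL s) * g⁻¹) (σ g (B.lam x)) = σ g _
    rw [app_mul, app_inv_self, app_mul, B.dg_lam]
  dg_om s x := by
    show σ (g * B.φ (dgSL s) * g⁻¹) (σ g (B.om x)) = σ g _
    rw [app_mul, app_inv_self, app_mul, B.dg_om]
  w_lam x := by
    show σ (g * B.φ wSL * g⁻¹) (σ g (B.lam x)) = - σ g _
    rw [app_mul, app_inv_self, app_mul, B.w_lam, map_neg]
  w_om x := by
    show σ (g * B.φ wSL * g⁻¹) (σ g (B.om x)) = σ g _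
    rw [app_mul, app_inv_self, app_mul, B.w_om]
  hh_two h := by
    ext x
    show σ g (B.hh x) = 0
    rw [B.hh_two h, AddMonoidHom.zero_apply, map_zero]

theorem conj_grp (g : P) : (B.conj g).grp = cj B.grp g := by
  show ((MulAut.conj g).toMonoidHom.comp B.φ).range = _
  rw [MonoidHom.range_comp]

end Block

/-- A unit whose square is not one. -/
theorem exists_sq_ne_one [Finite F] (h4 : 4 ≤ Nat.card F) : ∃ s : Fˣ, (s : F) * s ≠ 1 := by
  classical
  by_contra hc
  push Not at hc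
  haveI := Fintype.ofFinite F
  have hsub : (Finset.univ : Finset F) ⊆ {0, 1, -1} := fun x _ => by
    by_cases hx : x = 0
    · simp [hx]
    rcases mul_self_eq_one_iff.1 (hc (Units.mk0 x hx)) with e | e <;> simp_all
  have := (Finset.card_le_card hsub).trans Finset.card_le_three
  rw [Finset.card_univ, ← Nat.card_eq_fintype_card] at this
  omega

/-- An abelian image of `SL₂(F)` is trivial. -/
theorem hom_eq_one [Finite F] (h4 : 4 ≤ Nat.card F) {M : Type*} [CommGroup M] (f : SL(2, F) →* M) : f = 1 := by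
  obtain ⟨s, hs⟩ := exists_sq_ne_one h4
  have hup : ∀ t, f (upSL t) = 1 := by
    intro t
    set u := t / ((s : F) * s - 1)
    have e := congrArg f (dg_up s u)
    rw [map_mul, map_mul, mul_comm, mul_left_inj] at e
    have e2 : f (upSL ((s : F) * s * u)) = f (upSL t) * f (upSL u) := by
      rw [← map_mul, RankOne.upSL_mul]
      congr 2
      have ht : t = u * ((s : F) * s - 1) := (div_mul_cancel₀ t (sub_ne_zero.2 hs)).symm
      rw [ht]; ring
    rw [e2] at e
    exact mul_eq_right.1 e.symm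
  have hlo : ∀ t, f (loSL t) = 1 := fun t => by
    rw [Block.lo_eq, map_mul, map_mul, hup, mul_one, ← map_mul, mul_inv_cancel, map_one]
  have : (⊤ : Subgroup SL(2, F)) ≤ f.ker := by
    rw [← closure_up_lo, closure_le]
    rintro _ (⟨t, rfl⟩ | ⟨t, rfl⟩)
    · exact hup t
    · exact hlo t
  exact MonoidHom.ext fun g => this (mem_top g)

end Cfsg.Agent.FFMinimal
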