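import Cfsg.Agent.Lib.FFMinimal.Unique

/-!
The orbit of a block outside the maximal subgroup over the Sylow subgroup, for more than two field elements.

* `Orbit` : the hypotheses
* `Orbit.mem_orbit` : every minimal offender in the Sylow subgroup is a conjugate of the root group
* `Orbit.comS_conj` : different blocks act on different summands, which span `V`
* `Orbit.grp_eq` : every block of the root group has the same group
* `Orbit.spanned` : the fixed points of the root group are spanned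
-/

set_option autoImplicit false

namespace Cfsg.Agent.FFMinimal

open Subgroup
open RankOne (upSL loSL)
open scoped MatrixGroups
open OffenderSL2 (fixS cj app_mul app_one app_inv_self app_self_inv fix_le fix_sup mem_fix_cj apply_mem_fix_cj mem_cj cj_cj)

universe u v

variable {P : Type u} [Group P] {V : Type v} [AddCommGroup V] {σ : P →* AddMonoid.End V} {p : ℕ}

/-- The commutators of generators generate the commutators. -/
theorem comS_iSup_le {ι : Sort*} (H : ι → Subgroup P) : comS σ (⨆ i, H i) ≤ ⨆ i, comS σ (H i) := by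
  set S := ⨆ i, comS σ (H i)
  let N : Subgroup P :=
    { carrier := {g | ∀ v, σ g v - v ∈ S}
      one_mem' := fun v => by rw [app_one, sub_self]; exact zero_mem _
      mul_mem' := fun {a b} ha hb v => by
        rw [app_mul, show σ a (σ b v) - v = (σ a (σ b v) - σ b v) + (σ b v - v) by abel]
        exact add_mem (ha _) (hb v)
      inv_mem' := fun {a} ha v => by
        have := neg_mem (ha (σ a⁻¹ v))
        rwa [app_self_inv, neg_sub] at this }
  have hle : (⨆ i, H i) ≤ N := iSup_le fun i g hg v =>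
    le_iSup (fun i => comS σ (H i)) i (sub_mem_comS hg v)
  exact comS_le fun g hg v => hle hg v

theorem comS_sup (H K : Subgroup P) : comS σ (H ⊔ K) ≤ comS σ H ⊔ comS σ K := by
  refine (comS_mono (sup_le ?_ ?_)).trans ((comS_iSup_le fun b : Bool => cond b H K).trans
    (iSup_le fun b => ?_))
  · exact le_iSup (fun b : Bool => cond b H K) true
  · exact le_iSup (fun b : Bool => cond b H K) false
  · cases b
    · exact le_sup_right
    · exact le_sup_left

/-- A nontrivial `p`-subgroup of an irreducible configuration is not normal. -/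
theorem Ctx.not_normal [Finite P] [Finite V] [Fact p.Prime] (hctx : Ctx σ p) {J : Subgroup P}
    (hJ : IsPGroup p ↥J) (hne : J ≠ ⊥) : ¬ J.Normal := by
  intro hn
  rcases hctx.irr (fixS σ J) (fun g v hv j hj => by
    rw [← app_mul, show j * g = g * (g⁻¹ * j * g) by group, app_mul,
      hv _ (by simpa using hn.conj_mem j hj g⁻¹)]) with h | h
  · obtain ⟨v, hv⟩ := hctx.nt
    have hne' : (⊤ : AddSubgroup V) ≠ ⊥ := fun e =>
      hv (AddSubgroup.mem_bot.1 (e.le (AddSubgroup.mem_top v)))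
    obtain ⟨w, -, hw0, hw⟩ := exists_fixed_ne_zero hctx.exponent hJ ⊤ (fun _ _ w _ => AddSubgroup.mem_top _) hne'
    exact hw0 (AddSubgroup.mem_bot.1 (h.le hw))
  · exact hne (eq_bot_iff.2 fun j hj => mem_bot.2 (hctx.faith j fun v => (h.ge (AddSubgroup.mem_top v) : v ∈ fixS σ J) j hj))

namespace Block

variable {F : Type} [Field F] {A : Subgroup P} (B : Block σ F A)

/-- The action on the natural summand. -/
theorem app_nat (hB : B.hh = 0) (g : SL(2, F)) (z : F × F) :
    σ (B.φ g) (B.lam z.1 + B.om z.2) = B.lam (mulv g z).1 + B.om (mulv g z).2 := by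
  let S : Subgroup SL(2, F) :=
    { carrier := {g | ∀ z : F × F, σ (B.φ g) (B.lam z.1 + B.om z.2) = B.lam (mulv g z).1 + B.om (mulv g z).2}
      one_mem' := fun z => by rw [map_one, app_one, mulv_one]
      mul_mem' := fun {a b} ha hb z => by rw [map_mul, app_mul, hb, ha, mulv_mul]
      inv_mem' := fun {a} ha z => by
        have h := ha (mulv a⁻¹ z)
        rw [← mulv_mul, mul_inv_cancel, mulv_one] at h
        rw [← h, ← app_mul, ← map_mul, inv_mul_cancel, map_one, app_one] }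
  have h : (⊤ : Subgroup SL(2, F)) ≤ S := by
    rw [← closure_up_lo, closure_le]
    rintro _ (⟨t, rfl⟩ | ⟨t, rfl⟩) ⟨x, y⟩
    · rw [mulv_up, map_add, B.up_lam, B.up_om, hB, AddMonoidHom.zero_apply, add_zero, map_add]
      abel
    · rw [mulv_lo, map_add, ← Block.lo, B.lo_om, B.lo_lam, hB, AddMonoidHom.zero_apply, add_zero, map_add]
      abel
  exact h (mem_top g) z

/-- The natural summand is the commutator. -/
theorem comS_grp (hB : B.hh = 0) : comS σ B.grp = B.lam.range ⊔ B.om.range := by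
  refine le_antisymm (comS_le ?_) (sup_le ?_ ?_)
  · rintro _ ⟨g, rfl⟩ v
    obtain ⟨c, hc, x, y, rfl⟩ := B.decomp v
    rw [add_assoc, map_add, B.fix_C _ _ hc, add_sub_add_left_eq_sub,
      show σ (B.φ g) (B.lam x + B.om y) = B.lam (mulv g (x, y)).1 + B.om (mulv g (x, y)).2 from B.app_nat hB g (x, y)]
    exact sub_mem (add_mem (AddSubgroup.mem_sup_left ⟨_, rfl⟩) (AddSubgroup.mem_sup_right ⟨_, rfl⟩))
      (add_mem (AddSubgroup.mem_sup_left ⟨_, rfl⟩) (AddSubgroup.mem_sup_right ⟨_, rfl⟩))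
  · rw [← B.comS_eq_range hB]; exact comS_mono B.A_le_grp
  · rintro _ ⟨y, rfl⟩
    have h1 : σ (B.lo 1) (B.lam y) - B.lam y = B.om y := by
      rw [B.lo_lam, hB, AddMonoidHom.zero_apply, add_zero, one_mul]; abel
    exact h1 ▸ sub_mem_comS (B.lo_mem_grp 1) _

/-- The torus normalises what the group centralises and the root group. -/
theorem lam_range_le_comS (hB : B.hh = 0) (x : F) : B.lam x ∈ comS σ A := (B.comS_eq_range hB).ge ⟨x, rfl⟩

end Block

variable (σ p) in
/-- A block outside the maximal subgroup over the Sylow subgroup containing its root group. -/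
structure Orbit [Finite P] [Fact p.Prime] {F : Type} [Field F] (T : Sylow p P) (M A : Subgroup P)
    (B : Block σ F A) : Prop where
  ctx : Ctx σ p
  good : Good σ p
  coatom : IsCoatom M
  sylow_le : (T : Subgroup P) ≤ M
  minOff : MinOff σ p A
  le_sylow : A ≤ (T : Subgroup P)
  hh : B.hh = 0
  out : ¬ B.grp ≤ M
  unit : ∃ s : Fˣ, (s : F) ≠ 1

namespace Orbit

variable [Finite P] [Finite V] [Fact p.Prime] {F : Type} [Field F] [Finite F] {T : Sylow p P}
  {M A : Subgroup P} {B : Block σ F A} (o : Orbit σ p T M A B)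
include o

theorem conj_le {t : P} (ht : t ∈ (T : Subgroup P)) : cj A t ≤ (T : Subgroup P) := by
  rintro _ ⟨a, ha, rfl⟩
  exact mul_mem (mul_mem ht (o.le_sylow ha)) (inv_mem ht)

theorem conj_out {t : P} (ht : t ∈ (T : Subgroup P)) : ¬ (B.conj t).grp ≤ M := fun h => o.out fun g hg => by
  have h1 : t * g * t⁻¹ ∈ M := h (by rw [B.conj_grp]; exact ⟨g, hg, rfl⟩)
  have := mul_mem (mul_mem (inv_mem (o.sylow_le ht)) h1) (o.sylow_le ht)
  simpa [mul_assoc] using this

theorem conj_hh (t : P) : (B.conj t).hh = 0 := by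
  refine AddMonoidHom.ext fun x => ?_
  show σ t (B.hh x) = 0
  rw [o.hh, AddMonoidHom.zero_apply, map_zero]

/-- The same data at a conjugate. -/
theorem conj {t : P} (ht : t ∈ (T : Subgroup P)) : Orbit σ p T M (cj A t) (B.conj t) :=
  ⟨o.ctx, o.good, o.coatom, o.sylow_le, o.minOff.conj t, o.conj_le ht, o.conj_hh t, o.conj_out ht, o.unit⟩

/-- The join of the conjugate blocks. -/
def D (_o : Orbit σ p T M A B) : Subgroup P := ⨆ t : ↥(T : Subgroup P), cj B.grp (t : P)

theorem grp_le_D : B.grp ≤ o.D := PMinimal.le_iSup_conj _ _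

theorem sylow_sup_grp : (T : Subgroup P) ⊔ B.grp = ⊤ :=
  PMinimal.eq_top_of_not_le T o.coatom o.sylow_le o.ctx.pmin le_sup_left fun h => o.out (le_sup_right.trans h)

theorem sylow_sup_D : (T : Subgroup P) ⊔ o.D = ⊤ :=
  top_le_iff.1 (o.sylow_sup_grp.ge.trans (sup_le_sup_left o.grp_le_D _))

theorem normal_D : o.D.Normal := normalizer_eq_top_iff.1 (top_le_iff.1
  (o.sylow_sup_D.ge.trans (sup_le (PMinimal.le_normalizer_iSup_conj _ _) le_normalizer)))

theorem fix_D : fixS σ o.D = ⊥ := by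
  refine (o.ctx.irr _ fun g v hv => ?_).resolve_right fun e => ?_
  · intro d hd
    rw [← app_mul, show d * g = g * (g⁻¹ * d * g) by group, app_mul,
      hv _ (by simpa using o.normal_D.conj_mem d hd g⁻¹)]
  · refine o.out fun g hg => ?_
    rw [o.ctx.faith g fun v => (e.ge (AddSubgroup.mem_top v) : v ∈ fixS σ o.D) g (o.grp_le_D hg)]
    exact one_mem _

theorem comS_D : comS σ o.D = ⊤ := by
  refine (o.ctx.irr _ fun g v hv => ?_).resolve_left fun e => ?_
  · have h := apply_mem_comS_cj (σ := σ) g hv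
    haveI := o.normal_D
    rwa [show cj o.D g = o.D from Subgroup.map_equiv_eq_comap_symm' _ o.D |>.trans (by
      ext x
      show (MulAut.conj g).symm x ∈ o.D ↔ x ∈ o.D
      rw [MulAut.conj_symm_apply]
      exact ⟨fun h => by simpa [mul_assoc] using o.normal_D.conj_mem _ h g,
        fun h => by simpa using o.normal_D.conj_mem _ h g⁻¹⟩)] at h
  · refine o.out fun g hg => ?_
    rw [o.ctx.faith g fun v => sub_eq_zero.1 (AddSubgroup.mem_bot.1 (e.le (sub_mem_comS (o.grp_le_D hg) v)))]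
    exact one_mem _

theorem grp_commute {A' : Subgroup P} (hA' : MinOff σ p A') (hle : A' ≤ (T : Subgroup P)) (hne : A' ≠ A) :
    comS σ A' ≤ B.C ∧ comS σ B.grp ≤ fixS σ A' ∧ ∀ a ∈ A', ∀ g ∈ B.grp, a * g = g * a := by
  obtain ⟨s, hs⟩ := o.unit
  exact o.good.grp_commute hA' o.minOff hne (o.good.commute_of_le T.2 hA' o.minOff hle o.le_sylow) B o.hh s hs

/-- Every minimal offender in the Sylow subgroup is a conjugate of `A`. -/
theorem mem_orbit {A' : Subgroup P} (hA' : MinOff σ p A') (hle : A' ≤ (T : Subgroup P)) :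
    ∃ t ∈ (T : Subgroup P), cj A t = A' := by
  by_contra hc
  push Not at hc
  refine o.good.comS_ne_bot hA' (le_bot_iff.1 (o.fix_D ▸ fun v hv => ?_))
  have h : o.D ≤ {
      carrier := {g | σ g v = v}
      one_mem' := app_one v
      mul_mem' := fun {a b} ha hb => by show σ (a * b) v = v; rw [app_mul, hb, ha]
      inv_mem' := fun {a} ha => by
        show σ a⁻¹ v = v
        conv_lhs => rw [← show σ a v = v from ha]
        rw [app_inv_self] } := iSup_le fun t g hg => by
    have h1 := ((o.conj t.2).grp_commute hA' hle (hc t t.2).symm).1 hv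
    rw [← (B.conj (t : P)).fix_grp, B.conj_grp] at h1
    exact h1 g hg
  exact fun d hd => h hd

theorem grp_commute_conj {t : P} (ht : t ∈ (T : Subgroup P)) (hne : cj A t ≠ A) :
    (∀ a ∈ cj B.grp t, ∀ b ∈ B.grp, a * b = b * a) ∧ comS σ (cj B.grp t) ≤ fixS σ B.grp := by
  obtain ⟨s, hs⟩ := o.unit
  set A' := cj A t with hA'
  set B' := B.conj t
  have o' := o.conj ht
  obtain ⟨-, -, hc1⟩ := o'.grp_commute o.minOff o.le_sylow hne.symm
  obtain ⟨hC2, -, hc2⟩ := o.grp_commute o'.minOff o'.le_sylow hne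
  -- the opposite root group commutes as well
  set A₂ := cj A (B.φ wSL) with hA₂
  have hA₂A' : ∀ a ∈ A₂, ∀ b ∈ A', a * b = b * a := by
    rintro _ ⟨a, ha, rfl⟩ b hb
    have hw : b * B.φ wSL = B.φ wSL * b := hc2 b hb _ ⟨_, rfl⟩
    have hab := o.good.commute_of_le T.2 o.minOff o'.minOff o.le_sylow o'.le_sylow a ha b hb
    show B.φ wSL * a * (B.φ wSL)⁻¹ * b = b * (B.φ wSL * a * (B.φ wSL)⁻¹)
    calc B.φ wSL * a * (B.φ wSL)⁻¹ * b
        = B.φ wSL * a * ((B.φ wSL)⁻¹ * (b * B.φ wSL)) * (B.φ wSL)⁻¹ := by group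
      _ = B.φ wSL * (a * b) * (B.φ wSL)⁻¹ := by rw [hw, inv_mul_cancel_left]; group
      _ = B.φ wSL * (b * a) * (B.φ wSL)⁻¹ := by rw [hab]
      _ = _ := by rw [← mul_assoc (B.φ wSL) b, ← hw]; group
  have hne2 : A₂ ≠ A' := fun e => hne (by
    have h1 : cj A₂ (B.φ wSL)⁻¹ = cj A' (B.φ wSL)⁻¹ := by rw [e]
    rw [hA₂, cj_cj, inv_mul_cancel, cj_eq_of_comm (A := A) (g := (1 : P)) (fun a _ => by simp),
      cj_eq_of_comm (A := A') (g := (B.φ wSL)⁻¹) (fun b hb => hc2 b hb _ (inv_mem ⟨_, rfl⟩))] at h1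
    exact h1.symm)
  obtain ⟨-, -, hc3⟩ := o.good.grp_commute (o.minOff.conj _) o'.minOff hne2 hA₂A' B' o'.hh s hs
  have hE : ∀ a ∈ cj B.grp t, ∀ b ∈ B.grp, a * b = b * a := by
    intro a ha b hb
    rw [← B.conj_grp] at ha
    have hle : B.grp ≤ centralizer {a} := by
      rw [B.grp_eq]
      exact sup_le (fun x hx => mem_centralizer_singleton_iff.2 (hc1 x hx a ha))
        fun x hx => mem_centralizer_singleton_iff.2 (hc3 x hx a ha)
    exact (mem_centralizer_singleton_iff.1 (hle hb)).symm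
  refine ⟨hE, ?_⟩
  rw [← B.conj_grp, B'.grp_eq, B.fix_grp]
  refine (comS_sup _ _).trans (sup_le hC2 ?_)
  rw [comS_cj]
  rintro _ ⟨v, hv, rfl⟩
  rw [← B.fix_grp]
  intro g hg
  have hv' : v ∈ fixS σ B.grp := by rw [B.fix_grp]; exact hC2 hv
  show σ g (σ (B'.φ wSL) v) = σ (B'.φ wSL) v
  rw [← app_mul, ← hE _ (by rw [← B.conj_grp]; exact ⟨_, rfl⟩) g hg, app_mul, hv' g hg]

/-- The summands span. -/
theorem sup_conj_eq_top : (⨆ t : ↥(T : Subgroup P), comS σ (cj B.grp (t : P))) = ⊤ :=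
  top_le_iff.1 (o.comS_D.ge.trans (comS_iSup_le _))

theorem dg_mem (s : Fˣ) : B.dg s ∈ M := by
  let J : Subgroup P := ⨆ t : ↥(T : Subgroup P), cj A (t : P)
  have hJT : J ≤ (T : Subgroup P) := iSup_le fun t => o.conj_le t.2
  have hne : J ≠ ⊥ := fun e => o.minOff.off.ne (le_bot_iff.1 (e ▸ PMinimal.le_iSup_conj _ _))
  have hTN : (T : Subgroup P) ≤ normalizer (J : Set P) := PMinimal.le_normalizer_iSup_conj _ _
  refine PMinimal.le_of_sylow_le T o.coatom o.sylow_le o.ctx.pmin hTN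
    (fun e => o.ctx.not_normal (T.2.to_le hJT) hne (normalizer_eq_top_iff.1 e)) ?_
  have hfix : ∀ r, cj J (B.dg r) ≤ J := fun r => by
    rw [cj, Subgroup.map_iSup]
    refine iSup_le fun t => ?_
    by_cases ht : cj A (t : P) = A
    · rw [← cj, ht, B.cj_dg]; exact PMinimal.le_iSup_conj _ _
    · rw [← cj, cj_eq_of_comm fun a ha =>
        (o.grp_commute (o.minOff.conj _) (o.conj_le t.2) ht).2.2 a ha _ (B.dg_mem_grp r)]
      exact le_iSup (fun t : ↥(T : Subgroup P) => cj A (t : P)) t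
  rw [mem_normalizer_iff]
  intro x
  refine ⟨fun hx => hfix s ⟨x, hx, rfl⟩, fun hx => ?_⟩
  have := hfix s⁻¹ ⟨_, hx, rfl⟩
  simpa [← B.dg_inv, mul_assoc] using this

/-- A vector of `[V, A]` fixed by the stabiliser of `A` in the Sylow subgroup gives a fixed vector. -/
theorem exists_fixed_vector : ∃ x₀ : F, x₀ ≠ 0 ∧ ∀ g : P, σ g (B.lam x₀) = B.lam x₀ →
    (∀ t ∈ (T : Subgroup P), cj A t ≠ A → ∀ v ∈ comS σ (cj A t), σ g v = v) → g ∈ M := by
  classical
  let N : Subgroup ↥(T : Subgroup P) :=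
    { carrier := {t | cj A (t : P) = A}
      one_mem' := cj_eq_of_comm fun a _ => by simp
      mul_mem' := fun {a b} ha hb => by
        show cj A ((a : P) * b) = A
        rw [← cj_cj, hb, ha]
      inv_mem' := fun {a} ha => by
        show cj A ((a : P)⁻¹) = A
        conv_lhs => rw [← show cj A (a : P) = A from ha, cj_cj, inv_mul_cancel]
        exact cj_eq_of_comm fun a _ => by simp }
  obtain ⟨l, hl, hl0, hlN⟩ := exists_fixed_ne_zero (σ := σ) o.ctx.exponent
    ((T.2.to_le (map_subtype_le N)) : IsPGroup p ↥(N.map (T : Subgroup P).subtype)) (comS σ A) (fun b hb w hw => by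
      obtain ⟨t, ht, rfl⟩ := hb
      have := apply_mem_comS_cj (σ := σ) (t : P) hw
      rwa [show cj A (t : P) = A from ht] at this) (o.good.comS_ne_bot o.minOff)
  obtain ⟨x₀, rfl⟩ := (B.comS_eq_range o.hh).le hl
  have hx₀ : x₀ ≠ 0 := fun e => hl0 (by rw [e, map_zero])
  refine ⟨x₀, hx₀, fun g hg hothers => ?_⟩
  have hwd : ∀ t t' : ↥(T : Subgroup P), t⁻¹ * t' ∈ N → σ (t : P) (B.lam x₀) = σ (t' : P) (B.lam x₀) := fun t t' h => by
    have := hlN ((t : P)⁻¹ * t') ⟨t⁻¹ * t', h, rfl⟩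
    conv_lhs => rw [← this]
    rw [app_mul, app_self_inv]
  haveI := Fintype.ofFinite (↥(T : Subgroup P) ⧸ N)
  set z := ∑ q : ↥(T : Subgroup P) ⧸ N, σ (q.out : P) (B.lam x₀) with hz
  have hzT : ∀ t ∈ (T : Subgroup P), σ t z = z := fun t ht => by
    rw [hz, map_sum]
    refine Fintype.sum_equiv (MulAction.toPerm (⟨t, ht⟩ : ↥(T : Subgroup P))) _ _ fun q => ?_
    show σ t (σ (q.out : P) (B.lam x₀)) = σ (((⟨t, ht⟩ : ↥(T : Subgroup P)) • q).out : P) (B.lam x₀)
    rw [← app_mul]
    refine hwd (⟨t, ht⟩ * q.out) _ (QuotientGroup.eq.1 ?_)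
    rw [QuotientGroup.out_eq']
    conv_rhs => rw [← QuotientGroup.out_eq' q]
    rfl
  have hother : ∀ q : ↥(T : Subgroup P) ⧸ N, q ≠ ((1 : ↥(T : Subgroup P)) : _ ⧸ N) →
      cj A (q.out : P) ≠ A := fun q hq e => hq (by
    rw [← QuotientGroup.out_eq' q, QuotientGroup.eq, mul_one]
    exact inv_mem (show q.out ∈ N from e))
  have hone : σ ((((1 : ↥(T : Subgroup P)) : ↥(T : Subgroup P) ⧸ N).out : ↥(T : Subgroup P)) : P) (B.lam x₀) =
      B.lam x₀ := by
    have h1 := hwd 1 _ (QuotientGroup.eq.1 (QuotientGroup.out_eq' ((1 : ↥(T : Subgroup P)) : ↥(T : Subgroup P) ⧸ N)).symm)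
    rwa [OneMemClass.coe_one, app_one, eq_comm] at h1
  have hgz : σ g z = z := by
    rw [hz, map_sum]
    refine Finset.sum_congr rfl fun q _ => ?_
    by_cases hq : q = ((1 : ↥(T : Subgroup P)) : _ ⧸ N)
    · rw [hq, hone, hg]
    · exact hothers _ q.out.2 (hother q hq) _ (apply_mem_comS_cj _ (B.lam_range_le_comS o.hh x₀))
  have hz0 : z ≠ 0 := fun e => hx₀ (by
    have h1 : B.crd z = (x₀, 0) := by
      rw [hz, map_sum, Finset.sum_eq_single ((1 : ↥(T : Subgroup P)) : ↥(T : Subgroup P) ⧸ N)]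
      · rw [hone, B.crd_lam]
      · intro q _ hq
        exact B.crd_C ((o.grp_commute (o.minOff.conj _) (o.conj_le q.out.2) (hother q hq)).1
          (apply_mem_comS_cj _ (B.lam_range_le_comS o.hh x₀)))
      · exact fun h => absurd (Finset.mem_univ _) h
    rw [e, map_zero] at h1
    exact (congrArg Prod.fst h1).symm)
  let St : Subgroup P :=
    { carrier := {g | σ g z = z}
      one_mem' := app_one z
      mul_mem' := fun {a b} ha hb => by show σ (a * b) z = z; rw [app_mul, hb, ha]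
      inv_mem' := fun {a} ha => by
        show σ a⁻¹ z = z
        conv_lhs => rw [← show σ a z = z from ha]
        rw [app_inv_self] }
  refine PMinimal.le_of_sylow_le T o.coatom o.sylow_le o.ctx.pmin (X := St) hzT (fun e => hz0 ?_) hgz
  refine AddSubgroup.mem_bot.1 (o.ctx.fix_top_eq_bot.le fun x _ => ?_)
  exact (e.ge (mem_top x) : x ∈ St)

/-- All blocks of `A` have the same group. -/
theorem grp_eq (B' : Block σ F A) (hB' : B'.hh = 0) : B'.grp = B.grp := by
  obtain ⟨x₀, hx₀, hM⟩ := o.exists_fixed_vector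
  refine o.good.grp_eq o.minOff o.hh hB' o.unit fun _ =>
    ⟨M, o.le_sylow.trans o.sylow_le, o.out, o.dg_mem, x₀, hx₀, fun g hg hfix => hM g hfix fun t ht hne v hv => ?_⟩
  obtain ⟨s, hs⟩ := o.unit
  have h1 := (o.grp_commute (o.minOff.conj t) (o.conj_le ht) hne).1 hv
  have h2 := (o.good.grp_commute (o.minOff.conj t) o.minOff hne
    (o.good.commute_of_le T.2 (o.minOff.conj t) o.minOff (o.conj_le ht) o.le_sylow) B' hB' s hs).1 hv
  rw [← B.fix_grp] at h1
  rw [← B'.fix_grp] at h2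
  exact fix_sup _ _ h1 h2 g hg

theorem conj_grp_eq {t : P} (ht : cj A t = A) : cj B.grp t = B.grp := by
  rw [← B.conjSelf_grp t ht]
  exact o.grp_eq _ (B.conjSelf_hh t ht o.hh)

/-- The fixed points are spanned. -/
theorem spanned : Spanned σ A := by
  classical
  set S := AddSubgroup.closure
    {w | ∃ g, (∀ a ∈ A, ∀ b ∈ cj A g, a * b = b * a) ∧ w ∈ comS σ (cj A g)}
  have hgen : ∀ g, (∀ a ∈ A, ∀ b ∈ cj A g, a * b = b * a) → comS σ (cj A g) ≤ S :=
    fun g hg w hw => AddSubgroup.subset_closure ⟨g, hg, hw⟩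
  have hother : ∀ t ∈ (T : Subgroup P), cj A t ≠ A → comS σ (cj B.grp t) ≤ S := fun t ht hne => by
    rw [← B.conj_grp, (B.conj t).grp_eq]
    refine (comS_sup _ _).trans (sup_le (hgen t (o.good.commute_of_le T.2 o.minOff (o.minOff.conj t)
      o.le_sylow (o.conj_le ht))) ?_)
    rw [cj_cj]
    refine hgen _ fun a ha b hb => ?_
    rw [← cj_cj] at hb
    have hb' : b ∈ cj B.grp t := by
      rw [← B.conj_grp]
      obtain ⟨c, hc, rfl⟩ := hb
      exact mul_mem (mul_mem ⟨_, rfl⟩ ((B.conj t).A_le_grp hc)) (inv_mem ⟨_, rfl⟩)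
    exact ((o.grp_commute_conj ht hne).1 b hb' a (B.A_le_grp ha)).symm
  set O := ⨆ t : {t : ↥(T : Subgroup P) // cj A (t : P) ≠ A}, comS σ (cj B.grp ((t : ↥(T : Subgroup P)) : P))
  have hOC : O ≤ B.C := iSup_le fun t => B.fix_grp ▸ (o.grp_commute_conj t.1.2 t.2).2
  have htop : (⊤ : AddSubgroup V) ≤ comS σ B.grp ⊔ O := o.sup_conj_eq_top.ge.trans (iSup_le fun t => by
    by_cases ht : cj A (t : P) = A
    · rw [o.conj_grp_eq ht]; exact le_sup_left
    · exact le_sup_of_le_right (le_iSup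
        (fun t : {t : ↥(T : Subgroup P) // cj A (t : P) ≠ A} => comS σ (cj B.grp ((t : ↥(T : Subgroup P)) : P)))
        ⟨t, ht⟩))
  intro v hv
  obtain ⟨w, hw, k, hk, rfl⟩ := AddSubgroup.mem_sup.1 (htop (AddSubgroup.mem_top v))
  rw [B.comS_grp o.hh] at hw
  obtain ⟨_, ⟨x, rfl⟩, _, ⟨y, rfl⟩, rfl⟩ := AddSubgroup.mem_sup.1 hw
  obtain ⟨c, hc, x', e⟩ := B.mem_fix_A.1 hv
  have hy : y = 0 := by
    have := congrArg (fun v => (B.crd v).2) e
    simpa [map_add, B.crd_lam, B.crd_om, B.crd_C (hOC hk), B.crd_C hc] using this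
  rw [hy, map_zero, add_zero]
  refine add_mem (hgen 1 (fun a ha b hb => o.minOff.off.elem.comm a ha b (by simpa [mem_cj] using hb))
    (by rw [cj_eq_of_comm (A := A) (g := (1 : P)) fun a _ => by simp]; exact B.lam_range_le_comS o.hh x)) ?_
  exact (iSup_le fun t => hother _ t.1.2 t.2 : O ≤ S) hk

end Orbit

end Cfsg.Agent.FFMinimal
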