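import Cfsg.Agent.Lib.FFMinimal.Lift
import Cfsg.Agent.Lib.FFMinimal.Orbit
import Cfsg.Agent.Lib.OffenderSL2.Main

/-!
An offender all whose proper nontrivial subgroups do worse: either the group is `SL₂`, or there is a
proper `p`-minimal subgroup `X` outside the maximal subgroup, containing many conjugates of the offender.

* `Cand` : the proper subgroup with its maximality
* `exists_cases` : the case distinction
* `Cand.exists_block` : conjugates outside `O_p(X)` have blocks in `X`
* `wt_eq_of_strict`, `bound_of_ih` : no elementary abelian subgroup does better than `|V|`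
-/

set_option autoImplicit false

namespace Cfsg.Agent.FFMinimal

open Subgroup
open scoped MatrixGroups
open OffenderSL2 (fixS cj app_mul app_one app_inv_self app_self_inv fix_le fix_sup mem_fix_cj apply_mem_fix_cj mem_cj cj_cj)

universe u v

variable {P : Type u} [Group P] {V : Type v} [AddCommGroup V] (σ : P →* AddMonoid.End V) (p : ℕ)

/-- The conclusion is known for all smaller groups. -/
def Known : Prop :=
  ∀ (Q : Type u) [Group Q] [Finite Q] (W : Type v) [AddCommGroup W] [Finite W] (τ : Q →* AddMonoid.End W),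
    Nat.card Q < Nat.card P → Ctx τ p → Concl τ p

variable {σ p}

theorem fix_map_subtype {X : Subgroup P} (D : Subgroup ↥X) :
    fixS (σ.comp X.subtype) D = fixS σ (D.map X.subtype) := by
  ext v
  constructor
  · rintro h _ ⟨d, hd, rfl⟩
    exact h d hd
  · exact fun h d hd => h _ ⟨d, hd, rfl⟩

theorem wt_map_subtype {X : Subgroup P} (D : Subgroup ↥X) :
    wt (σ.comp X.subtype) D = wt σ (D.map X.subtype) := by
  rw [wt, wt, fix_map_subtype, card_map_of_injective X.subtype_injective]

theorem Elem.subgroupOf {D : Subgroup P} (h : Elem p D) (X : Subgroup P) : Elem p (D.subgroupOf X) :=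
  ⟨fun a ha b hb => Subtype.ext (h.comm a ha b hb), fun a ha => Subtype.ext (h.pow_eq a ha)⟩

/-- A block of a subgroup is a block of the group. -/
def Block.push {X : Subgroup P} {F : Type} [Field F] {A : Subgroup ↥X}
    (B : Block (σ.comp X.subtype) F A) {A' : Subgroup P} (h : A.map X.subtype = A') : Block σ F A' where
  φ := X.subtype.comp B.φ
  eqA := by rw [← h, ← Subgroup.map_map]; exact congrArg _ B.eqA
  C := B.C
  lam := B.lam
  om := B.om
  hh := B.hh
  hh_mem := B.hh_mem
  fix_C := B.fix_C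
  decomp := B.decomp
  indep := B.indep
  up_lam := B.up_lam
  up_om := B.up_om
  dg_lam := B.dg_lam
  dg_om := B.dg_om
  w_lam := B.w_lam
  w_om := B.w_om
  hh_two := B.hh_two

theorem Block.push_grp {X : Subgroup P} {F : Type} [Field F] {A : Subgroup ↥X}
    (B : Block (σ.comp X.subtype) F A) {A' : Subgroup P} (h : A.map X.subtype = A') :
    (B.push h).grp = B.grp.map X.subtype := MonoidHom.range_comp _ _

variable [Finite P]

theorem self_normalizing [Fact p.Prime] (hpm : Cfsg.IsPMinimal p P) {T : Sylow p P} {M : Subgroup P}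
    (hM : IsCoatom M) (hTM : (T : Subgroup P) ≤ M) : normalizer (M : Set P) = M := by
  refine ((hM.le_iff).1 le_normalizer).resolve_left fun e => ?_
  haveI : M.Normal := normalizer_eq_top_iff.1 e
  have h1 : normalizer ((T : Subgroup P) : Set P) ≤ M :=
    PMinimal.le_of_sylow_le T hM hTM hpm le_normalizer fun e => (hpm T).1 (normalizer_eq_top_iff.1 e)
  have h2 := Sylow.normalizer_sup_eq_top (T.subtype hTM)
  rw [Sylow.coe_subtype, subgroupOf_map_subtype, inf_eq_left.2 hTM] at h2
  exact hM.1 (top_le_iff.1 (h2.ge.trans (sup_le h1 le_rfl)))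

theorem card_le_of_lt {G : Type*} [Group G] [Finite G] {H K : Subgroup G} (h : H < K) :
    Nat.card ↥H < Nat.card ↥K :=
  lt_of_le_of_ne (Subgroup.card_le_of_le h.le) fun e => h.ne (Subgroup.eq_of_le_of_card_ge h.le e.ge)

/-- `p`-subgroups grow in their normalisers. -/
theorem lt_inf_normalizer {G : Type*} [Group G] [Finite G] {q : ℕ} [Fact q.Prime] {H K : Subgroup G}
    (hK : IsPGroup q ↥K) (h : H < K) : H < K ⊓ normalizer (H : Set G) := by
  refine lt_of_le_of_ne (le_inf h.le le_normalizer) fun e => ?_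
  haveI : Group.IsNilpotent ↥K := hK.isNilpotent
  have hl := normalizerCondition_of_isNilpotent (G := ↥K) (H.subgroupOf K) (lt_top_iff_ne_top.2
    fun e => h.not_ge (subgroupOf_eq_top.1 e))
  obtain ⟨g, hg, hg'⟩ := SetLike.exists_of_lt hl
  refine hg' (mem_subgroupOf.2 (e.ge ⟨g.2, mem_normalizer_iff.2 fun x => ?_⟩))
  by_cases hx : x ∈ K
  · exact (mem_normalizer_iff.1 hg ⟨x, hx⟩)
  · refine iff_of_false (fun e => hx (h.le e)) fun e => hx ?_
    have := mul_mem (mul_mem (inv_mem g.2) (h.le e)) g.2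
    simpa [mul_assoc] using this

/-- Elements of a subgroup of `M` can be moved into the Sylow subgroup inside `M`. -/
theorem exists_conj_le [Fact p.Prime] {T : Sylow p P} {M R : Subgroup P} (hTM : (T : Subgroup P) ≤ M)
    (hR : IsPGroup p ↥R) (hRM : R ≤ M) : ∃ m ∈ M, cj R m ≤ (T : Subgroup P) := by
  obtain ⟨Q, hQ⟩ := (hR.of_equiv (subgroupOfEquivOfLe hRM).symm).exists_le_sylow
  obtain ⟨m, hm⟩ := MulAction.exists_smul_eq ↥M Q (T.subtype hTM)
  refine ⟨m, m.2, ?_⟩
  rintro _ ⟨r, hr, rfl⟩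
  have h2 : m * ⟨r, hRM hr⟩ * m⁻¹ ∈ ((m • Q : Sylow p ↥M) : Subgroup ↥M) := ⟨_, hQ hr, rfl⟩
  rw [hm] at h2
  exact h2

variable [Finite V] [Fact p.Prime]

variable (p) in
/-- The proper subgroup `X`. -/
structure Cand (T : Sylow p P) (M A : Subgroup P) : Type u where
  X : Subgroup P
  S : Sylow p ↥X
  le : (S : Subgroup ↥X).map X.subtype ≤ (T : Subgroup P)
  not_le : ¬ X ≤ M
  ne_top : X ≠ ⊤
  pmin : Cfsg.IsPMinimal p ↥X
  coatom : IsCoatom (M.subgroupOf X)
  max : ∀ Y Y₀ : Subgroup P, Y₀ ≤ (T : Subgroup P) → Y₀ ≤ Y → ¬ Y ≤ M →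
    (S : Subgroup ↥X).map X.subtype < Y₀ → Y = ⊤
  member : ∃ g, cj A g ≤ (S : Subgroup ↥X).map X.subtype ∧ ¬ (cj A g).subgroupOf X ≤ Cfsg.pCore p ↥X

/-- The case distinction. -/
theorem exists_cases (hctx : Ctx σ p) {T : Sylow p P} {M A : Subgroup P} (hM : IsCoatom M)
    (hTM : (T : Subgroup P) ≤ M) (hel : Elem p A) (hne : A ≠ ⊥) (hAT : A ≤ (T : Subgroup P))
    (hle : Nat.card V ≤ wt σ A) (hst : ∀ D ≤ A, D ≠ ⊥ → D ≠ A → wt σ D < wt σ A) :
    (∃ (F : Type) (_ : Field F) (_ : Finite F) (B : Block σ F A), B.hh = 0 ∧ ¬ B.grp ≤ M) ∨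
      Nonempty (Cand p T M A) := by
  classical
  let Ok : Subgroup P × Subgroup P → Prop := fun z =>
    z.2 ≤ (T : Subgroup P) ∧ z.2 ≤ z.1 ∧ z.1 ≠ ⊤ ∧ ¬ z.1 ≤ M ∧ ∃ g, cj A g ≤ z.2
  let n : Subgroup P → ℕ := fun Y => {B : Subgroup P | B ≤ Y ∧ ∃ g, cj A g = B}.ncard
  have hn : ∀ {Y Y' : Subgroup P}, Y ≤ Y' → n Y ≤ n Y' := fun h =>
    Set.ncard_le_ncard (fun B hB => ⟨hB.1.trans h, hB.2⟩) (Set.toFinite _)
  let key : Subgroup P × Subgroup P → ℕ := fun z => n z.2 * (Nat.card P + 1) + Nat.card ↥z.2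
  by_cases hex : ∃ z, Ok z
  · right
    obtain ⟨⟨X₁, T₀⟩, hz, hmax⟩ := (Set.toFinite {z | Ok z}).exists_maximalFor key _ hex
    have hmax' : ∀ {Y Y₀ : Subgroup P}, Ok (Y, Y₀) → T₀ < Y₀ → False := fun {Y Y₀} h hlt => by
      have h1 : key (X₁, T₀) < key (Y, Y₀) := by
        refine lt_of_le_of_lt (Nat.add_le_add_right (Nat.mul_le_mul_right _ (hn hlt.le)) _) ?_
        exact Nat.add_lt_add_left (lt_of_le_of_ne (Subgroup.card_le_of_le hlt.le)
          fun e => hlt.ne (Subgroup.eq_of_le_of_card_ge hlt.le e.ge)) _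
      exact absurd (hmax h h1.le) (not_le.2 h1)
    have hz0 := hz
    obtain ⟨h1, -, -, -, g₀, hg₀⟩ := hz
    have hT₀ne : T₀ ≠ ⊥ := fun e => hne (by
      have := le_bot_iff.1 (e ▸ hg₀)
      rwa [Subgroup.map_eq_bot_iff_of_injective _ (MulAut.conj g₀).injective] at this)
    obtain ⟨X, hX, hXmin⟩ := (Set.toFinite {Y | Ok (Y, T₀)}).exists_minimalFor id _ ⟨X₁, hz0⟩
    obtain ⟨-, hTX, hXne, hXM, -⟩ := hX
    have hTlt : T₀ < (T : Subgroup P) := lt_of_le_of_ne h1 fun e =>
      hXne (PMinimal.eq_top_of_not_le T hM hTM hctx.pmin (e ▸ hTX) hXM)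
    set T₁ := (T : Subgroup P) ⊓ normalizer (T₀ : Set P) with hT₁
    have hT01 : T₀ < T₁ := lt_inf_normalizer T.2 hTlt
    have hNT₀ : normalizer (T₀ : Set P) ≤ M := by
      by_contra hc
      exact hmax' (Y := normalizer (T₀ : Set P)) (Y₀ := T₁) ⟨inf_le_left, inf_le_right,
        fun e => hctx.not_normal (T.2.to_le h1) hT₀ne (normalizer_eq_top_iff.1 e), hc, g₀,
        hg₀.trans hT01.le⟩ hT01
    set J : Subgroup P := ⨆ B : {B : Subgroup P // B ≤ T₀ ∧ ∃ g, cj A g = B}, (B : Subgroup P) with hJ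
    have hJle : J ≤ T₀ := iSup_le fun B => B.2.1
    have hgJ : cj A g₀ ≤ J := le_iSup (fun B : {B : Subgroup P // B ≤ T₀ ∧ ∃ g, cj A g = B} => (B : Subgroup P))
      ⟨_, hg₀, g₀, rfl⟩
    have hJne : J ≠ ⊥ := fun e => hne (by
      have := le_bot_iff.1 (e ▸ hgJ)
      rwa [Subgroup.map_eq_bot_iff_of_injective _ (MulAut.conj g₀).injective] at this)
    have hT1J : T₁ ≤ normalizer (J : Set P) := by
      have key : ∀ x ∈ T₁, ∀ y ∈ J, x * y * x⁻¹ ∈ J := fun x hx => by
        have : J ≤ J.comap (MulAut.conj x).toMonoidHom := iSup_le fun B => by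
          refine fun y hy => ?_
          obtain ⟨hB, g, hg⟩ := B.2
          refine le_iSup (fun B : {B : Subgroup P // B ≤ T₀ ∧ ∃ g, cj A g = B} => (B : Subgroup P))
            ⟨cj B.1 x, ?_, x * g, by rw [← cj_cj, hg]⟩ ⟨y, hy, rfl⟩
          rintro _ ⟨z, hz, rfl⟩
          exact (mem_normalizer_iff.1 hx.2 z).1 (hB hz)
        exact fun y hy => this hy
      intro x hx
      rw [mem_normalizer_iff]
      refine fun y => ⟨key x hx y, fun h => ?_⟩
      have := key x⁻¹ (inv_mem hx) _ h
      simpa [mul_assoc] using this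
    have hNJ : normalizer (J : Set P) ≤ M := by
      by_contra hc
      exact hmax' (Y := normalizer (J : Set P)) (Y₀ := T₁) ⟨inf_le_left, hT1J,
        fun e => hctx.not_normal (T.2.to_le (hJle.trans h1)) hJne (normalizer_eq_top_iff.1 e), hc, g₀,
        hg₀.trans hT01.le⟩ hT01
    -- `T₀` is a Sylow subgroup of `X`
    obtain ⟨S, hS⟩ := ((T.2.to_le h1).of_equiv (subgroupOfEquivOfLe hTX).symm).exists_le_sylow
    have hSeq : (S : Subgroup ↥X).map X.subtype = T₀ := by
      have hge : T₀ ≤ (S : Subgroup ↥X).map X.subtype := fun x hx => ⟨⟨x, hTX hx⟩, hS hx, rfl⟩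
      by_contra hne'
      have hlt : T₀ < (S : Subgroup ↥X).map X.subtype := lt_of_le_of_ne hge fun e => hne' e.symm
      set S' := (S : Subgroup ↥X).map X.subtype with hS'
      set R := S' ⊓ normalizer (T₀ : Set P) with hR
      have hTR : T₀ < R := lt_inf_normalizer (S.2.map _) hlt
      obtain ⟨m, hmM, hmR⟩ := exists_conj_le hTM ((S.2.map X.subtype).to_le inf_le_left)
        (inf_le_right.trans hNT₀ : R ≤ M)
      refine hXM (?_ : X ≤ M)
      by_contra hc
      have hY : ¬ cj X m ≤ M := fun hle => hc fun x hx => by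
        have := mul_mem (mul_mem (inv_mem hmM) (hle ⟨x, hx, rfl⟩)) hmM
        simpa [mul_assoc] using this
      have hcount : n T₀ ≤ n (cj R m) := by
        refine Set.ncard_le_ncard_of_injOn (fun B => cj B m) (fun B hB => ?_)
          (fun B _ B' _ e => Subgroup.map_injective (MulAut.conj m).injective e) (Set.toFinite _)
        obtain ⟨hB1, g, hg⟩ := hB
        exact ⟨map_mono (hB1.trans hTR.le), m * g, by rw [← cj_cj, hg]⟩
      have hok : Ok (cj X m, cj R m) := by
        refine ⟨hmR, map_mono (inf_le_left.trans (map_subtype_le _)), fun e => ?_, hY, m * g₀, ?_⟩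
        · refine hXne (top_le_iff.1 fun x _ => ?_)
          obtain ⟨y, hy, hye⟩ := e.ge (mem_top (m * x * m⁻¹))
          exact (MulAut.conj m).injective hye ▸ hy
        · rw [← cj_cj]; exact map_mono (hg₀.trans hTR.le)
      have hlt2 : key (X₁, T₀) < key (cj X m, cj R m) := by
        refine lt_of_le_of_lt (Nat.add_le_add_right (Nat.mul_le_mul_right _ hcount) _) ?_
        refine Nat.add_lt_add_left ?_ _
        rw [card_map_of_injective (MulAut.conj m).injective]
        exact lt_of_le_of_ne (Subgroup.card_le_of_le hTR.le)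
          fun e => hTR.ne (Subgroup.eq_of_le_of_card_ge hTR.le e.ge)
      exact absurd (hmax hok hlt2.le) (not_le.2 hlt2)
    have hXsub : ∀ Y : Subgroup ↥X, (S : Subgroup ↥X) ≤ Y → Y ≠ ⊤ → Y ≤ M.subgroupOf X := fun Y hY hYne y hy => by
      by_contra hc
      have hY' : Ok (Y.map X.subtype, T₀) := ⟨h1, hSeq ▸ map_mono hY,
        fun e => hXne (top_le_iff.1 (e.ge.trans (map_subtype_le _))), fun h => hc (h ⟨y, hy, rfl⟩), g₀, hg₀⟩
      have hle := hXmin hY' (map_subtype_le Y)
      exact hYne (top_le_iff.1 fun x _ => by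
        obtain ⟨z, hz, hzx⟩ := hle x.2
        exact X.subtype_injective hzx ▸ hz)
    have hco : IsCoatom (M.subgroupOf X) := by
      refine ⟨fun e => hXM (subgroupOf_eq_top.1 e), fun Y hY => ?_⟩
      by_contra hne'
      refine hY.not_ge (hXsub Y ?_ hne')
      exact le_trans (fun x hx => hTM (h1 (hSeq ▸ ⟨x, hx, rfl⟩))) hY.le
    have hSn : ¬ (S : Subgroup ↥X).Normal := by
      intro hn
      refine hXM (le_trans (fun x hx => ?_) hNT₀)
      have key : ∀ z ∈ X, ∀ y ∈ T₀, z * y * z⁻¹ ∈ T₀ := fun z hz y hy => by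
        rw [← hSeq] at hy ⊢
        obtain ⟨w, hw, rfl⟩ := hy
        exact ⟨_, hn.conj_mem w hw ⟨z, hz⟩, rfl⟩
      rw [mem_normalizer_iff]
      refine fun y => ⟨key x hx y, fun h => ?_⟩
      have := key x⁻¹ (inv_mem hx) _ h
      simpa [mul_assoc] using this
    refine ⟨⟨X, S, hSeq ▸ h1, hXM, hXne, 
      PMinimal.isPMinimal_of_sylow S hSn (M.subgroupOf X) hco (fun x hx => hTM (h1 (hSeq ▸ ⟨x, hx, rfl⟩))) hXsub,
      hco, fun Y Y₀ hY₀ hle' hYM hlt => ?_, ?_⟩⟩
    · by_contra hne'
      rw [hSeq] at hlt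
      exact hmax' ⟨hY₀, hle', hne', hYM, g₀, hg₀.trans hlt.le⟩ hlt
    · by_contra hc
      push Not at hc
      rw [hSeq] at hc
      refine hXM (le_trans ?_ hNJ)
      have hcore : ∀ B : {B : Subgroup P // B ≤ T₀ ∧ ∃ g, cj A g = B},
          (B : Subgroup P).subgroupOf X ≤ Cfsg.pCore p ↥X := fun B => by
        obtain ⟨hB, g, hg⟩ := B.2
        have := hc g (hg ▸ hB)
        rwa [hg] at this
      intro x hx
      have key : ∀ x ∈ X, ∀ y ∈ J, x * y * x⁻¹ ∈ J := fun x hx => by
        have : J ≤ J.comap (MulAut.conj x).toMonoidHom := iSup_le fun B y hy => by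
          obtain ⟨hB, g, hg⟩ := B.2
          refine le_iSup (fun B : {B : Subgroup P // B ≤ T₀ ∧ ∃ g, cj A g = B} => (B : Subgroup P))
            ⟨cj B.1 x, ?_, x * g, by rw [← cj_cj, hg]⟩ ⟨y, hy, rfl⟩
          rintro _ ⟨z, hz, rfl⟩
          rw [← hSeq]
          exact ⟨⟨x, hx⟩ * ⟨z, hTX (hB hz)⟩ * (⟨x, hx⟩ : ↥X)⁻¹, PReduced.pCore_le_sylow S
            ((PReduced.pCore_normal p ↥X).conj_mem _ (hcore B (show (⟨z, hTX (hB hz)⟩ : ↥X) ∈ _ from hz)) _), rfl⟩
        exact fun y hy => this hy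
      rw [mem_normalizer_iff]
      refine fun y => ⟨key x hx y, fun h => ?_⟩
      have := key x⁻¹ (inv_mem hx) _ h
      simpa [mul_assoc] using this
  · left
    push Not at hex
    have hgen : ∀ x, x ∉ M → A ⊔ cj A x = ⊤ := by
      intro x hx
      by_contra hne'
      by_cases hYM : A ⊔ cj A x ≤ M
      · have hxA : cj A x ≤ M := le_sup_right.trans hYM
        obtain ⟨m, hmM, hm⟩ := exists_conj_le hTM ((hel.conj x).isPGroup) hxA
        have hmA : cj A (m * x) ≤ (T : Subgroup P) := by rwa [← cj_cj]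
        set g := m * x
        refine hex (cj M g⁻¹, A) ⟨hAT, fun a ha => ?_, fun e => ?_, fun hle' => ?_, 1, ?_⟩
        · exact mem_cj.2 (by simpa using hTM (hmA ⟨a, ha, rfl⟩))
        · refine hM.1 (top_le_iff.1 fun z _ => ?_)
          obtain ⟨y, hy, hye⟩ := e.ge (mem_top (g⁻¹ * z * g⁻¹⁻¹))
          exact (MulAut.conj g⁻¹).injective hye ▸ hy
        · have h3 : cj M g⁻¹ = M := Subgroup.eq_of_le_of_card_ge hle'
            (card_map_of_injective (MulAut.conj g⁻¹).injective).ge
          have h5 : g ∈ normalizer (M : Set P) := by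
            have h4 : g⁻¹ ∈ normalizer (M : Set P) := mem_normalizer_iff.2 fun z => by
              conv_rhs => rw [← h3]
              exact ⟨fun hz => ⟨z, hz, rfl⟩, fun ⟨y, hy, hye⟩ => (MulAut.conj g⁻¹).injective hye ▸ hy⟩
            simpa using inv_mem h4
          rw [self_normalizing hctx.pmin hM hTM] at h5
          have := mul_mem (inv_mem hmM) h5
          rw [inv_mul_cancel_left] at this
          exact hx this
        · rw [cj_eq_of_comm fun a _ => by simp]
      · exact hex (A ⊔ cj A x, A) ⟨hAT, le_sup_left, hne', hYM, 1, by rw [cj_eq_of_comm fun a _ => by simp]⟩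
    have hset : OffenderSL2.Setting σ p T M A :=
      { exponent := fun v => ⟨1, by rw [pow_one]; exact hctx.exponent v⟩
        faith := hctx.faith
        pmin := hctx.pmin
        coatom := hM
        sylow_le := hTM
        le_sylow := hAT
        comm := hel.comm
        offender := hle
        strict := hst
        moved := by
          obtain ⟨v, hv⟩ := hctx.nt
          let act : MulAction ↥(T : Subgroup P) V :=
            { smul := fun b w => σ (b : P) w
              one_smul := fun w => app_one (σ := σ) w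
              mul_smul := fun a b w => app_mul (σ := σ) (a : P) (b : P) w }
          have hdvd : p ∣ Nat.card V := by
            have : addOrderOf v = p := addOrderOf_eq_prime (hctx.exponent v) hv
            exact this ▸ addOrderOf_dvd_natCard _
          obtain ⟨w, hw, hwne⟩ := T.2.exists_fixed_point_of_prime_dvd_card_of_fixed_point V hdvd
            (a := 0) fun b => map_zero (σ (b : P))
          exact ⟨w, fun b hb => hw ⟨b, hb⟩, fun h => hwne (AddSubgroup.mem_bot.1 (hctx.fix_top_eq_bot.le h)).symm⟩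
        gen := hgen }
    obtain ⟨F, iF, fF, hF, e, ψ, hψs, hψk, hψe⟩ := hset.exists_natural
    have hA' : Nat.card ↥(A.map e.toMonoidHom) = Nat.card F := by
      rw [card_map_of_injective e.injective, ← hF, Nat.card_eq_fintype_card]
    haveI : CharP F p := by
      obtain ⟨n, hn⟩ := IsPGroup.iff_card.1 hel.isPGroup
      have hn0 : n ≠ 0 := fun e0 => hne (Subgroup.eq_bot_of_card_le A (by rw [hn, e0, pow_zero]))
      refine (CharP.charP_iff_prime_eq_zero (Fact.out : p.Prime)).2 ?_
      have h0 := Nat.cast_card_eq_zero F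
      rw [← Nat.card_eq_fintype_card, Nat.card_eq_fintype_card, hF, hn, Nat.cast_pow] at h0
      exact (pow_eq_zero_iff hn0).1 h0
    obtain ⟨g, hg⟩ : ∃ g : SL(2, F), (Cfsg.upperUnipotentSL2 F).map (MulAut.conj g).toMonoidHom = A.map e.toMonoidHom := by
      obtain ⟨z, hzT, hz⟩ := hset.moved
      have hψz : ψ z ≠ 0 := fun h => hz ((hψk z).1 h)
      obtain ⟨g, hg0, hg1⟩ : ∃ g : SL(2, F), g.1 0 0 = ψ z 0 ∧ g.1 1 0 = ψ z 1 := by
        by_cases h0 : ψ z 0 = 0
        · have h1 : ψ z 1 ≠ 0 := fun h1 => hψz (funext fun i => by fin_cases i <;> assumption)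
          exact ⟨⟨!![0, -(ψ z 1)⁻¹; ψ z 1, 0], by simp [Matrix.det_fin_two, h1]⟩, by simp [h0], rfl⟩
        · exact ⟨⟨!![ψ z 0, 0; ψ z 1, (ψ z 0)⁻¹], by simp [Matrix.det_fin_two, h0]⟩, rfl, rfl⟩
      refine ⟨g, (Subgroup.eq_of_le_of_card_ge ?_ ?_).symm⟩
      · rintro _ ⟨a, ha, rfl⟩
        refine ⟨g⁻¹ * e a * g, ?_, by simp [mul_assoc]⟩
        have hz' : mulv (e a) (ψ z 0, ψ z 1) = (ψ z 0, ψ z 1) := by
          have h1 := hψe a z
          rw [hzT a (hAT ha)] at h1
          have h20 := congrFun h1 0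
          have h21 := congrFun h1 1
          simp [Matrix.mulVec, dotProduct, Fin.sum_univ_two] at h20 h21
          exact Prod.ext h20.symm h21.symm
        have hg10 : mulv g (1, 0) = (ψ z 0, ψ z 1) := by simp [mulv, hg0, hg1]
        have hfix : mulv (g⁻¹ * e a * g) (1, 0) = (1, 0) := by
          rw [mulv_mul, mulv_mul, hg10, hz', ← hg10, ← mulv_mul, inv_mul_cancel, mulv_one]
        set k := g⁻¹ * e a * g with hk
        simp only [mulv, mul_one, mul_zero, add_zero, Prod.mk.injEq] at hfix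
        refine RankOne.mem_upperUnipotentSL2.2 ⟨k.1 0 1, Subtype.ext ?_⟩
        have hd : k.1 0 0 * k.1 1 1 - k.1 0 1 * k.1 1 0 = 1 := by rw [← Matrix.det_fin_two]; exact k.2
        rw [hfix.1, hfix.2, one_mul, mul_zero, sub_zero] at hd
        ext i j
        fin_cases i <;> fin_cases j <;> simp [RankOne.coe_upSL, hfix.1, hfix.2, hd]
      · rw [hA', card_map_of_injective (MulAut.conj g).injective]
        refine Nat.card_le_card_of_surjective (fun t => ⟨RankOne.upSL t, RankOne.upSL_mem t⟩) fun ⟨x, hx⟩ => ?_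
        obtain ⟨t, rfl⟩ := RankOne.mem_upperUnipotentSL2.1 hx
        exact ⟨t, rfl⟩
    let φ : SL(2, F) →* P := e.symm.toMonoidHom.comp (MulAut.conj g).toMonoidHom
    have hrange : φ.range = ⊤ := MonoidHom.range_eq_top.2 (e.symm.surjective.comp (MulAut.conj g).surjective)
    let gv : V →+ F × F := AddMonoidHom.mk'
      (fun v => mulv g⁻¹ (ψ v 0, ψ v 1)) fun a b => by
        simp only [map_add, mulv, Pi.add_apply, Prod.mk_add_mk, Prod.mk.injEq]
        constructor <;> ring
    have hinvm : ∀ z : F × F, mulv g (mulv g⁻¹ z) = z := fun z => by rw [← mulv_mul, mul_inv_cancel, mulv_one]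
    let Mo : Model σ F A :=
      { φ := φ
        eqA := by
          rw [show φ = e.symm.toMonoidHom.comp (MulAut.conj g).toMonoidHom from rfl, ← Subgroup.map_map, hg,
            Subgroup.map_map]
          ext a
          simp
        ψ := gv
        surj := fun z => by
          obtain ⟨v, hv⟩ := hψs ![(mulv g z).1, (mulv g z).2]
          refine ⟨v, ?_⟩
          show mulv g⁻¹ (ψ v 0, ψ v 1) = z
          rw [hv]
          simp only [Matrix.cons_val_zero, Matrix.cons_val_one, Prod.mk.eta]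
          rw [← mulv_mul, inv_mul_cancel, mulv_one]
        ker := fun v => by
          rw [hrange]
          constructor
          · intro h
            refine (hψk v).1 (funext fun i => ?_)
            have h' : mulv g (mulv g⁻¹ (ψ v 0, ψ v 1)) = mulv g (0, 0) := congrArg (mulv g) h
            rw [hinvm] at h'
            simp [mulv] at h'
            fin_cases i <;> simp [h'.1, h'.2]
          · intro h
            show mulv g⁻¹ (ψ v 0, ψ v 1) = 0
            rw [(hψk v).2 h]
            simp [mulv]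
        equiv := fun k v => by
          show mulv g⁻¹ (ψ (σ (φ k) v) 0, ψ (σ (φ k) v) 1) = mulv k (mulv g⁻¹ (ψ v 0, ψ v 1))
          have h1 : (ψ (σ (φ k) v) 0, ψ (σ (φ k) v) 1) = mulv (g * k * g⁻¹) (ψ v 0, ψ v 1) := by
            rw [hψe, show e (φ k) = g * k * g⁻¹ by simp [φ]]
            simp [mulv, Matrix.mulVec, dotProduct, Fin.sum_univ_two]
          rw [h1, ← mulv_mul, ← mulv_mul]
          congr 1
          group
        quad := comS_le fun a ha v => hset.comm_mem_fix ha v }
    obtain ⟨B, hBφ, hBC⟩ := Mo.exists_block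
    have hgrp : B.grp = ⊤ := by rw [show B.grp = B.φ.range from rfl, hBφ]; exact hrange
    refine ⟨F, iF, inferInstance, B, AddMonoidHom.ext fun x => ?_, fun h => hM.1 (top_le_iff.1 (hgrp ▸ h))⟩
    have := B.hh_mem x
    rw [← B.fix_grp, hgrp, hctx.fix_top_eq_bot] at this
    exact AddSubgroup.mem_bot.1 this

end Cfsg.Agent.FFMinimal
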