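import Cfsg.Agent.Lib.FFMinimal.Defs
import Cfsg.Agent.Lib.PMinimal.Basic

/-!
A minimal moved submodule `V₁` of a `p`-minimal group `X`, and its irreducible top `U`.

* `Chief`, `exists_chief` : `V₁`, inside the fixed points of `O_p(X)`, minimal moved by `O^p(X)`
* `Chief.app_eq_of_ker` : what is trivial on `U` is trivial on `V₁`
* `Chief.ctx` : the quotient of `X` acting on `U` is an irreducible `p`-minimal configuration
-/

set_option autoImplicit false

namespace Cfsg.Agent.FFMinimal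

open Subgroup
open OffenderSL2 (fixS cj app_mul app_one app_inv_self app_self_inv fix_le fix_sup)

universe u v

variable {X : Type u} [Group X] {V : Type v} [AddCommGroup V] (ρ : X →* AddMonoid.End V) (p : ℕ)

/-- The data of the ambient group. -/
structure XData (S : Sylow p X) (M : Subgroup X) : Prop where
  exponent : ∀ v : V, p • v = 0
  pmin : Cfsg.IsPMinimal p X
  coatom : IsCoatom M
  sylow_le : (S : Subgroup X) ≤ M

/-- A minimal moved invariant subgroup. -/
structure Chief where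
  V₁ : AddSubgroup V
  inv : ∀ x, ∀ v ∈ V₁, ρ x v ∈ V₁
  coreFix : V₁ ≤ fixS ρ (Cfsg.pCore p X)
  moved : ¬ V₁ ≤ fixS ρ (Cfsg.pResidual p X)
  minimal : ∀ W ≤ V₁, (∀ x, ∀ v ∈ W, ρ x v ∈ W) → ¬ W ≤ fixS ρ (Cfsg.pResidual p X) → W = V₁

variable {ρ p}

theorem fix_normal_inv {N : Subgroup X} (hN : N.Normal) (x : X) {v : V} (hv : v ∈ fixS ρ N) :
    ρ x v ∈ fixS ρ N := fun n hn => by
  rw [← app_mul, show n * x = x * (x⁻¹ * n * x) by group, app_mul,
    hv _ (by simpa using hN.conj_mem n hn x⁻¹)]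

/-- A moved invariant subgroup contains a minimal one. -/
theorem exists_chief [Finite V] (W : AddSubgroup V) (hinv : ∀ x, ∀ v ∈ W, ρ x v ∈ W)
    (hcore : W ≤ fixS ρ (Cfsg.pCore p X)) (hmoved : ¬ W ≤ fixS ρ (Cfsg.pResidual p X)) :
    ∃ c : Chief ρ p, c.V₁ ≤ W := by
  obtain ⟨W₁, ⟨h1, h2, h3⟩, hmin⟩ := Set.Finite.exists_minimal
    (s := {W' : AddSubgroup V | W' ≤ W ∧ (∀ x, ∀ v ∈ W', ρ x v ∈ W') ∧
      ¬ W' ≤ fixS ρ (Cfsg.pResidual p X)}) (Set.toFinite _) ⟨W, le_rfl, hinv, hmoved⟩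
  exact ⟨⟨W₁, h2, h1.trans hcore, h3, fun W' hle hi hm =>
    le_antisymm hle (hmin ⟨hle.trans h1, hi, hm⟩ hle)⟩, h1⟩

/-- A coprime element stabilising a series is trivial. -/
theorem eq_of_coprime [Fact p.Prime] (hp : ∀ v : V, p • v = 0) {g : X} (hg : (orderOf g).Coprime p)
    {v : V} (h : ρ g (ρ g v - v) = ρ g v - v) : ρ g v = v := by
  have h1 : orderOf g • (ρ g v - v) = 0 := by
    have := app_pow_of_fixed h (orderOf g)
    rw [pow_orderOf_eq_one, app_one] at this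
    exact left_eq_add.1 this
  have h2 : addOrderOf (ρ g v - v) = 1 := Nat.eq_one_of_dvd_coprimes hg
    (addOrderOf_dvd_of_nsmul_eq_zero h1) (addOrderOf_dvd_of_nsmul_eq_zero (hp _))
  exact sub_eq_zero.1 (AddMonoid.addOrderOf_eq_one_iff.1 h2)

/-- `O^p(X)` cannot act as a stabiliser of a series. -/
theorem residual_eq_of_series [Fact p.Prime] (hp : ∀ v : V, p • v = 0) {v : V}
    (h : ∀ o ∈ Cfsg.pResidual p X, ∀ o' ∈ Cfsg.pResidual p X, ρ o' (ρ o v - v) = ρ o v - v) :
    v ∈ fixS ρ (Cfsg.pResidual p X) := by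
  intro o ho
  have key : Cfsg.pResidual p X ≤ (MonoidHom.mk' (fun g : ↥(Cfsg.pResidual p X) =>
      Multiplicative.ofAdd (ρ (g : X) v - v)) fun a b => by
        rw [← ofAdd_add]
        congr 1
        rw [Subgroup.coe_mul, app_mul,
          show ρ (b : X) v = v + (ρ (b : X) v - v) by abel, map_add, h b b.2 a a.2]
        abel).ker.map (Cfsg.pResidual p X).subtype := by
    refine (closure_le _).2 fun g hg => ?_
    have hgO : g ∈ Cfsg.pResidual p X := subset_closure hg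
    refine ⟨⟨g, hgO⟩, MonoidHom.mem_ker.2 ?_, rfl⟩
    show Multiplicative.ofAdd (ρ g v - v) = 1
    rw [eq_of_coprime hp hg (h g hgO g hgO), sub_self]
    rfl
  obtain ⟨⟨g, hg⟩, hk, rfl⟩ := key ho
  exact sub_eq_zero.1 (congrArg Multiplicative.toAdd (MonoidHom.mem_ker.1 hk))

namespace Chief

variable (c : Chief ρ p)

/-- The fixed part. -/
def C : AddSubgroup V := c.V₁ ⊓ fixS ρ (Cfsg.pResidual p X)

theorem C_le : c.C ≤ c.V₁ := inf_le_left

theorem inv_C (x : X) {v : V} (hv : v ∈ c.C) : ρ x v ∈ c.C :=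
  ⟨c.inv x v hv.1, fix_normal_inv (PReduced.pResidual_normal p X) x hv.2⟩

theorem le_C {W : AddSubgroup V} (hle : W ≤ c.V₁) (hi : ∀ x, ∀ v ∈ W, ρ x v ∈ W) (hne : W ≠ c.V₁) :
    W ≤ c.C := le_inf hle (by
  by_contra h
  exact hne (c.minimal W hle hi h))

/-- The action on `V₁`. -/
abbrev act₁ : X →* AddMonoid.End ↥c.V₁ := subAct ρ c.V₁ c.inv

/-- The fixed part inside `V₁`. -/
abbrev C₁ : AddSubgroup ↥c.V₁ := c.C.addSubgroupOf c.V₁

theorem inv_C₁ (x : X) : ∀ v ∈ c.C₁, c.act₁ x v ∈ c.C₁ := fun _ hv => c.inv_C x hv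

/-- The top. -/
abbrev U : Type v := ↥c.V₁ ⧸ c.C₁

/-- The action on the top. -/
abbrev actU : X →* AddMonoid.End c.U := quoAct c.act₁ c.C₁ c.inv_C₁

/-- The kernel on the top. -/
abbrev K : Subgroup X := c.actU.ker

/-- The quotient group. -/
abbrev Xbar : Type u := X ⧸ c.K

/-- Its action. -/
abbrev actBar : c.Xbar →* AddMonoid.End c.U := kerAct c.actU

/-- The class of a vector. -/
abbrev cls {v : V} (hv : v ∈ c.V₁) : c.U := ((⟨v, hv⟩ : ↥c.V₁) : ↥c.V₁ ⧸ c.C₁)

theorem cls_eq {v w : V} (hv : v ∈ c.V₁) (hw : w ∈ c.V₁) : c.cls hv = c.cls hw ↔ v - w ∈ c.C :=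
  QuotientAddGroup.eq_iff_sub_mem.trans AddSubgroup.mem_addSubgroupOf

theorem cls_eq_zero {v : V} (hv : v ∈ c.V₁) : c.cls hv = 0 ↔ v ∈ c.C :=
  (QuotientAddGroup.eq_zero_iff _).trans AddSubgroup.mem_addSubgroupOf

theorem exists_cls (u : c.U) : ∃ (v : V) (hv : v ∈ c.V₁), c.cls hv = u :=
  QuotientAddGroup.induction_on u fun v => ⟨v.1, v.2, rfl⟩

theorem actU_cls (x : X) {v : V} (hv : v ∈ c.V₁) : c.actU x (c.cls hv) = c.cls (c.inv x v hv) := rfl

theorem mem_K {x : X} : x ∈ c.K ↔ ∀ v ∈ c.V₁, ρ x v - v ∈ c.C := by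
  constructor
  · intro h v hv
    exact (c.cls_eq (c.inv x v hv) hv).1 (by
      rw [← c.actU_cls x hv, MonoidHom.mem_ker.1 h]; rfl)
  · intro h
    refine MonoidHom.mem_ker.2 (AddMonoidHom.ext fun u => ?_)
    obtain ⟨v, hv, rfl⟩ := c.exists_cls u
    show c.actU x (c.cls hv) = c.cls hv
    exact (c.cls_eq (c.inv x v hv) hv).2 (h v hv)

theorem card_U [Finite V] : Nat.card ↥c.V₁ = Nat.card c.U * Nat.card ↥c.C := by
  rw [AddSubgroup.card_eq_card_quotient_mul_card_addSubgroup c.C₁,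
    Nat.card_congr (AddSubgroup.addSubgroupOfEquivOfLe c.C_le).toEquiv]

theorem exponentU (hp : ∀ v : V, p • v = 0) : ∀ u : c.U, p • u = 0 := fun u =>
  QuotientAddGroup.induction_on u fun v => by
    rw [← QuotientAddGroup.mk_nsmul, show p • v = 0 from Subtype.ext (hp v.1)]; rfl

/-- The Sylow subgroup of the quotient. -/
noncomputable def sylowBar [Finite X] [Fact p.Prime] (S : Sylow p X) : Sylow p c.Xbar :=
  S.mapSurjective (QuotientGroup.mk'_surjective c.K)

/-- The image of the maximal subgroup. -/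
abbrev MBar (M : Subgroup X) : Subgroup c.Xbar := M.map (QuotientGroup.mk' c.K)

section

variable [Finite X] [Fact p.Prime] {S : Sylow p X} {M : Subgroup X} (hX : XData (V := V) p S M)
include hX

theorem not_residual_le_K : ¬ Cfsg.pResidual p X ≤ c.K := fun h =>
  c.moved fun v hv => residual_eq_of_series hX.exponent fun o ho o' ho' =>
    ((c.mem_K.1 (h ho) v hv).2 : ρ o v - v ∈ fixS ρ (Cfsg.pResidual p X)) o' ho'

theorem K_le : c.K ≤ M :=
  (PMinimal.le_or_le S hX.coatom hX.sylow_le hX.pmin c.K).resolve_left (c.not_residual_le_K hX)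

theorem K_inf_sylow : c.K ⊓ (S : Subgroup X) ≤ Cfsg.pCore p X :=
  PMinimal.sylow_inf_normal_le_pCore S hX.coatom hX.sylow_le hX.pmin c.K (c.K_le hX)

/-- What is trivial on `U` is trivial on `V₁`. -/
theorem app_eq_of_ker {k : X} (hk : k ∈ c.K) {v : V} (hv : v ∈ c.V₁) : ρ k v = v := by
  have hcop : ∀ g ∈ c.K, (orderOf g).Coprime p → ρ g v = v := fun g hg hgc =>
    eq_of_coprime hX.exponent hgc
      (((c.mem_K.1 hg v hv).2 : ρ g v - v ∈ fixS ρ (Cfsg.pResidual p X)) g (subset_closure hgc))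
  have hpel : ∀ g ∈ c.K, ∀ n : ℕ, g ^ p ^ n = 1 → ρ g v = v := fun g hg n hgn => by
    have hP : IsPGroup p ↥(zpowers g) := by
      obtain ⟨j, -, hj⟩ := (Nat.dvd_prime_pow Fact.out).1 (orderOf_dvd_of_pow_eq_one hgn)
      exact IsPGroup.iff_card.2 ⟨j, by rw [Nat.card_zpowers, hj]⟩
    obtain ⟨S', hS'⟩ := hP.exists_le_sylow
    obtain ⟨y, hy⟩ := MulAction.exists_smul_eq X S S'
    have hgS : y⁻¹ * g * y ∈ (S : Subgroup X) := by
      have : g ∈ ((y • S : Sylow p X) : Subgroup X) := by rw [hy]; exact hS' (mem_zpowers g)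
      exact OffenderSL2.mem_cj.1 this
    have hgQ : g ∈ Cfsg.pCore p X := by
      have h1 := c.K_inf_sylow hX ⟨by simpa using (inferInstance : c.K.Normal).conj_mem g hg y⁻¹, hgS⟩
      have := (PReduced.pCore_normal p X).conj_mem _ h1 y
      simpa [mul_assoc] using this
    exact c.coreFix hv g hgQ
  set n := (orderOf k).factorization p with hn
  set m := orderOf k / p ^ n with hm
  have hnm : p ^ n * m = orderOf k := Nat.ordProj_mul_ordCompl_eq_self (orderOf k) p
  have hco : Nat.Coprime (p ^ n) m :=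
    (Nat.coprime_ordCompl Fact.out (orderOf_pos k).ne').pow_left n
  have h1 : ρ (k ^ p ^ n) v = v := hcop _ (pow_mem hk _) (by
    rw [orderOf_pow_of_dvd (pow_ne_zero _ (Fact.out : p.Prime).ne_zero) (Nat.ordProj_dvd _ _)]
    exact (Nat.coprime_ordCompl Fact.out (orderOf_pos k).ne').symm)
  have h2 : ρ (k ^ m) v = v := hpel _ (pow_mem hk _) n (by
    rw [← pow_mul, mul_comm, hnm, pow_orderOf_eq_one])
  let St : Subgroup X :=
    { carrier := {g | ρ g v = v}
      one_mem' := app_one v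
      mul_mem' := fun {a b} ha hb => by show ρ (a * b) v = v; rw [app_mul, hb, ha]
      inv_mem' := fun {a} ha => by
        show ρ a⁻¹ v = v
        conv_lhs => rw [← show ρ a v = v from ha]
        rw [app_inv_self] }
  have hk' : k ∈ St := by
    have hb := Nat.gcd_eq_gcd_ab (p ^ n) m
    rw [hco.gcd_eq_one, Nat.cast_one] at hb
    rw [← zpow_one k, hb, zpow_add, zpow_mul, zpow_mul, zpow_natCast, zpow_natCast]
    exact mul_mem (St.zpow_mem h1 _) (St.zpow_mem h2 _)
  exact hk'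

theorem sylowBar_coe :
    ((c.sylowBar S : Sylow p c.Xbar) : Subgroup c.Xbar) = (S : Subgroup X).map (QuotientGroup.mk' c.K) :=
  Sylow.coe_mapSurjective _ _

theorem coatom_MBar : IsCoatom (c.MBar M) ∧
    ∀ Y : Subgroup c.Xbar, (S : Subgroup X).map (QuotientGroup.mk' c.K) ≤ Y → Y ≠ ⊤ → Y ≤ (c.MBar M) := by
  have hs := QuotientGroup.mk'_surjective c.K
  have hker : (QuotientGroup.mk' c.K).ker = c.K := QuotientGroup.ker_mk' _
  have hcm : ((c.MBar M)).comap (QuotientGroup.mk' c.K) = M := by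
    rw [comap_map_eq, hker, sup_eq_left]; exact c.K_le hX
  have key : ∀ Y : Subgroup c.Xbar, (S : Subgroup X).map (QuotientGroup.mk' c.K) ≤ Y → Y ≠ ⊤ →
      Y ≤ (c.MBar M) := fun Y hY hne => by
    have h1 : Y.comap (QuotientGroup.mk' c.K) ≠ ⊤ := fun e => hne (by
      rw [← map_comap_eq_self_of_surjective hs Y, e, map_top_of_surjective _ hs])
    have h2 := PMinimal.le_of_sylow_le S hX.coatom hX.sylow_le hX.pmin
      (map_le_iff_le_comap.1 hY) h1
    rw [← map_comap_eq_self_of_surjective hs Y]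
    exact map_mono h2
  refine ⟨⟨fun e => hX.coatom.1 (by rw [← hcm, e, comap_top]), fun Y hY => ?_⟩, key⟩
  by_contra hne
  exact hY.not_ge (key Y ((map_mono hX.sylow_le).trans hY.le) hne)

theorem pmin_bar : Cfsg.IsPMinimal p c.Xbar := by
  have hs := QuotientGroup.mk'_surjective c.K
  refine PMinimal.isPMinimal_of_sylow (c.sylowBar S) ?_ (c.MBar M) (c.coatom_MBar hX).1
    (by rw [c.sylowBar_coe hX]; exact map_mono hX.sylow_le)
    (by rw [c.sylowBar_coe hX]; exact (c.coatom_MBar hX).2)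
  rw [c.sylowBar_coe hX]
  intro hn
  set N := ((S : Subgroup X).map (QuotientGroup.mk' c.K)).comap (QuotientGroup.mk' c.K) with hN
  haveI : N.Normal := hn.comap _
  have hSN : (S : Subgroup X) ≤ N := le_comap_map _ _
  rcases PMinimal.le_or_le S hX.coatom hX.sylow_le hX.pmin N with h | h
  · refine hX.coatom.1 (top_le_iff.1 ((top_le_iff.2 ?_ : ⊤ ≤ N).trans ?_))
    · exact top_le_iff.1 ((PReduced.pResidual_sup_sylow S).ge.trans (sup_le h hSN))
    · rw [hN, comap_map_eq, QuotientGroup.ker_mk']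
      exact sup_le hX.sylow_le (c.K_le hX)
  · have h1 := PMinimal.sylow_inf_normal_le_pCore S hX.coatom hX.sylow_le hX.pmin N h
    rw [inf_eq_right.2 hSN] at h1
    have h2 : (S : Subgroup X) = Cfsg.pCore p X :=
      le_antisymm h1 (PReduced.pCore_le_sylow S)
    exact (hX.pmin S).1 (h2 ▸ PReduced.pCore_normal p X)

/-- The top is an irreducible configuration. -/
theorem ctx : Ctx c.actBar p where
  exponent := c.exponentU hX.exponent
  faith := kerAct_faith c.actU
  pmin := c.pmin_bar hX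
  irr W hW := by
    set W₀ : AddSubgroup V := (W.comap (QuotientAddGroup.mk' c.C₁)).map c.V₁.subtype with hW₀
    have hmem : ∀ {v : V}, v ∈ W₀ ↔ ∃ hv : v ∈ c.V₁, c.cls hv ∈ W := by
      intro v
      constructor
      · rintro ⟨⟨w, hw⟩, h, rfl⟩; exact ⟨hw, h⟩
      · rintro ⟨hv, h⟩; exact ⟨⟨v, hv⟩, h, rfl⟩
    by_cases he : W₀ = c.V₁
    · right
      rw [eq_top_iff]
      intro u _
      obtain ⟨v, hv, rfl⟩ := c.exists_cls u
      obtain ⟨_, h⟩ := hmem.1 (he.ge hv)
      exact h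
    · left
      rw [AddSubgroup.eq_bot_iff_forall]
      intro u hu
      obtain ⟨v, hv, rfl⟩ := c.exists_cls u
      refine (c.cls_eq_zero hv).2 (c.le_C (fun v hv => (hmem.1 hv).1) (fun x v hv => ?_) he
        (hmem.2 ⟨hv, hu⟩))
      obtain ⟨hv₁, h⟩ := hmem.1 hv
      exact hmem.2 ⟨c.inv x v hv₁, c.actU_cls x hv₁ ▸ hW (x : c.Xbar) _ h⟩
  nt := by
    obtain ⟨v, hv, hv'⟩ := SetLike.not_le_iff_exists.1 c.moved
    exact ⟨c.cls hv, fun e => hv' ((c.cls_eq_zero hv).1 e).2⟩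

end

end Chief

end Cfsg.Agent.FFMinimal
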