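import Cfsg.Agent.Lib.FFMinimal.Frame

/-!
Consequences of the frames: the conclusion when all minimal offenders have order two.

* `TCtx.exists_block_pair` : two transvections not commuting give a block over two elements
* `TCtx.conjugate` : all transvections are conjugate
* `TCtx.exists_top` : the point of a frame fixed in the Sylow subgroup
* `TCtx.concl` : the conclusion
-/

set_option autoImplicit false

namespace Cfsg.Agent.FFMinimal

open Subgroup
open RankOne (upSL loSL)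
open scoped MatrixGroups
open OffenderSL2 (fixS cj app_mul app_one app_inv_self app_self_inv fix_le fix_sup mem_fix_cj apply_mem_fix_cj mem_cj cj_cj)

universe u v

variable {P : Type u} [Group P] {V : Type v} [AddCommGroup V] {σ : P →* AddMonoid.End V}

namespace TCtx

variable [Finite P] [Finite V] (h : TCtx σ)
include h

/-- A multiple by a residue modulo two. -/
theorem map_val_smul (a b : ZMod 2) (x : V) : (a + b).val • x = a.val • x + b.val • x := by
  rcases zmod_two_cases a with rfl | rfl <;> rcases zmod_two_cases b with rfl | rfl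
  · simp
  · simp
  · simp
  · rw [show ((1 : ZMod 2) + 1).val = 0 from rfl, show (1 : ZMod 2).val = 1 from rfl, zero_nsmul, one_nsmul, h.two]

theorem app_tv {x : V} (hx : x ∈ tvSet σ) (v : V) : σ (tv σ x) v = v + (h.f x v).val • x := by
  rcases zmod_two_cases (h.f x v) with e | e
  · rw [h.app_zero' hx e, e, ZMod.val_zero, zero_nsmul, add_zero]
  · rw [h.app_one' hx e, e, show (1 : ZMod 2).val = 1 from rfl, one_nsmul]

/-- Two transvections not commuting give a block over two elements. -/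
theorem exists_block_pair {x y : V} (hx : x ∈ tvSet σ) (hy : y ∈ tvSet σ) (e : h.f x y = 1) :
    ∃ B : Block σ (ZMod 2) (zpowers (tv σ x)), B.hh = 0 ∧ tv σ y ∈ B.grp := by
  have ey : h.f y x = 1 := by rw [h.symm hy hx, e]
  let ψ : V →+ ZMod 2 × ZMod 2 :=
    AddMonoidHom.mk' (fun v => (h.f y v, h.f x v)) fun a b => by rw [map_add, map_add]; rfl
  let L : ZMod 2 × ZMod 2 →+ V := AddMonoidHom.mk' (fun z => z.1.val • x + z.2.val • y) fun a b => by
    rw [Prod.fst_add, Prod.snd_add, h.map_val_smul, h.map_val_smul]; abel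
  have hψL : ∀ z, ψ (L z) = z := fun z => by
    show (h.f y (z.1.val • x + z.2.val • y), h.f x (z.1.val • x + z.2.val • y)) = z
    rw [map_add, map_add, map_nsmul, map_nsmul, map_nsmul, map_nsmul, e, ey, h.f_self hx, h.f_self hy]
    simp
  have hdec : ∀ v, ψ (v - L (ψ v)) = 0 := fun v => by rw [map_sub, hψL, sub_self]
  -- the element acting as a given matrix
  let Ok : SL(2, ZMod 2) → P → Prop := fun g q =>
    (∀ k, ψ k = 0 → σ q k = k) ∧ ∀ z, σ q (L z) = L (mulv g z)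
  have huniq : ∀ {g q q'}, Ok g q → Ok g q' → q = q' := by
    intro g q q' hq hq'
    refine (inv_mul_eq_one.1 (h.good.faith _ fun v => ?_)).symm
    rw [app_mul, show σ q v = σ q' v by
      rw [show v = (v - L (ψ v)) + L (ψ v) by abel, map_add, map_add, hq.1 _ (hdec v), hq'.1 _ (hdec v), hq.2,
        hq'.2], app_inv_self]
  have hmul : ∀ {g g' q q'}, Ok g q → Ok g' q' → Ok (g * g') (q * q') := by
    intro g g' q q' hq hq'
    exact ⟨fun k hk => by rw [app_mul, hq'.1 k hk, hq.1 k hk],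
      fun z => by rw [app_mul, hq'.2, hq.2, mulv_mul]⟩
  have hone : Ok 1 1 := ⟨fun k _ => app_one k, fun z => by rw [app_one, mulv_one]⟩
  have hup : ∀ t : ZMod 2, Ok (upSL t) (tv σ x ^ t.val) := fun t => by
    rcases zmod_two_cases t with rfl | rfl
    · rw [RankOne.upSL_zero, ZMod.val_zero, pow_zero]; exact hone
    rw [show (1 : ZMod 2).val = 1 from rfl, pow_one]
    refine ⟨fun k hk => h.app_zero' hx (congrArg Prod.snd hk), fun z => ?_⟩
    rw [h.app_tv hx, show h.f x (L z) = z.2 from congrArg Prod.snd (hψL z), mulv_up]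
    show z.1.val • x + z.2.val • y + z.2.val • x = (z.1 + 1 * z.2).val • x + z.2.val • y
    rw [one_mul, h.map_val_smul]; abel
  have hlo : ∀ t : ZMod 2, Ok (loSL t) (tv σ y ^ t.val) := fun t => by
    rcases zmod_two_cases t with rfl | rfl
    · rw [RankOne.loSL_zero, ZMod.val_zero, pow_zero]; exact hone
    rw [show (1 : ZMod 2).val = 1 from rfl, pow_one]
    refine ⟨fun k hk => h.app_zero' hy (congrArg Prod.fst hk), fun z => ?_⟩
    rw [h.app_tv hy, show h.f y (L z) = z.1 from congrArg Prod.fst (hψL z), mulv_lo]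
    show z.1.val • x + z.2.val • y + z.1.val • y = z.1.val • x + (1 * z.1 + z.2).val • y
    rw [one_mul, h.map_val_smul]; abel
  have hex : ∀ g, ∃ q, Ok g q := by
    intro g
    let S : Subgroup SL(2, ZMod 2) :=
      { carrier := {g | ∃ q, Ok g q}
        one_mem' := ⟨1, hone⟩
        mul_mem' := fun {a b} ⟨q, hq⟩ ⟨q', hq'⟩ => ⟨q * q', hmul hq hq'⟩
        inv_mem' := fun {a} ⟨q, hq⟩ => ⟨q⁻¹, fun k hk => by
            conv_lhs => rw [← hq.1 k hk]
            rw [app_inv_self],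
          fun z => by
            conv_lhs => rw [show L z = σ q (L (mulv a⁻¹ z)) by rw [hq.2, ← mulv_mul, mul_inv_cancel, mulv_one]]
            rw [app_inv_self]⟩ }
    have : (⊤ : Subgroup SL(2, ZMod 2)) ≤ S := by
      rw [← closure_up_lo, closure_le]
      rintro _ (⟨t, rfl⟩ | ⟨t, rfl⟩)
      exacts [⟨_, hup t⟩, ⟨_, hlo t⟩]
    exact this (mem_top g)
  choose φ hφ using hex
  let φh : SL(2, ZMod 2) →* P := MonoidHom.mk' φ fun a b => huniq (hφ _) (hmul (hφ a) (hφ b))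
  have hA : zpowers (tv σ x) = (Cfsg.upperUnipotentSL2 (ZMod 2)).map φh := by
    refine le_antisymm (zpowers_le.2 ⟨upSL 1, RankOne.upSL_mem 1, huniq (hφ _) ?_⟩) ?_
    · have := hup 1
      rwa [show (1 : ZMod 2).val = 1 from rfl, pow_one] at this
    · rintro _ ⟨g, hg, rfl⟩
      obtain ⟨t, rfl⟩ := RankOne.mem_upperUnipotentSL2.1 hg
      rw [show φh (upSL t) = tv σ x ^ t.val from huniq (hφ _) (hup t)]
      exact pow_mem (mem_zpowers _) _
  let Mo : Model σ (ZMod 2) (zpowers (tv σ x)) :=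
    { φ := φh, eqA := hA, ψ := ψ
      surj := fun z => ⟨L z, hψL z⟩
      ker := fun v => by
        constructor
        · rintro hv _ ⟨g, rfl⟩
          exact (hφ g).1 v hv
        · intro hv
          have h1 := hv _ ⟨upSL 1, rfl⟩
          have h2 := hv _ ⟨loSL 1, rfl⟩
          rw [show φh (upSL 1) = tv σ x by
            have := huniq (hφ _) (hup 1)
            rwa [show (1 : ZMod 2).val = 1 from rfl, pow_one] at this] at h1
          rw [show φh (loSL 1) = tv σ y by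
            have := huniq (hφ _) (hlo 1)
            rwa [show (1 : ZMod 2).val = 1 from rfl, pow_one] at this] at h2
          exact Prod.ext ((h.f_eq_zero_iff hy).2 h2) ((h.f_eq_zero_iff hx).2 h1)
      equiv := fun g v => by
        show ψ (σ (φ g) v) = mulv g (ψ v)
        conv_lhs => rw [show v = (v - L (ψ v)) + L (ψ v) by abel, map_add, (hφ g).1 _ (hdec v), (hφ g).2,
          map_add, hdec, zero_add, hψL]
      quad := h.good.quad (h.isTv hx).1 }
  obtain ⟨B, hBφ, -⟩ := Mo.exists_block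
  refine ⟨B, B.hh_two zmod_two_cases, ?_⟩
  rw [show B.grp = B.φ.range from rfl, hBφ]
  exact ⟨loSL 1, by
    have := huniq (hφ _) (hlo 1)
    rwa [show (1 : ZMod 2).val = 1 from rfl, pow_one] at this⟩

/-- All transvections are conjugate. -/
theorem conjugate (hex : ∃ A, MinOff σ 2 A) {x y : V} (hx : x ∈ tvSet σ) (hy : y ∈ tvSet σ) :
    ∃ g, σ g x = y := by
  by_contra hc
  have horth : ∀ g, h.f y (σ g x) = 0 := fun g => (zmod_two_cases _).resolve_right fun e => hc
    ⟨tv σ (σ g x) * tv σ y * g, by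
      have hz := (h.tv_app g hx).1
      have e' : h.f (σ g x) y = 1 := by rw [h.symm hz hy, e]
      rw [app_mul, app_mul, h.app_one' hy e, map_add, h.app_self_tv (h.isTv hz), h.app_one' hz e',
        add_left_comm, h.two, add_zero]⟩
  set W := AddSubgroup.closure (Set.range fun g => σ g x)
  have hW : ∀ g, ∀ w ∈ W, σ g w ∈ W := fun g w hw => by
    refine (AddSubgroup.closure_le (K := W.comap (σ g))).2 ?_ hw
    rintro _ ⟨g', rfl⟩
    exact AddSubgroup.subset_closure ⟨g * g', app_mul _ _ _⟩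
  rcases h.ctx.irr W hW with e | e
  · exact h.ne_zero hx (AddSubgroup.mem_bot.1 (e.le (AddSubgroup.subset_closure ⟨1, app_one x⟩)))
  · obtain ⟨v, hv⟩ := h.exists_f_one hy
    have hle : W ≤ (h.f y).ker := (AddSubgroup.closure_le _).2 (by rintro _ ⟨g, rfl⟩; exact horth g)
    exact zero_ne_one ((AddMonoidHom.mem_ker.1 (hle (e.ge (AddSubgroup.mem_top v)))).symm.trans hv)

/-- The fixed points are spanned. -/
theorem spanned {A : Subgroup P} (hA : MinOff σ 2 A) : Spanned σ A := by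
  have hex : ∃ A, MinOff σ 2 A := ⟨A, hA⟩
  obtain ⟨t, x, rfl, ht⟩ := h.exists_of_minOff hA
  have hx : x ∈ tvSet σ := ⟨t, ht⟩
  rw [← h.eq_tv ht]
  set S := AddSubgroup.closure
    {w | ∃ g, (∀ a ∈ zpowers (tv σ x), ∀ b ∈ cj (zpowers (tv σ x)) g, a * b = b * a) ∧
      w ∈ comS σ (cj (zpowers (tv σ x)) g)}
  have hmem : ∀ z ∈ tvSet σ, h.f x z = 0 → z ∈ S := fun z hz e => by
    obtain ⟨g, hg⟩ := h.conjugate hex hx hz
    have e2 : cj (zpowers (tv σ x)) g = zpowers (tv σ z) := by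
      rw [← hg, (h.tv_app g hx).2.1]
      show Subgroup.map _ _ = _
      rw [MonoidHom.map_zpowers]; rfl
    refine AddSubgroup.subset_closure ⟨g, ?_, e2 ▸ (h.isTv hz).2.2⟩
    rw [e2]
    exact h.commute_of_orth hx hz e (by rw [h.symm hz hx, e])
  have hker : ∀ w ∈ S, h.f x w = 0 := fun w hw => AddMonoidHom.mem_ker.1 ((AddSubgroup.closure_le (K := (h.f x).ker)).2 (by
    rintro w ⟨g, hg, hw⟩
    refine (h.f_eq_zero_iff hx).2 ?_
    exact h.good.comS_le_fix ((h.isTv hx).1.conj g) (h.isTv hx).1 (fun a ha b hb => (hg b hb a ha).symm) hw _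
      (mem_zpowers _)) hw)
  obtain ⟨b, hb, hxb⟩ := h.exists_f_one_mem hex hx
  have hxS : x ∈ S := hmem x hx (h.f_self hx)
  have hgen : ∀ y ∈ tvSet σ, y + (h.f x y).val • b ∈ S := fun y hy => by
    rcases zmod_two_cases (h.f x y) with e | e
    · rw [e, ZMod.val_zero, zero_nsmul, add_zero]; exact hmem y hy e
    rw [e, show (1 : ZMod 2).val = 1 from rfl, one_nsmul]
    rcases zmod_two_cases (h.f b y) with e' | e'
    · have hbx : h.f b x = 1 := by rw [h.symm hb hx, hxb]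
      have h1 : b + x ∈ tvSet σ := h.add_mem hb hx hbx
      have e2 : h.f (b + x) y = 1 := by rw [h.f_add hb hx hbx, e', e, zero_add]
      have h2 : b + x + y ∈ tvSet σ := h.add_mem h1 hy e2
      have h3 : h.f x (b + x + y) = 0 := by rw [map_add, map_add, hxb, h.f_self hx, e]; decide
      rw [show y + b = b + x + y + x by rw [add_right_comm, h.add_self_cancel, add_comm]]
      exact AddSubgroup.add_mem _ (hmem _ h2 h3) hxS
    · rw [add_comm y b]
      exact hmem _ (h.add_mem hb hy e') (by rw [map_add, hxb, e]; decide)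
  let δ : V →+ V := AddMonoidHom.mk' (fun v => v + (h.f x v).val • b) fun u w => by
    rw [map_add, h.map_val_smul]; abel
  have hδ : AddSubgroup.closure (tvSet σ) ≤ S.comap δ := (AddSubgroup.closure_le _).2 hgen
  intro v hv
  have h1 : δ v ∈ S := hδ ((h.closure_eq_top hex).ge (AddSubgroup.mem_top v))
  have h0 : h.f x v = 0 := (h.f_eq_zero_iff hx).2 (hv _ (mem_zpowers _))
  show v ∈ S
  have e : δ v = v := by
    show v + (h.f x v).val • b = v
    rw [h0, ZMod.val_zero, zero_nsmul, add_zero]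
  rwa [e] at h1

/-- Some transvection lies outside `M`. -/
theorem exists_not_mem (hex : ∃ A, MinOff σ 2 A) {T : Sylow 2 P} {M : Subgroup P} (hM : IsCoatom M)
    (hTM : (T : Subgroup P) ≤ M) : ∃ x ∈ tvSet σ, tv σ x ∉ M := by
  by_contra hc
  push Not at hc
  set D := closure (tv σ '' tvSet σ)
  have hD : D.Normal := ⟨fun n hn g => by
    refine (closure_le (K := D.comap (MulAut.conj g).toMonoidHom)).2 ?_ hn
    rintro _ ⟨x, hx, rfl⟩
    obtain ⟨h1, h2, -⟩ := h.tv_app g hx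
    exact subset_closure ⟨_, h1, h2⟩⟩
  have hDM : D ≤ M := (closure_le _).2 (by rintro _ ⟨x, hx, rfl⟩; exact hc x hx)
  have hcore : Cfsg.pCore 2 P = ⊥ := by
    by_contra hne
    exact h.ctx.not_normal (T.2.to_le (PReduced.pCore_le_sylow T)) hne (PReduced.pCore_normal 2 P)
  obtain ⟨A, hA⟩ := hex
  obtain ⟨T', hAT'⟩ := hA.off.elem.isPGroup.exists_le_sylow
  obtain ⟨g, hg⟩ := MulAction.exists_smul_eq P T' T
  obtain ⟨t, x, rfl, ht⟩ := h.exists_of_minOff hA
  obtain ⟨h1, h2, -⟩ := h.tv_app g (x := x) ⟨t, ht⟩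
  rw [h.eq_tv ht] at h2
  have hT : tv σ (σ g x) ∈ (T : Subgroup P) := by
    rw [h2, ← hg]; exact ⟨t, hAT' (mem_zpowers t), rfl⟩
  exact h.tv_ne_one h1 (mem_bot.1 (hcore.le (PMinimal.sylow_inf_normal_le_pCore T hM hTM h.ctx.pmin D hDM
    ⟨subset_closure ⟨_, h1, rfl⟩, hT⟩)))

/-- `T` and the transvections generate. -/
theorem sylow_sup (hex : ∃ A, MinOff σ 2 A) {T : Sylow 2 P} {M : Subgroup P} (hM : IsCoatom M)
    (hTM : (T : Subgroup P) ≤ M) : (T : Subgroup P) ⊔ closure (tv σ '' tvSet σ) = ⊤ := by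
  obtain ⟨x, hx, hxM⟩ := h.exists_not_mem hex hM hTM
  exact PMinimal.eq_top_of_not_le T hM hTM h.ctx.pmin le_sup_left
    fun hle => hxM (hle (mem_sup_right (subset_closure ⟨x, hx, rfl⟩)))

namespace Frame

variable {h} {Ω : Finset V} (hΩ : h.Frame Ω)
include hΩ

theorem swap_left {u v : V} (hu : u ∈ Ω) (hv : v ∈ Ω) (huv : u ≠ v) : σ (tv σ (u + v)) u = v := by
  rw [h.app_one' (hΩ.edge u hu v hv huv) (hΩ.eval_left u hu v hv huv), ← add_assoc, h.two, zero_add]

theorem swap_right {u v : V} (hu : u ∈ Ω) (hv : v ∈ Ω) (huv : u ≠ v) : σ (tv σ (u + v)) v = u := by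
  rw [h.app_one' (hΩ.edge u hu v hv huv) (hΩ.eval_right hu hv huv), add_left_comm, h.two, add_zero]

theorem swap_ne {u v w : V} (hu : u ∈ Ω) (hv : v ∈ Ω) (huv : u ≠ v) (hw : w ∈ Ω) (hwu : w ≠ u) (hwv : w ≠ v) :
    σ (tv σ (u + v)) w = w :=
  h.app_zero' (hΩ.edge u hu v hv huv) (hΩ.eval_ne u hu v hv huv w hw hwu hwv)

theorem app_mem {y : V} (hy : y ∈ tvSet σ) {w : V} (hw : w ∈ Ω) : σ (tv σ y) w ∈ Ω := by
  rcases hΩ.closed y hy with ⟨u, hu, v, hv, huv, rfl⟩ | h0
  · by_cases e1 : w = u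
    · rw [e1, hΩ.swap_left hu hv huv]; exact hv
    by_cases e2 : w = v
    · rw [e2, hΩ.swap_right hu hv huv]; exact hu
    rw [hΩ.swap_ne hu hv huv hw e1 e2]; exact hw
  · rw [h.app_zero' hy (h0 w hw)]; exact hw

/-- A translate. -/
theorem image [DecidableEq V] (g : P) : h.Frame (Ω.image (σ g)) := by
  have hinj : Set.InjOn (σ g) ↑Ω := fun a _ b _ e => by
    rw [← app_inv_self (σ := σ) g a, e, app_inv_self]
  have hf : ∀ {x}, x ∈ tvSet σ → ∀ w, h.f (σ g x) (σ g w) = h.f x w := fun hx w => by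
    rw [(h.tv_app g hx).2.2, app_inv_self]
  refine ⟨by rw [Finset.card_image_of_injOn hinj]; exact hΩ.odd,
    by rw [Finset.card_image_of_injOn hinj]; exact hΩ.three,
    by rw [Finset.sum_image hinj, ← map_sum, hΩ.sum, map_zero], ?_, ?_, ?_, fun x hx => ?_⟩
  · intro a ha b hb hab
    obtain ⟨u, hu, rfl⟩ := Finset.mem_image.1 ha
    obtain ⟨v, hv, rfl⟩ := Finset.mem_image.1 hb
    rw [← map_add]
    exact (h.tv_app g (hΩ.edge u hu v hv fun e => hab (by rw [e]))).1
  · intro a ha b hb hab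
    obtain ⟨u, hu, rfl⟩ := Finset.mem_image.1 ha
    obtain ⟨v, hv, rfl⟩ := Finset.mem_image.1 hb
    have huv : u ≠ v := fun e => hab (by rw [e])
    rw [← map_add, hf (hΩ.edge u hu v hv huv)]
    exact hΩ.eval_left u hu v hv huv
  · intro a ha b hb hab c hc hca hcb
    obtain ⟨u, hu, rfl⟩ := Finset.mem_image.1 ha
    obtain ⟨v, hv, rfl⟩ := Finset.mem_image.1 hb
    obtain ⟨w, hw, rfl⟩ := Finset.mem_image.1 hc
    have huv : u ≠ v := fun e => hab (by rw [e])
    rw [← map_add, hf (hΩ.edge u hu v hv huv)]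
    exact hΩ.eval_ne u hu v hv huv w hw (fun e => hca (by rw [e])) (fun e => hcb (by rw [e]))
  · obtain ⟨h1, -, -⟩ := h.tv_app g⁻¹ hx
    rcases hΩ.closed _ h1 with ⟨u, hu, v, hv, huv, e⟩ | h0
    · refine Or.inl ⟨σ g u, Finset.mem_image_of_mem _ hu, σ g v, Finset.mem_image_of_mem _ hv,
        fun e' => huv (hinj hu hv e'), ?_⟩
      rw [← map_add, ← e, app_self_inv]
    · refine Or.inr fun w hw => ?_
      obtain ⟨u, hu, rfl⟩ := Finset.mem_image.1 hw
      have := hf h1 u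
      rw [app_self_inv] at this
      rw [this, h0 u hu]

/-- The setwise stabiliser. -/
def stab (_hΩ : h.Frame Ω) : Subgroup P where
  carrier := {g | ∀ w ∈ Ω, σ g w ∈ Ω}
  one_mem' := fun w hw => by rw [app_one]; exact hw
  mul_mem' := fun {a b} ha hb w hw => by rw [app_mul]; exact ha _ (hb w hw)
  inv_mem' := fun {a} ha w hw => by
    classical
    have hinj : Set.InjOn (σ a) ↑Ω := fun x _ y _ e => by
      rw [← app_inv_self (σ := σ) a x, e, app_inv_self]
    have hsub : Ω.image (σ a) = Ω := Finset.eq_of_subset_of_card_le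
      (fun z hz => by obtain ⟨u, hu, rfl⟩ := Finset.mem_image.1 hz; exact ha u hu)
      (by rw [Finset.card_image_of_injOn hinj])
    obtain ⟨u, hu, rfl⟩ := Finset.mem_image.1 (hsub.symm ▸ hw)
    rwa [app_inv_self]

theorem mem_stab_of_edge (hex : ∃ A, MinOff σ 2 A) {g : P} {u v : V} (hu : u ∈ Ω) (hv : v ∈ Ω) (huv : u ≠ v)
    (he : Edge Ω (σ g (u + v))) : g ∈ hΩ.stab := by
  classical
  have hinj : σ g u ≠ σ g v := fun e => huv (by rw [← app_inv_self (σ := σ) g u, e, app_inv_self])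
  have e := hΩ.unique (hΩ.image g) hex he
    ⟨σ g u, Finset.mem_image_of_mem _ hu, σ g v, Finset.mem_image_of_mem _ hv, hinj, map_add _ _ _⟩
  intro w hw
  rw [← e]
  exact Finset.mem_image_of_mem _ hw

theorem image_of_mem_stab [DecidableEq V] {g : P} (hg : g ∈ hΩ.stab) : Ω.image (σ g) = Ω :=
  Finset.eq_of_subset_of_card_le (fun z hz => by obtain ⟨u, hu, rfl⟩ := Finset.mem_image.1 hz; exact hg u hu)
    (by rw [Finset.card_image_of_injective _ fun x y e => by
      rw [← app_inv_self (σ := σ) g x, e, app_inv_self]])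

/-- Every transvection is a translate of one of the frame. -/
theorem exists_translate (hex : ∃ A, MinOff σ 2 A) {T : Sylow 2 P} {M : Subgroup P} (hM : IsCoatom M)
    (hTM : (T : Subgroup P) ≤ M) {y : V} (hy : y ∈ tvSet σ) :
    ∃ t ∈ (T : Subgroup P), ∃ x, Edge Ω x ∧ σ t x = y := by
  classical
  by_contra hc
  obtain ⟨u, hu, v, hv, huv⟩ : ∃ u ∈ Ω, ∃ v ∈ Ω, u ≠ v := Finset.one_lt_card.1 (by have := hΩ.three; omega)
  set C := {z | ∃ t ∈ (T : Subgroup P), ∃ x, Edge Ω x ∧ σ t x = z}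
  have horth : ∀ z ∈ C, h.f y z = 0 := by
    rintro _ ⟨t, ht, x, hx, rfl⟩
    refine (zmod_two_cases _).resolve_right fun e => hc ?_
    obtain ⟨h1, -, h3⟩ := h.tv_app t⁻¹ hy
    have hxX := hΩ.mem_tvSet hx
    have e' : h.f x (σ t⁻¹ y) = 1 := by rw [h.symm hxX h1, h3, inv_inv, e]
    exact ⟨t, ht, _, hΩ.edge_of_f_one hx h1 e', app_self_inv t y⟩
  set W := AddSubgroup.closure C
  have hgen : ∀ g, (∀ z ∈ C, σ g z ∈ C) → g ∈ stabV σ W := fun g hg w hw =>
    (AddSubgroup.closure_le (K := W.comap (σ g))).2 (fun z hz => AddSubgroup.subset_closure (hg z hz)) hw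
  have htop : stabV σ W = ⊤ := top_le_iff.1 ((h.sylow_sup hex hM hTM).ge.trans (sup_le
    (fun s hs => hgen s (by
      rintro _ ⟨t, ht, x, hx, rfl⟩
      exact ⟨s * t, mul_mem hs ht, x, hx, app_mul _ _ _⟩))
    ((closure_le _).2 (by
      rintro _ ⟨z, hz, rfl⟩
      refine hgen _ ?_
      rintro _ ⟨t, ht, _, ⟨a, ha, b, hb, hab, rfl⟩, rfl⟩
      obtain ⟨h1, h2, -⟩ := h.tv_app t⁻¹ hz
      refine ⟨t, ht, σ (tv σ (σ t⁻¹ z)) (a + b), ⟨_, hΩ.app_mem h1 ha, _, hΩ.app_mem h1 hb, fun e => hab ?_,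
        map_add _ _ _⟩, ?_⟩
      · rw [← app_inv_self (σ := σ) (tv σ (σ t⁻¹ z)) a, e, app_inv_self]
      · rw [h2, inv_inv, ← app_mul, ← app_mul, ← mul_assoc, mul_inv_cancel_left]))))
  rcases h.ctx.irr W (fun g w hw => (htop.ge (mem_top g) : g ∈ stabV σ W) w hw) with e | e
  · exact h.ne_zero (hΩ.edge u hu v hv huv) (AddSubgroup.mem_bot.1 (e.le (AddSubgroup.subset_closure
      ⟨1, one_mem _, _, ⟨u, hu, v, hv, huv, rfl⟩, app_one _⟩)))
  · obtain ⟨r, hr⟩ := h.exists_f_one hy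
    have hle : W ≤ (h.f y).ker := (AddSubgroup.closure_le _).2 horth
    exact zero_ne_one ((AddMonoidHom.mem_ker.1 (hle (e.ge (AddSubgroup.mem_top r)))).symm.trans hr)

/-- The coordinate of a point. -/
noncomputable def pt (_hΩ : h.Frame Ω) (u : V) : V →+ ZMod 2 :=
  open Classical in ∑ v ∈ Ω.erase u, h.f (u + v)

theorem pt_apply [DecidableEq V] (u : V) (x : V) : hΩ.pt u x = ∑ v ∈ Ω.erase u, h.f (u + v) x := by
  rw [pt, AddMonoidHom.finset_sum_apply]
  exact Finset.sum_congr (by congr 1; exact Subsingleton.elim _ _) fun _ _ => rfl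

theorem pt_edge {u a b : V} (hu : u ∈ Ω) (ha : a ∈ Ω) (hb : b ∈ Ω) (hab : a ≠ b) :
    (u = a ∨ u = b → hΩ.pt u (a + b) = 1) ∧ (u ≠ a → u ≠ b → hΩ.pt u (a + b) = 0) := by
  classical
  have hsum : ∀ a ∈ Ω, hΩ.pt u a = if a = u then 0 else 1 := fun a ha => by
    rw [hΩ.pt_apply]
    by_cases e : a = u
    · subst e
      rw [if_pos rfl, Finset.sum_congr rfl (g := fun _ => (1 : ZMod 2)) (fun v hv =>
        hΩ.eval_left a ha v (Finset.mem_of_mem_erase hv) (Finset.ne_of_mem_erase hv).symm), Finset.sum_const,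
        Finset.card_erase_of_mem ha, nsmul_eq_mul, mul_one]
      obtain ⟨j, hj⟩ := hΩ.odd
      rw [hj, show 2 * j + 1 - 1 = 2 * j by omega, Nat.cast_mul, show ((2 : ℕ) : ZMod 2) = 0 from rfl, zero_mul]
    · rw [if_neg e, Finset.sum_eq_single a]
      · exact hΩ.eval_right hu ha (Ne.symm e)
      · exact fun v hv hva => hΩ.eval_ne u hu v (Finset.mem_of_mem_erase hv) (Finset.ne_of_mem_erase hv).symm
          a ha e (Ne.symm hva)
      · exact fun hn => absurd (Finset.mem_erase.2 ⟨e, ha⟩) hn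
  rw [map_add, hsum a ha, hsum b hb]
  refine ⟨?_, fun e1 e2 => ?_⟩
  · rintro (rfl | rfl)
    · rw [if_pos rfl, if_neg hab.symm, zero_add]
    · rw [if_pos rfl, if_neg hab, add_zero]
  · rw [if_neg (Ne.symm e1), if_neg (Ne.symm e2)]; decide

theorem pt_other {u x : V} (hu : u ∈ Ω) (hx : x ∈ tvSet σ) (h0 : ∀ w ∈ Ω, h.f x w = 0) : hΩ.pt u x = 0 := by
  classical
  rw [hΩ.pt_apply]
  refine Finset.sum_eq_zero fun v hv => ?_
  have hv' := Finset.mem_of_mem_erase hv
  rw [← h.symm hx (hΩ.edge u hu v hv' (Finset.ne_of_mem_erase hv).symm), map_add, h0 u hu, h0 v hv', add_zero]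

/-- Transvections not crossing an invariant set of points lie in `M`. -/
theorem mem_of_not_cross (hex : ∃ A, MinOff σ 2 A) {T : Sylow 2 P} {M : Subgroup P} (hM : IsCoatom M)
    (hTM : (T : Subgroup P) ≤ M) {O : Finset V} (hOΩ : O ⊆ Ω)
    (hinv : ∀ t ∈ (T : Subgroup P), t ∈ hΩ.stab → ∀ w ∈ O, σ t w ∈ O) {o o' : V} (ho : o ∈ O)
    (ho' : o' ∈ Ω) (hno : o' ∉ O) {a b : V} (ha : a ∈ Ω) (hb : b ∈ Ω) (hab : a ≠ b) (hsame : a ∈ O ↔ b ∈ O) :
    tv σ (a + b) ∈ M := by
  classical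
  set Cr := {z | ∃ t ∈ (T : Subgroup P), ∃ p ∈ O, ∃ q ∈ Ω, q ∉ O ∧ σ t (p + q) = z}
  have hnc : a + b ∉ Cr := by
    rintro ⟨t, ht, p, hp, q, hq, hqO, e⟩
    have hpq : p ≠ q := fun e' => hqO (e' ▸ hp)
    have hst : t ∈ hΩ.stab := hΩ.mem_stab_of_edge hex (hOΩ hp) hq hpq (e ▸ ⟨a, ha, b, hb, hab, rfl⟩)
    rw [map_add] at e
    have hne : σ t p ≠ σ t q := fun e' => hpq (by rw [← app_inv_self (σ := σ) t p, e', app_inv_self])
    have hp' := hinv t ht hst p hp
    have hq' : σ t q ∉ O := fun hm => hqO (by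
      have := hinv t⁻¹ (inv_mem ht) (inv_mem hst) _ hm
      rwa [app_inv_self] at this)
    obtain ⟨e1, e2⟩ := hΩ.pair_eq (hOΩ hp') (hst q hq) ha hb hne hab e
    rcases e1 with e1 | e1 <;> rcases e2 with e2 | e2
    · exact hne (e1.trans e2.symm)
    · exact hq' (e2 ▸ hsame.1 (e1 ▸ hp'))
    · exact hq' (e2 ▸ hsame.2 (e1 ▸ hp'))
    · exact hne (e1.trans e2.symm)
  set W := AddSubgroup.closure (tvSet σ \ Cr)
  have hT : (T : Subgroup P) ≤ stabV σ W := fun s hs w hw =>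
    (AddSubgroup.closure_le (K := W.comap (σ s))).2 (fun z hz => AddSubgroup.subset_closure
      ⟨(h.tv_app s hz.1).1, fun ⟨t, ht, p, hp, q, hq, hqO, e⟩ => hz.2
        ⟨s⁻¹ * t, mul_mem (inv_mem hs) ht, p, hp, q, hq, hqO, by rw [app_mul, e]; exact app_inv_self (σ := σ) s z⟩⟩) hw
  have hy : a + b ∈ tvSet σ := hΩ.edge a ha b hb hab
  have habW : a + b ∈ W := AddSubgroup.subset_closure ⟨hy, hnc⟩
  have hmem : tv σ (a + b) ∈ stabV σ W := fun w hw => by
    rw [h.app_tv hy]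
    exact AddSubgroup.add_mem _ hw (nsmul_mem habW _)
  refine PMinimal.le_of_sylow_le T hM hTM h.ctx.pmin hT (fun e => ?_) hmem
  rcases h.ctx.irr W (fun g w hw => (e.ge (mem_top g) : g ∈ stabV σ W) w hw) with e' | e'
  · exact h.ne_zero hy (AddSubgroup.mem_bot.1 (e'.le habW))
  · set ψ : V →+ ZMod 2 := ∑ u ∈ O, hΩ.pt u with hψdef
    have hψ : ∀ z, ψ z = ∑ u ∈ O, hΩ.pt u z := fun z => by rw [hψdef, AddMonoidHom.finset_sum_apply]
    have hle : W ≤ ψ.ker := (AddSubgroup.closure_le _).2 (by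
      rintro z ⟨hz, hzC⟩
      show ψ z = 0
      rw [hψ]
      rcases hΩ.closed z hz with ⟨p, hp, q, hq, hpq, rfl⟩ | h0
      · have hiff : p ∈ O ↔ q ∈ O := by
          constructor
          · exact fun hpO => by_contra fun hqO => hzC ⟨1, one_mem _, p, hpO, q, hq, hqO, app_one _⟩
          · exact fun hqO => by_contra fun hpO =>
              hzC ⟨1, one_mem _, q, hqO, p, hp, hpO, by rw [app_one, add_comm]⟩
        by_cases hpO : p ∈ O
        · rw [← Finset.add_sum_erase _ _ hpO,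
            ← Finset.add_sum_erase _ _ (Finset.mem_erase.2 ⟨hpq.symm, hiff.1 hpO⟩),
            (hΩ.pt_edge hp hp hq hpq).1 (Or.inl rfl), (hΩ.pt_edge hq hp hq hpq).1 (Or.inr rfl),
            Finset.sum_eq_zero fun u hu => ?_]
          · decide
          · simp only [Finset.mem_erase] at hu
            exact (hΩ.pt_edge (hOΩ hu.2.2) hp hq hpq).2 hu.2.1 hu.1
        · refine Finset.sum_eq_zero fun u hu => (hΩ.pt_edge (hOΩ hu) hp hq hpq).2 (fun e => hpO (e ▸ hu))
            fun e => hpO (hiff.2 (e ▸ hu))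
      · exact Finset.sum_eq_zero fun u hu => hΩ.pt_other (hOΩ hu) hz h0)
    have hno' : o ≠ o' := fun e => hno (e ▸ ho)
    have h1 : ψ (o + o') = 1 := by
      rw [hψ, ← Finset.add_sum_erase _ _ ho, (hΩ.pt_edge (hOΩ ho) (hOΩ ho) ho' hno').1 (Or.inl rfl),
        Finset.sum_eq_zero fun u hu => (hΩ.pt_edge (hOΩ (Finset.mem_of_mem_erase hu)) (hOΩ ho) ho' hno').2
          (Finset.ne_of_mem_erase hu) (fun e => hno (e ▸ Finset.mem_of_mem_erase hu)), add_zero]
    exact zero_ne_one ((AddMonoidHom.mem_ker.1 (hle (e'.ge (AddSubgroup.mem_top (o + o'))))).symm.trans h1)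

/-- The fixed point, the transvections at it, and transitivity on the other points. -/
theorem exists_top (hex : ∃ A, MinOff σ 2 A) {T : Sylow 2 P} {M : Subgroup P} (hM : IsCoatom M)
    (hTM : (T : Subgroup P) ≤ M) : ∃ o ∈ Ω, (∀ t ∈ (T : Subgroup P), t ∈ hΩ.stab → σ t o = o) ∧
      (∀ i ∈ Ω, i ≠ o → tv σ (i + o) ∉ M) ∧ ∃ k : ℕ, 1 ≤ k ∧ Ω.card = 2 ^ k + 1 := by
  classical
  set N : Subgroup P := (T : Subgroup P) ⊓ hΩ.stab
  let act : MulAction ↥N ↥Ω :=
    { smul := fun g w => ⟨σ (g : P) w, g.2.2 w w.2⟩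
      one_smul := fun w => Subtype.ext (app_one (σ := σ) (w : V))
      mul_smul := fun a b w => Subtype.ext (app_mul (σ := σ) (a : P) (b : P) (w : V)) }
  have hN : IsPGroup 2 ↥N := T.2.to_le inf_le_left
  obtain ⟨⟨o, ho⟩, hofix⟩ := hN.nonempty_fixed_point_of_prime_not_dvd_card ↥Ω (by
    rw [Nat.card_eq_fintype_card, Fintype.card_coe]; exact hΩ.odd.not_two_dvd_nat)
  have hfix : ∀ t ∈ (T : Subgroup P), t ∈ hΩ.stab → σ t o = o := fun t ht hts =>
    congrArg Subtype.val (hofix ⟨t, ht, hts⟩)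
  obtain ⟨i₀, hi₀, hi₀o, -⟩ := hΩ.exists_third (u := o) (v := o)
  have hin : ∀ a b, a ∈ Ω → b ∈ Ω → a ≠ b → a ≠ o → b ≠ o → tv σ (a + b) ∈ M := fun a b ha hb hab hao hbo =>
    hΩ.mem_of_not_cross hex hM hTM (O := {o}) (Finset.singleton_subset_iff.2 ho)
      (fun t ht hts w hw => by
        rw [Finset.mem_singleton.1 hw, hfix t ht hts]; exact Finset.mem_singleton_self o)
      (Finset.mem_singleton_self o) hi₀ (fun e => hi₀o (Finset.mem_singleton.1 e)) ha hb hab
      (iff_of_false (fun e => hao (Finset.mem_singleton.1 e)) fun e => hbo (Finset.mem_singleton.1 e))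
  have hout : ∀ i ∈ Ω, i ≠ o → tv σ (i + o) ∉ M := by
    intro i hi hio hmem
    have hall : ∀ x, Edge Ω x → tv σ x ∈ M := by
      have h1 : ∀ j ∈ Ω, j ≠ o → tv σ (j + o) ∈ M := fun j hj hjo => by
        by_cases e : i = j
        · rw [← e]; exact hmem
        · obtain ⟨-, h2, -⟩ := h.tv_app (tv σ (i + j)) (hΩ.edge i hi o ho hio)
          rw [map_add, hΩ.swap_left hi hj e, hΩ.swap_ne hi hj e ho (Ne.symm hio) (Ne.symm hjo)] at h2
          have hm := hin i j hi hj e hio hjo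
          rw [h2]
          exact mul_mem (mul_mem hm hmem) (inv_mem hm)
      rintro _ ⟨a, ha, b, hb, hab, rfl⟩
      by_cases hao : a = o
      · subst hao; rw [add_comm]; exact h1 b hb hab.symm
      by_cases hbo : b = o
      · subst hbo; exact h1 a ha hab
      exact hin a b ha hb hab hao hbo
    obtain ⟨x, hx, hxM⟩ := h.exists_not_mem hex hM hTM
    obtain ⟨t, ht, z, hz, rfl⟩ := hΩ.exists_translate hex hM hTM hx
    rw [(h.tv_app t (hΩ.mem_tvSet hz)).2.1] at hxM
    exact hxM (mul_mem (mul_mem (hTM ht) (hall z hz)) (inv_mem (hTM ht)))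
  refine ⟨o, ho, hfix, hout, ?_⟩
  set O : Finset V := Ω.filter fun w => ∃ t ∈ N, σ t i₀ = w with hO
  have hOmem : ∀ {w}, w ∈ O ↔ w ∈ Ω ∧ ∃ t ∈ N, σ t i₀ = w := fun {w} => by simp [hO]
  have hoO : o ∉ O := fun hm => by
    obtain ⟨-, t, ht, e⟩ := hOmem.1 hm
    exact hi₀o (by rw [← app_inv_self (σ := σ) t i₀, e, hfix t⁻¹ (inv_mem ht.1) (inv_mem ht.2)])
  have hi₀O : i₀ ∈ O := hOmem.2 ⟨hi₀, 1, one_mem _, app_one _⟩
  have hOeq : O = Ω.erase o := by
    refine Finset.Subset.antisymm (fun w hw => Finset.mem_erase.2 ⟨fun e => hoO (e ▸ hw), (hOmem.1 hw).1⟩)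
      fun j hj => ?_
    obtain ⟨hjo, hj⟩ := Finset.mem_erase.1 hj
    by_contra hjO
    refine hout j hj hjo (hΩ.mem_of_not_cross hex hM hTM (O := O) (fun w hw => (hOmem.1 hw).1)
      (fun t ht hts w hw => ?_) hi₀O ho hoO hj ho hjo (iff_of_false hjO hoO))
    obtain ⟨hwΩ, s, hs, rfl⟩ := hOmem.1 hw
    exact hOmem.2 ⟨hts _ hwΩ, t * s, mul_mem ⟨ht, hts⟩ hs, app_mul _ _ _⟩
  obtain ⟨k, hk⟩ := hN.card_orbit (⟨i₀, hi₀⟩ : ↥Ω)
  have hcard : Nat.card (MulAction.orbit ↥N (⟨i₀, hi₀⟩ : ↥Ω)) = O.card := by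
    rw [← Fintype.card_coe O, ← Nat.card_eq_fintype_card]
    refine Nat.card_congr
      { toFun := fun z => ⟨z.1.1, hOmem.2 ⟨z.1.2, by
          obtain ⟨g, hg⟩ := z.2
          exact ⟨g, g.2, congrArg Subtype.val hg⟩⟩⟩
        invFun := fun z => ⟨⟨z.1, (hOmem.1 z.2).1⟩, by
          obtain ⟨-, t, ht, e⟩ := hOmem.1 z.2
          exact ⟨⟨t, ht⟩, Subtype.ext e⟩⟩
        left_inv := fun z => rfl
        right_inv := fun z => rfl }
  rw [hcard, hOeq, Finset.card_erase_of_mem ho] at hk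
  have := hΩ.three
  refine ⟨k, ?_, by omega⟩
  by_contra hk0
  rw [show k = 0 by omega, pow_zero] at hk
  omega

end Frame

/-- The conclusion. -/
theorem concl (hex : ∃ A, MinOff σ 2 A) : Concl σ 2 := by
  refine ⟨h.good.bound, fun T M hM hTM A hA hAT => ?_, fun A hA => h.spanned hA⟩
  classical
  obtain ⟨t, x, rfl, ht⟩ := h.exists_of_minOff hA
  have hx : x ∈ tvSet σ := ⟨t, ht⟩
  rw [← h.eq_tv ht] at hAT ⊢
  obtain ⟨Ω, hΩ, a, ha, b, hb, hab, hxab⟩ := h.exists_frame hex hx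
  subst hxab
  obtain ⟨o, ho, hfix, hout, -⟩ := hΩ.exists_top hex hM hTM
  have hst : tv σ (a + b) ∈ hΩ.stab := fun w hw => hΩ.app_mem hx hw
  have htfix := hfix _ (hAT (mem_zpowers _)) hst
  have hao : a ≠ o := fun e => hab
    (((congrArg (σ (tv σ (a + b))) e).trans (htfix.trans e.symm)).symm.trans (hΩ.swap_left ha hb hab))
  have hbo : b ≠ o := fun e => hab
    ((hΩ.swap_right ha hb hab).symm.trans ((congrArg (σ (tv σ (a + b))) e).trans (htfix.trans e.symm)))
  obtain ⟨B, hB, hmem⟩ := h.exists_block_pair hx (hΩ.edge a ha o ho hao) (hΩ.meet ha hb ho hab hao hbo)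
  exact ⟨ZMod 2, inferInstance, inferInstance, B, hB, fun hle => hout a ha hao (hle hmem)⟩

end TCtx

end Cfsg.Agent.FFMinimal
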