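import Cfsg.Agent.Lib.FFMinimal.BlockFacts
import Cfsg.Agent.Lib.FFMinimal.Action

/-!
The conclusion of the classification, and first consequences.

* `Spanned` : fixed points are spanned by commutators of commuting conjugates
* `Concl` : bound, a block outside the maximal subgroup, spanning
* `inf_eq_bot`, `sup_fix_eq_top` : two commuting minimal offenders
-/

set_option autoImplicit false

namespace Cfsg.Agent.FFMinimal

open Subgroup
open OffenderSL2 (fixS cj app_mul app_one mem_fix_cj apply_mem_fix_cj fix_le fix_sup)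

universe u v

variable {P : Type u} [Group P] {V : Type v} [AddCommGroup V] (σ : P →* AddMonoid.End V)

/-- `C_V(A)` is spanned by the commutators of the conjugates of `A` commuting with `A`. -/
def Spanned (A : Subgroup P) : Prop :=
  fixS σ A ≤ AddSubgroup.closure
    {w | ∃ g, (∀ a ∈ A, ∀ b ∈ cj A g, a * b = b * a) ∧ w ∈ comS σ (cj A g)}

/-- The conclusion for an irreducible configuration. -/
structure Concl (p : ℕ) : Prop where
  bound : Bound σ p
  outside : ∀ (T : Sylow p P) (M : Subgroup P), IsCoatom M → (T : Subgroup P) ≤ M → ∀ A,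
    MinOff σ p A → A ≤ (T : Subgroup P) →
    ∃ (F : Type) (_ : Field F) (_ : Finite F) (B : Block σ F A), B.hh = 0 ∧ ¬ B.grp ≤ M
  spanned : ∀ A, MinOff σ p A → Spanned σ A

variable {σ} {p : ℕ}

theorem Concl.root [Finite P] [Fact p.Prime] (h : Concl σ p) (hP : Cfsg.IsPMinimal p P) {A : Subgroup P}
    (hA : MinOff σ p A) : ∃ (F : Type) (_ : Field F) (_ : Finite F) (B : Block σ F A), B.hh = 0 := by
  obtain ⟨T, hT⟩ := hA.off.elem.isPGroup.exists_le_sylow
  obtain ⟨M, hM, -⟩ := (hP T).2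
  obtain ⟨F, iF, fF, B, hB, -⟩ := h.outside T M hM.1 hM.2 A hA hT
  exact ⟨F, iF, fF, B, hB⟩

/-- A block makes a minimal offender share no element with another one. -/
theorem inf_eq_bot [Finite P] [Finite V] (hp : ∀ v : V, p • v = 0)
    (hf : ∀ g : P, (∀ v, σ g v = v) → g = 1) (hB : Bound σ p) {F : Type} [Field F] {A A' : Subgroup P}
    (B : Block σ F A) (hA : MinOff σ p A) (hA' : MinOff σ p A')
    {F' : Type} [Field F'] (B' : Block σ F' A') (hne : A' ≠ A) : A ⊓ A' = ⊥ := by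
  rw [eq_bot_iff]
  rintro x ⟨hx, hx'⟩
  rw [mem_bot]
  by_contra hx1
  obtain ⟨t, rfl⟩ := B.mem_A.1 hx
  obtain ⟨t', ht'⟩ := B'.mem_A.1 hx'
  have ht : t ≠ 0 := fun e => hx1 (by rw [e, B.up_zero])
  have ht0 : t' ≠ 0 := fun e => hx1 (by rw [← ht', e, B'.up_zero])
  have hfix : fixS σ A = fixS σ A' := le_antisymm
    (fun v hv => B'.mem_fix_of_up ht0 (by rw [ht']; exact hv _ hx))
    (fun v hv => B.mem_fix_of_up ht (hv _ hx'))
  refine hne (hA.minimal _ (fun u hu => ?_) hA'.off)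
  exact mem_of_hkill hp hf hB hA.off B.quad (fun v hv => (hfix.le hv : v ∈ fixS σ A') u hu)
    (fun v => hfix.ge (B'.quad (sub_mem_comS hu v)))

theorem card_sup_of_inf_eq_bot [Finite P] {A A' : Subgroup P} (hi : A ⊓ A' = ⊥)
    (hc : ∀ a ∈ A, ∀ b ∈ A', a * b = b * a) :
    Nat.card ↥A * Nat.card ↥A' ≤ Nat.card ↥(A ⊔ A' : Subgroup P) := by
  rw [← Nat.card_prod]
  refine Nat.card_le_card_of_injective
    (fun z => ⟨(z.1 : P) * z.2, mul_mem (mem_sup_left z.1.2) (mem_sup_right z.2.2)⟩) ?_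
  rintro ⟨a, b⟩ ⟨a', b'⟩ h
  have h' : (a : P) * b = a' * b' := congrArg Subtype.val h
  have e : (a'⁻¹ : P) * a = b' * (b : P)⁻¹ := by
    rw [eq_mul_inv_iff_mul_eq, mul_assoc, h', inv_mul_cancel_left]
  have h1 : (a'⁻¹ : P) * a ∈ A := mul_mem (inv_mem a'.2) a.2
  have h2 : (a'⁻¹ : P) * a ∈ A' := by rw [e]; exact mul_mem b'.2 (inv_mem b.2)
  have hz : (a'⁻¹ : P) * a = 1 := mem_bot.1 (hi.le (Subgroup.mem_inf.2 ⟨h1, h2⟩))
  rw [hz, eq_comm, mul_inv_eq_one] at e
  rw [inv_mul_eq_one] at hz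
  simp only [Prod.mk.injEq]
  exact ⟨Subtype.ext hz.symm, Subtype.ext e.symm⟩

/-- Two commuting offenders without common element move independently. -/
theorem sup_fix_eq_top [Finite P] [Finite V] (hB : Bound σ p) {A A' : Subgroup P} (hA : Off σ p A)
    (hA' : Off σ p A') (hi : A ⊓ A' = ⊥) (hc : ∀ a ∈ A, ∀ b ∈ A', a * b = b * a) :
    fixS σ A ⊔ fixS σ A' = ⊤ := by
  have h := hB _ (hA.elem.sup hA'.elem hc)
  have hfix : Nat.card ↥(fixS σ (A ⊔ A')) = Nat.card ↥(fixS σ A ⊓ fixS σ A' : AddSubgroup V) := by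
    rw [show fixS σ (A ⊔ A') = fixS σ A ⊓ fixS σ A' from le_antisymm
      (le_inf (fix_le le_sup_left) (fix_le le_sup_right)) fun v hv => fix_sup _ _ hv.1 hv.2]
  rw [wt, hfix] at h
  have h2 := card_sup_mul_inf (fixS σ A) (fixS σ A')
  refine AddSubgroup.eq_top_of_le_card _ ?_
  have := Nat.mul_le_mul hA.le hA'.le
  refine Nat.le_of_mul_le_mul_right ?_ (Nat.card_pos (α := V))
  calc Nat.card V * Nat.card V
      ≤ wt σ A * wt σ A' := this
    _ = Nat.card ↥A * Nat.card ↥A' * (Nat.card ↥(fixS σ A) * Nat.card ↥(fixS σ A')) := by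
        simp only [wt]; ring
    _ ≤ Nat.card ↥(A ⊔ A' : Subgroup P) * (Nat.card ↥(fixS σ A) * Nat.card ↥(fixS σ A')) :=
        Nat.mul_le_mul_right _ (card_sup_of_inf_eq_bot hi hc)
    _ ≤ Nat.card ↥(fixS σ A ⊔ fixS σ A' : AddSubgroup V) * Nat.card V := by
        rw [← h2]
        calc _ = Nat.card ↥(fixS σ A ⊔ fixS σ A' : AddSubgroup V) *
              (Nat.card ↥(A ⊔ A' : Subgroup P) * Nat.card ↥(fixS σ A ⊓ fixS σ A' : AddSubgroup V)) := by ring
          _ ≤ _ := Nat.mul_le_mul_left _ h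

end Cfsg.Agent.FFMinimal
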