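import Cfsg.Agent.Lib.FFMinimal.Absorb

/-!
The Sylow subgroup fixes a vector outside the fixed points of the group.

* `Block.borel_line` : elements of the group normalising the root group preserve the first axis
* `exists_fixed` : the fixed vector
-/

set_option autoImplicit false

namespace Cfsg.Agent.FFMinimal

open Subgroup
open scoped MatrixGroups
open RankOne (upSL loSL)
open OffenderSL2 (fixS cj app_mul app_one app_inv_self app_self_inv fix_le fix_sup mem_fix_cj apply_mem_fix_cj mem_cj cj_cj)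

universe u v

variable {P : Type u} [Group P] {V : Type v} [AddCommGroup V]

/-- Elements of the group normalising the root group move the fixed points of the root group along the first axis. -/
theorem Block.borel_line {σ : P →* AddMonoid.End V} {F : Type} [Field F] {A : Subgroup P} (B : Block σ F A) {g : P}
    (hg : g ∈ B.grp) (hgA : cj A g = A) {w : V} (hw : w ∈ fixS σ A) : σ g w - w ∈ B.lam.range := by
  obtain ⟨m, rfl⟩ := hg
  obtain ⟨c, hc, x, rfl⟩ := B.mem_fix_A.1 hw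
  have h1 := apply_mem_fix_cj (σ := σ) (B.φ m) (B.lam_mem_fix 1)
  rw [hgA] at h1
  obtain ⟨c', hc', x', e⟩ := B.mem_fix_A.1 h1
  have e2 := congrArg (fun v => (B.crd v).2) e
  simp only [B.crd_app, B.crd_lam, map_add, B.crd_C hc', Prod.snd_add, Prod.snd_zero, zero_add] at e2
  have h10 : m.1 1 0 = 0 := by simpa [mulv] using e2
  have hdet : m.1 0 0 * m.1 1 1 = 1 := by
    have := m.2
    rw [Matrix.det_fin_two, h10, mul_zero, sub_zero] at this
    exact this
  set a : Fˣ := ⟨m.1 0 0, m.1 1 1, hdet, by rw [mul_comm]; exact hdet⟩ with ha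
  have hm : m = dgSL a * upSL (m.1 1 1 * m.1 0 1) := by
    apply Subtype.ext
    rw [Matrix.SpecialLinearGroup.coe_mul, coe_dgSL]
    ext i j
    fin_cases i <;> fin_cases j <;> simp [upSL, ha, h10, Matrix.mul_apply, Fin.sum_univ_two, ← mul_assoc, hdet]
  have e3 : σ (B.φ m) (B.lam x) = B.lam ((a : F) * x) := by rw [hm, map_mul, app_mul, B.up_lam, B.dg_lam]
  rw [map_add, B.fix_C _ c hc, add_sub_add_left_eq_sub, e3, ← map_sub]
  exact ⟨_, rfl⟩

variable [Finite P] [Finite V] {ρ : P →* AddMonoid.End V}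

namespace Red

/-- The case of linear groups. -/
theorem exists_fixed_linear {p : ℕ} [Fact p.Prime] {c : Chief ρ p} (r : Red ρ p c) {T : Sylow p P} {M A : Subgroup P}
    (hM : IsCoatom M) (hTM : (T : Subgroup P) ≤ M) (hA : MinOff ρ p A) (hAT : A ≤ (T : Subgroup P)) {F : Type}
    [Field F] [Finite F] {Bb : Block c.actBar F (c.img A)}
    (o : Orbit c.actBar p (c.sylowBar T) (c.MBar M) (c.img A) Bb) :
    ∃ z ∈ fixS ρ (T : Subgroup P), ∃ g, ρ g z ≠ z := by
  classical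
  obtain ⟨-, F', iF, fF, B, B₀, hφ, h₀, -, -, -⟩ := r.lift hA hM hTM hAT
  haveI := Fintype.ofFinite F'
  haveI := Fintype.ofFinite F
  have hX : XData (V := V) p T M := ⟨r.exponent, r.pmin, hM, hTM⟩
  have hinj := r.mk_injective
  have hcard : Fintype.card F = Fintype.card F' := by
    rw [← Nat.card_eq_fintype_card, ← Nat.card_eq_fintype_card, ← B₀.card_A, ← Bb.card_A]
  obtain ⟨s, hs⟩ : ∃ s : F'ˣ, (s : F') ≠ 1 := by
    obtain ⟨s, hs⟩ := o.unit
    refine ⟨Units.map (FiniteField.ringEquivOfCardEq hcard : F →* F') s, fun e => hs ?_⟩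
    exact (FiniteField.ringEquivOfCardEq hcard).injective (e.trans (map_one _).symm)
  have hgrp : c.img B.grp = Bb.grp := by
    have e1 : c.img B.grp = B₀.grp := by
      ext x
      constructor
      · rintro ⟨_, ⟨k, rfl⟩, rfl⟩; exact ⟨k, (hφ k).symm⟩
      · rintro ⟨k, rfl⟩; exact ⟨B.φ k, ⟨k, rfl⟩, hφ k⟩
    rw [e1]
    have := o.grp_eq (B₀.mapField (FiniteField.ringEquivOfCardEq hcard.symm)) (by
      show B₀.hh.comp _ = 0
      rw [h₀, AddMonoidHom.zero_comp])
    rwa [Block.mapField_grp] at this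
  set L : AddSubgroup V :=
    AddSubgroup.closure {v | ∃ g ∈ B.grp, cj A g = A ∧ ∃ w ∈ fixS ρ A, ρ g w - w = v} with hL
  have hLr : L ≤ B.lam.range := (AddSubgroup.closure_le _).2 (by
    rintro _ ⟨g, hg, hgA, w, hw, rfl⟩; exact B.borel_line hg hgA hw)
  have hlam : ∀ x, B.lam x ∈ L := fun x => AddSubgroup.subset_closure
    ⟨B.dg s, B.dg_mem_grp s, B.cj_dg s, B.lam (x / ((s : F') - 1)), B.lam_mem_fix _, by
      rw [B.app_dg_lam, ← map_sub, ← sub_one_mul, mul_div_cancel₀ _ (sub_ne_zero.2 hs)]⟩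
  -- the stabiliser of the root group in the Sylow subgroup
  let N : Subgroup ↥(T : Subgroup P) :=
    { carrier := {t | cj A (t : P) = A}
      one_mem' := cj_eq_of_comm fun a _ => by simp
      mul_mem' := fun {a b} ha hb => by
        show cj A ((a : P) * b) = A
        rw [← cj_cj, hb, ha]
      inv_mem' := fun {a} ha => by
        show cj A ((a : P)⁻¹) = A
        conv_lhs => rw [← show cj A (a : P) = A from ha, cj_cj, inv_mul_cancel]
        exact cj_eq_of_comm fun a _ => by simp }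
  have hNgrp : ∀ t : P, cj A t = A → cj B.grp t = B.grp := fun t ht => Subgroup.map_injective hinj (by
    show c.img (cj B.grp t) = c.img B.grp
    rw [img_cj, hgrp]
    exact o.conj_grp_eq (by rw [← img_cj, ht]))
  have hLinv : ∀ t : P, cj A t = A → ∀ w ∈ L, ρ t w ∈ L := fun t ht w hw => by
    refine (AddSubgroup.closure_le (K := L.comap (ρ t))).2 ?_ hw
    rintro _ ⟨g, hg, hgA, v, hv, rfl⟩
    refine AddSubgroup.subset_closure ⟨t * g * t⁻¹, hNgrp t ht ▸ ⟨g, hg, rfl⟩, ?_, ρ t v,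
      ht ▸ apply_mem_fix_cj t hv, ?_⟩
    · have ht' : cj A t⁻¹ = A := by
        conv_lhs => rw [← ht, cj_cj, inv_mul_cancel]
        exact cj_eq_of_comm fun a _ => by simp
      rw [← cj_cj, ← cj_cj, ht', hgA, ht]
    · rw [app_mul, app_mul, app_inv_self]
      exact (map_sub (ρ t) _ _).symm
  obtain ⟨l, hl, hl0, hlN⟩ := exists_fixed_ne_zero (σ := ρ) r.exponent
    ((T.2.to_le (map_subtype_le N)) : IsPGroup p ↥(N.map (T : Subgroup P).subtype)) L (fun b hb w hw => by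
      obtain ⟨t, ht, rfl⟩ := hb
      exact hLinv _ ht w hw) (fun e => by
        have h1 := congrArg B.crd (AddSubgroup.mem_bot.1 (e.le (hlam 1)))
        rw [B.crd_lam, map_zero] at h1
        exact one_ne_zero (congrArg Prod.fst h1))
  obtain ⟨x₀, rfl⟩ := hLr hl
  have hx₀ : x₀ ≠ 0 := fun e => hl0 (by rw [e, map_zero])
  have hwd : ∀ t t' : ↥(T : Subgroup P), t⁻¹ * t' ∈ N → ρ (t : P) (B.lam x₀) = ρ (t' : P) (B.lam x₀) := fun t t' h => by
    have := hlN ((t : P)⁻¹ * t') ⟨t⁻¹ * t', h, rfl⟩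
    conv_lhs => rw [← this]
    rw [app_mul, app_self_inv]
  haveI := Fintype.ofFinite (↥(T : Subgroup P) ⧸ N)
  set z := ∑ q : ↥(T : Subgroup P) ⧸ N, ρ (q.out : P) (B.lam x₀) with hz
  have hzT : z ∈ fixS ρ (T : Subgroup P) := fun t ht => by
    rw [hz, map_sum]
    refine Fintype.sum_equiv (MulAction.toPerm (⟨t, ht⟩ : ↥(T : Subgroup P))) _ _ fun q => ?_
    show ρ t (ρ (q.out : P) (B.lam x₀)) = ρ (((⟨t, ht⟩ : ↥(T : Subgroup P)) • q).out : P) (B.lam x₀)
    rw [← app_mul]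
    refine hwd (⟨t, ht⟩ * q.out) _ (QuotientGroup.eq.1 ?_)
    rw [QuotientGroup.out_eq']
    conv_rhs => rw [← QuotientGroup.out_eq' q]
    rfl
  refine ⟨z, hzT, ?_⟩
  by_contra hc
  push Not at hc
  set S : Set (Subgroup P) := {A, cj A (B.φ wSL)}
  have hS : ∀ A' ∈ S, MinOff ρ p A' := by
    rintro A' (rfl | rfl)
    exacts [hA, hA.conj _]
  have hE : sSup S = B.grp := by rw [B.grp_eq, sSup_pair]
  have hlcom : B.lam x₀ ∈ comS ρ (sSup S) := by
    rw [hE]
    have e : B.lam x₀ = ρ (B.dg s) (B.lam (x₀ / ((s : F') - 1))) - B.lam (x₀ / ((s : F') - 1)) := by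
      rw [B.app_dg_lam, ← map_sub, ← sub_one_mul, mul_div_cancel₀ _ (sub_ne_zero.2 hs)]
    rw [e]; exact sub_mem_comS (B.dg_mem_grp s) _
  obtain ⟨hl1, hlc⟩ := r.cls_comS hS hlcom
  rw [hE, hgrp] at hlc
  refine hx₀ ?_
  have hfix : B.lam x₀ ∈ fixS ρ B.grp := by
    rw [← hE]
    refine r.mem_fix_of_cls hS hl1 ?_
    rw [hE, hgrp]
    have hq : ∀ q : ↥(T : Subgroup P) ⧸ N, ρ (q.out : P) (B.lam x₀) ∈ c.V₁ := fun q => c.inv _ _ hl1
    intro gb hgb
    obtain ⟨g, hg, rfl⟩ : gb ∈ c.img B.grp := hgrp.ge hgb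
    -- only the first summand moves
    have key : ∀ q : ↥(T : Subgroup P) ⧸ N, q ≠ ((1 : ↥(T : Subgroup P)) : _ ⧸ N) →
        ρ g (ρ (q.out : P) (B.lam x₀)) - ρ (q.out : P) (B.lam x₀) ∈ c.C := by
      intro q hq'
      set tb := QuotientGroup.mk' c.K (q.out : P)
      have htb : tb ∈ ((c.sylowBar T : Sylow p c.Xbar) : Subgroup c.Xbar) := by
        rw [c.sylowBar_coe hX]; exact mem_map_of_mem _ q.out.2
      have hne : cj (c.img A) tb ≠ c.img A := fun e => hq' (by
        have e' : cj A (q.out : P) = A := Subgroup.map_injective hinj (by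
          show c.img (cj A _) = c.img A; rw [img_cj]; exact e)
        rw [← QuotientGroup.out_eq' q, QuotientGroup.eq, mul_one]
        exact inv_mem (show q.out ∈ N from e'))
      obtain ⟨-, h1⟩ := o.grp_commute_conj htb hne
      have h2 := h1 (apply_mem_comS_cj tb hlc) _ (hgrp.le (mem_map_of_mem (QuotientGroup.mk' c.K) hg))
      exact (c.cls_eq (c.inv g _ (hq q)) (hq q)).1 h2
    have hsum : ρ g z - z ∈ c.C := by rw [hc g, sub_self]; exact zero_mem _
    rw [hz, map_sum, ← Finset.sum_sub_distrib,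
      ← Finset.add_sum_erase _ _ (Finset.mem_univ ((1 : ↥(T : Subgroup P)) : ↥(T : Subgroup P) ⧸ N))] at hsum
    have hrest := sum_mem (S := c.C) fun q (hq1 : q ∈ Finset.univ.erase ((1 : ↥(T : Subgroup P)) : ↥(T : Subgroup P) ⧸ N)) =>
      key q (Finset.ne_of_mem_erase hq1)
    have h1 := sub_mem hsum hrest
    rw [add_sub_cancel_right] at h1
    have hone : ρ ((((1 : ↥(T : Subgroup P)) : ↥(T : Subgroup P) ⧸ N).out : ↥(T : Subgroup P)) : P) (B.lam x₀) =
        B.lam x₀ := by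
      have h1 := hwd 1 _ (QuotientGroup.eq.1 (QuotientGroup.out_eq' ((1 : ↥(T : Subgroup P)) : ↥(T : Subgroup P) ⧸ N)).symm)
      rwa [OneMemClass.coe_one, app_one, eq_comm] at h1
    rw [hone] at h1
    exact (c.cls_eq (c.inv g _ hl1) hl1).2 h1
  have h0 : B.lam x₀ ∈ B.C := B.fix_grp ▸ hfix
  have h1 := B.crd_eq_zero.2 h0
  rw [B.crd_lam] at h1
  exact congrArg Prod.fst h1

/-- The case of symmetric groups. -/
theorem exists_fixed_sym {c : Chief ρ 2} (r : Red ρ 2 c) (h : TCtx c.actBar) {T : Sylow 2 P} {M : Subgroup P}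
    (hM : IsCoatom M) (hTM : (T : Subgroup P) ≤ M) : ∃ z ∈ fixS ρ (T : Subgroup P), ∃ g, ρ g z ≠ z := by
  classical
  have hex := r.exists_minOff_top h
  have hX : XData (V := V) 2 T M := ⟨r.exponent, r.pmin, hM, hTM⟩
  have hinj := r.mk_injective
  have hMb := (c.coatom_MBar hX).1
  have hTb : ((c.sylowBar T : Sylow 2 c.Xbar) : Subgroup c.Xbar) ≤ c.MBar M := by
    rw [c.sylowBar_coe hX]; exact map_mono hTM
  set X := {x : c.U | x ∈ tvSet c.actBar ∧ tv c.actBar x ∈ c.img (T : Subgroup P)} with hXdef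
  -- unique lifts
  have hlift : ∀ y : c.U, ∃ z : V, y ∈ tvSet c.actBar → ∃ hz : z ∈ c.V₁, c.cls hz = y ∧
      ∀ A, c.img A = zpowers (tv c.actBar y) → z ∈ comS ρ A ∧ ∀ w ∈ comS ρ A, w = 0 ∨ w = z := fun y => by
    by_cases hy : y ∈ tvSet c.actBar
    · obtain ⟨A, z, hz, -, himg, hc, hzA, hall⟩ := r.lift_tv h hy
      refine ⟨z, fun _ => ⟨hz, hc, fun A' hA' => ?_⟩⟩
      rw [Subgroup.map_injective hinj (hA'.trans himg.symm)]
      exact ⟨hzA, hall⟩
    · exact ⟨0, fun h' => absurd h' hy⟩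
  choose zf hzf using hlift
  obtain ⟨A, hA, hAT⟩ := r.exists_le T
  obtain ⟨t₁, x₁, e₁, ht₁⟩ := h.exists_of_minOff (r.seen hA).minOff
  have hx₁ : x₁ ∈ X := ⟨⟨t₁, ht₁⟩, by
    rw [h.eq_tv ht₁]; exact map_mono hAT (show t₁ ∈ c.img A from e₁ ▸ mem_zpowers _)⟩
  set s := (Set.toFinite X).toFinset
  have hsmem : ∀ {x}, x ∈ s ↔ x ∈ tvSet c.actBar ∧ tv c.actBar x ∈ c.img (T : Subgroup P) := Set.Finite.mem_toFinset _
  have hperm : ∀ t ∈ (T : Subgroup P), ∀ x ∈ s, c.actBar (t : c.Xbar) x ∈ s ∧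
      ρ t (zf x) = zf (c.actBar (t : c.Xbar) x) := by
    intro t ht x hx
    obtain ⟨hx1, hx2⟩ := hsmem.1 hx
    obtain ⟨h1, h2, -⟩ := h.tv_app (QuotientGroup.mk' c.K t) hx1
    have h2' : tv c.actBar (c.actBar (t : c.Xbar) x) = (t : c.Xbar) * tv c.actBar x * (t : c.Xbar)⁻¹ := h2
    refine ⟨hsmem.2 ⟨h1, h2' ▸ mul_mem (mul_mem (mem_map_of_mem _ ht) hx2) (inv_mem (mem_map_of_mem _ ht))⟩, ?_⟩
    obtain ⟨A', z, hz, -, himg, hc, -, -⟩ := r.lift_tv h hx1
    obtain ⟨hzx, hcx, hAx⟩ := hzf x hx1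
    obtain ⟨hzy, hcy, hAy⟩ := hzf _ h1
    have himg' : c.img (cj A' t) = zpowers (tv c.actBar (c.actBar (t : c.Xbar) x)) := by
      rw [img_cj, himg, h2']
      show Subgroup.map _ _ = _
      rw [MonoidHom.map_zpowers]; rfl
    refine ((hAy _ himg').2 _ (apply_mem_comS_cj t (hAx A' himg).1)).resolve_left fun e => ?_
    have e' : zf x = 0 := by rw [← app_inv_self (σ := ρ) t (zf x), e, map_zero]
    exact h.ne_zero hx1 (by rw [← hcx]; exact (c.cls_eq_zero hzx).2 (e' ▸ zero_mem _))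
  set z := ∑ x ∈ s, zf x with hz
  have hzT : z ∈ fixS ρ (T : Subgroup P) := fun t ht => by
    rw [hz, map_sum]
    have hinjA : Function.Injective (c.actBar (t : c.Xbar)) := fun a b e => by
      rw [← app_inv_self (σ := c.actBar) (t : c.Xbar) a, e, app_inv_self]
    refine Finset.sum_bij (fun x _ => c.actBar (t : c.Xbar) x) (fun x hx => (hperm t ht x hx).1)
      (fun a _ b _ e => hinjA e) (fun y hy => ⟨c.actBar ((t⁻¹ : P) : c.Xbar) y, (hperm t⁻¹ (inv_mem ht) y hy).1, ?_⟩)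
      fun x hx => (hperm t ht x hx).2
    rw [← app_mul, ← QuotientGroup.mk_mul, mul_inv_cancel, QuotientGroup.mk_one, app_one]
  -- the transversal edge
  obtain ⟨Ω, hΩ, a, ha, b, hb, hab, rfl⟩ := h.exists_frame hex hx₁.1
  obtain ⟨o, ho, hfix, -, -⟩ := hΩ.exists_top hex hMb hTb
  have hofix : ∀ {p q}, p ∈ Ω → q ∈ Ω → p ≠ q → tv c.actBar (p + q) ∈ c.img (T : Subgroup P) → o ≠ p ∧ o ≠ q := by
    intro p q hp hq hpq hm
    have h1 := hfix _ (by rw [c.sylowBar_coe hX]; exact hm) fun w hw => hΩ.app_mem (hΩ.edge p hp q hq hpq) hw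
    constructor
    · rintro rfl; exact hpq ((hΩ.swap_left hp hq hpq).symm.trans h1).symm
    · rintro rfl; exact hpq ((hΩ.swap_right hp hq hpq).symm.trans h1)
  obtain ⟨hoa, hob⟩ := hofix ha hb hab hx₁.2
  have hy : a + o ∈ tvSet c.actBar := hΩ.edge a ha o ho hoa.symm
  have hcomm : ∀ x ∈ s, h.f (a + b) x = 0 := fun x hx => by
    obtain ⟨hx1, hx2⟩ := hsmem.1 hx
    refine (h.f_eq_zero_iff hx₁.1).2 ?_
    obtain ⟨A', z', hz', hA', himg, -⟩ := r.lift_tv h hx1
    have hc := h.good.commute_of_le (Sylow.isPGroup' (c.sylowBar T)) (h.isTv hx₁.1).1 (h.isTv hx1).1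
      (by rw [c.sylowBar_coe hX]; exact zpowers_le.2 hx₁.2) (by rw [c.sylowBar_coe hX]; exact zpowers_le.2 hx2)
      _ (mem_zpowers _) _ (mem_zpowers _)
    obtain ⟨h1, h2, -⟩ := h.tv_app (tv c.actBar (a + b)) hx1
    have e : tv c.actBar (c.actBar (tv c.actBar (a + b)) x) = tv c.actBar x := by
      rw [h2, hc, mul_inv_cancel_right]
    obtain ⟨v, hv⟩ := h.exists_f_one h1
    have h3 := sub_mem_comS (σ := c.actBar) (mem_zpowers (tv c.actBar (c.actBar (tv c.actBar (a + b)) x))) v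
    rw [h.app_one' h1 hv, add_sub_cancel_left, e] at h3
    exact (h.mem_comS_cases hx1 h3).resolve_left (h.ne_zero h1)
  have hfy : ∀ x ∈ s, h.f (a + o) x = if x = a + b then 1 else 0 := by
    intro x hx
    obtain ⟨hx1, hx2⟩ := hsmem.1 hx
    split_ifs with e
    · rw [e]; exact hΩ.meet ha ho hb hoa.symm hab hob
    rcases hΩ.closed x hx1 with ⟨p, hp, q, hq, hpq, rfl⟩ | h0
    · obtain ⟨hop, hoq⟩ := hofix hp hq hpq hx2
      have h0 := hcomm _ hx
      have hap : a ≠ p ∧ a ≠ q := by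
        constructor
        · rintro rfl
          by_cases hbq : b = q
          · exact e (by rw [hbq])
          · rw [hΩ.meet hp hb hq hab hpq hbq] at h0; exact one_ne_zero h0
        · rintro rfl
          by_cases hbp : b = p
          · exact e (by rw [hbp, add_comm])
          · rw [add_comm p, hΩ.meet hq hb hp hab hpq.symm hbp] at h0; exact one_ne_zero h0
      rw [map_add, hΩ.eval_ne a ha o ho hoa.symm p hp hap.1.symm hop.symm,
        hΩ.eval_ne a ha o ho hoa.symm q hq hap.2.symm hoq.symm, add_zero]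
    · rw [h.symm hy hx1, map_add, h0 a ha, h0 o ho, add_zero]
  refine ⟨z, hzT, ?_⟩
  by_contra hc
  push Not at hc
  have hzV : z ∈ c.V₁ := sum_mem fun x hx => (hzf x (hsmem.1 hx).1).1
  have hclsz : ∀ t : Finset c.U, t ⊆ s → ∀ hm : (∑ x ∈ t, zf x) ∈ c.V₁,
      h.f (a + o) (c.cls hm) = ∑ x ∈ t, h.f (a + o) x := by
    intro t ht
    induction t using Finset.induction_on with
    | empty => intro hm; rw [(c.cls_eq_zero hm).2 (by simp), map_zero, Finset.sum_empty]
    | @insert x t hat iht =>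
      intro hm
      obtain ⟨hz', hcls, -⟩ := hzf x (hsmem.1 (ht (Finset.mem_insert_self x t))).1
      have hm' : (∑ y ∈ t, zf y) ∈ c.V₁ := sum_mem fun y hy =>
        (hzf y (hsmem.1 (ht (Finset.mem_insert_of_mem hy))).1).1
      have e : c.cls hm = c.cls hz' + c.cls hm' := by
        have e1 : c.cls hm = c.cls (AddSubgroup.add_mem _ hz' hm') :=
          (c.cls_eq _ _).2 (by rw [Finset.sum_insert hat, sub_self]; exact zero_mem _)
        rw [e1]; rfl
      rw [e, map_add, hcls, iht (fun y hy => ht (Finset.mem_insert_of_mem hy)) hm', Finset.sum_insert hat]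
  have h1 : h.f (a + o) (c.cls hzV) = 1 := by
    rw [hclsz s subset_rfl hzV, Finset.sum_congr rfl hfy, Finset.sum_ite_eq' s]
    exact if_pos (hsmem.2 hx₁)
  obtain ⟨g, hg⟩ := QuotientGroup.mk'_surjective c.K (tv c.actBar (a + o))
  have h2 : c.actBar (QuotientGroup.mk' c.K g) (c.cls hzV) = c.cls hzV :=
    (c.cls_eq (c.inv g z hzV) hzV).2 (by rw [hc g, sub_self]; exact zero_mem _)
  rw [hg] at h2
  rw [(h.f_eq_zero_iff hy).2 h2] at h1
  exact zero_ne_one h1

end Red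

/-- The Sylow subgroup fixes a vector moved by the group. -/
theorem exists_fixed {p : ℕ} [Fact p.Prime] (hp : ∀ v : V, p • v = 0) (hf : ∀ g : P, (∀ v, ρ g v = v) → g = 1)
    (hpm : Cfsg.IsPMinimal p P) (hcore : Cfsg.pCore p P = ⊥) (hoff : ∃ A, Off ρ p A) (T : Sylow p P) :
    ∃ z ∈ fixS ρ (T : Subgroup P), ∃ g, ρ g z ≠ z := by
  obtain ⟨c, r⟩ := exists_red hp hf hpm hcore hoff
  obtain ⟨M, ⟨hM, hTM⟩, -⟩ := (hpm T).2
  rcases r.dichotomy hM hTM with ⟨A, hA, hAT, F, iF, fF, B, o⟩ | ⟨hp2, h⟩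
  · exact r.exists_fixed_linear hM hTM hA hAT o
  · subst hp2
    exact r.exists_fixed_sym h hM hTM

end Cfsg.Agent.FFMinimal
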