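import Cfsg.Agent.Lib.FFMinimal.Transport

/-!
The field with four elements as tables, and the actions of two blocks in normal form on `F × F × F`.

* `Nrm` : two blocks with the same root elements whose shears are each other's natural parts
* `Nf` : moreover the second opposite coordinates are given by two constants
* `Nf.act_*` : the generators as functions on triples; words in them are compared by `decide`
-/

set_option autoImplicit false

namespace Cfsg.Agent.FFMinimal

open Subgroup
open RankOne (upSL loSL)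
open scoped MatrixGroups
open OffenderSL2 (fixS cj app_mul app_one app_inv_self app_self_inv)

universe u v

namespace Four

/-- Addition. -/
def ad : Fin 4 → Fin 4 → Fin 4 := ![![0, 1, 2, 3], ![1, 0, 3, 2], ![2, 3, 0, 1], ![3, 2, 1, 0]]

/-- Multiplication, `2` being a cube root of one. -/
def ml : Fin 4 → Fin 4 → Fin 4 := ![![0, 0, 0, 0], ![0, 1, 2, 3], ![0, 2, 3, 1], ![0, 3, 1, 2]]

/-- Triples: the coefficients at `lam`, `hh` and `om`. -/
abbrev Tr := Fin 4 × Fin 4 × Fin 4

/-- Addition of triples. -/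
def adT (a b : Tr) : Tr := (ad a.1 b.1, ad a.2.1 b.2.1, ad a.2.2 b.2.2)

/-- The second opposite coordinate. -/
def omT (b c z : Fin 4) : Tr := (ml b z, ml c (ml z z), ml z z)

/-- The root element. -/
def fUp (t : Fin 4) (a : Tr) : Tr := (ad a.1 (ml t a.2.2), ad a.2.1 (ml t (ml a.2.2 a.2.2)), a.2.2)

/-- The opposite root element of the first block. -/
def fLo (t : Fin 4) (a : Tr) : Tr := (a.1, ad a.2.1 (ml t (ml a.1 a.1)), ad a.2.2 (ml t a.1))

/-- The opposite root element of the second block. -/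
def fLo' (b c t : Fin 4) (a : Tr) : Tr :=
  adT (adT (adT (adT a (omT b c (ml t a.2.1))) (ml t (ml a.2.1 a.2.1), 0, 0)) (omT b c (ml t (ml c a.2.2))))
    (ml t (ml (ml c c) (ml a.2.2 a.2.2)), 0, 0)

/-- The torus of the first block. -/
def fTh (a : Tr) : Tr := (ml 2 a.1, a.2.1, ml 3 a.2.2)

/-- The torus of the second block. -/
def fTh' (b : Fin 4) (a : Tr) : Tr := (ad a.1 (ml b (ml 2 (ml a.2.2 a.2.2))), ml 2 a.2.1, ml 2 a.2.2)

variable {F : Type} [Field F]

/-- The elements of the field. -/
def emb (w : F) : Fin 4 → F := ![0, 1, w, w * w]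

variable {w : F}

@[simp] theorem emb_zero : emb w 0 = 0 := rfl
@[simp] theorem emb_one : emb w 1 = 1 := rfl
theorem emb_two : emb w 2 = w := rfl
theorem emb_three : emb w 3 = w * w := rfl

theorem emb_ad (hw : w * w = w + 1) (h2 : (2 : F) = 0) (i j : Fin 4) :
    emb w (ad i j) = emb w i + emb w j := by
  fin_cases i <;> fin_cases j <;> simp [emb, ad] <;>
    first
    | linear_combination (-1 : F) * hw
    | linear_combination hw
    | linear_combination (-1 : F) * hw - w * h2
    | linear_combination hw + w * h2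
    | linear_combination hw + h2
    | linear_combination (-1 : F) * hw - h2
    | linear_combination (-1 : F) * h2
    | linear_combination (-w) * h2
    | linear_combination (-w * w) * h2
    | linear_combination (-1 : F) * hw - (w + 1) * h2
    | linear_combination hw + (w + 1) * h2

theorem emb_ml (hw3 : w * w * w = 1) (i j : Fin 4) : emb w (ml i j) = emb w i * emb w j := by
  fin_cases i <;> fin_cases j <;> simp [emb, ml] <;>
    first
    | linear_combination (-1 : F) * hw3
    | linear_combination (-w) * hw3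
    | linear_combination hw3
    | ring

theorem emb_injective (hw : w * w = w + 1) (h2 : (2 : F) = 0) (hw3 : w * w * w = 1) :
    Function.Injective (emb w) := by
  have h0 : w ≠ 0 := fun e => one_ne_zero (α := F) (by rw [← hw3, e, mul_zero])
  have h1 : w ≠ 1 := fun e => one_ne_zero (α := F) (by rw [e] at hw; linear_combination -hw)
  have hne : ∀ k : Fin 4, emb w k = 0 → k = 0 := by
    intro k
    fin_cases k <;> simp [emb, h0]
  intro i j e
  have h := hne (ad i j) (by rw [emb_ad hw h2, e, ← two_mul, h2, zero_mul])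
  revert h
  clear e
  revert i j
  decide

theorem emb_surjective [Finite F] (h4 : Nat.card F = 4) (hw : w * w = w + 1) (h2 : (2 : F) = 0)
    (hw3 : w * w * w = 1) : Function.Surjective (emb w) :=
  ((Nat.bijective_iff_injective_and_card _).2
    ⟨emb_injective hw h2 hw3, by rw [h4, Nat.card_fin]⟩).2

end Four

variable {P : Type u} [Group P] {V : Type v} [AddCommGroup V] {σ : P →* AddMonoid.End V}
  {F : Type} [Field F] {A : Subgroup P}

/-- Two blocks with the same root elements whose shears are each other's natural parts. -/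
structure Nrm (B B' : Block σ F A) : Prop where
  up_eq : ∀ t, B'.up t = B.up t
  lam_eq : ∀ x, B'.lam x = B.hh x
  hh_eq : ∀ x, B'.hh x = B.lam x
  inj : Function.Injective B.hh
  two : ∀ v : V, v + v = 0
  faith : ∀ g : P, (∀ v, σ g v = v) → g = 1
  hkill : ∀ u : P, (∀ v ∈ fixS σ A, σ u v = v) → (∀ v, σ u v - v ∈ fixS σ A) → u ∈ A

namespace Nrm

variable {B B' : Block σ F A} (h : Nrm B B')

include h in
theorem neg_eq (v : V) : -v = v := neg_eq_of_add_eq_zero_left (h.two v)

include h in
theorem sub_eq (v v' : V) : v - v' = v + v' := by rw [sub_eq_add_neg, h.neg_eq]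

include h in
theorem hh_mem' (x : F) : B.lam x ∈ B'.C := h.hh_eq x ▸ B'.hh_mem x

include h in
theorem decomp (v : V) : ∃ k, k ∈ B.C ∧ k ∈ B'.C ∧ ∃ x z y, v = k + B.lam x + B.hh z + B.om y := by
  obtain ⟨c, hc, x, y, rfl⟩ := B.decomp v
  obtain ⟨c', hc', z, hz⟩ := B'.mem_fix_A.1 (B.C_le_fix hc)
  rw [h.lam_eq] at hz
  refine ⟨c', ?_, hc', x, z, y, by rw [hz]; abel⟩
  rw [show c' = c - B.hh z by rw [hz]; abel]
  exact sub_mem hc (B.hh_mem z)

include h in
theorem indep {k : V} (hk : k ∈ B.C) (hk' : k ∈ B'.C) {x z y : F}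
    (e : k + B.lam x + B.hh z + B.om y = 0) : k = 0 ∧ x = 0 ∧ z = 0 ∧ y = 0 := by
  obtain ⟨hx, hy⟩ := B.indep (k + B.hh z) (add_mem hk (B.hh_mem z)) x y (by rw [← e]; abel)
  subst hx hy
  rw [map_zero, map_zero, add_zero, add_zero] at e
  have hz := (B'.indep k hk' z 0 (by rw [h.lam_eq, map_zero, add_zero, e])).1
  subst hz
  rw [map_zero, add_zero] at e
  exact ⟨e, rfl, rfl, rfl⟩

end Nrm

/-- Normal form with constants. -/
structure Nf (B B' : Block σ F A) (b c : F) : Prop extends Nrm B B' where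
  om_eq : ∀ y, B'.om (y * y) = B.om y + B.lam (b * (y * y)) + B.hh (c * y)

namespace Nf

open Four

variable {B B' : Block σ F A} {w : F} {b c : Fin 4}

/-- The vector of a triple. -/
def vec (B : Block σ F A) (w : F) (a : Tr) : V :=
  B.lam (emb w a.1) + B.hh (emb w a.2.1) + B.om (emb w a.2.2)

/-- `g` fixes the common fixed points and acts by `f`. -/
def Acts (B B' : Block σ F A) (w : F) (g : P) (f : Tr → Tr) : Prop :=
  (∀ k, k ∈ B.C → k ∈ B'.C → σ g k = k) ∧ ∀ a, σ g (vec B w a) = vec B w (f a)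

theorem Acts.mul {g g' : P} {f f' : Tr → Tr} (h : Acts B B' w g f) (h' : Acts B B' w g' f') :
    Acts B B' w (g * g') (f ∘ f') :=
  ⟨fun k hk hk' => by rw [app_mul, h'.1 k hk hk', h.1 k hk hk'],
    fun a => by rw [app_mul, h'.2, h.2]; rfl⟩

variable (hw : w * w = w + 1) (h2 : (2 : F) = 0) (hw3 : w * w * w = 1) (hpow : ∀ x : F, x * x * x * x = x)
  (h : Nf B B' (emb w b) (emb w c))

include hw h2 in
theorem vec_adT (a a' : Tr) : vec B w (adT a a') = vec B w a + vec B w a' := by
  simp only [vec, adT, emb_ad hw h2, map_add]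
  abel

include hw3 hpow h in
theorem vec_omT (z : Fin 4) : vec B w (omT b c z) = B'.om (emb w z) := by
  have e := h.om_eq (emb w z * emb w z)
  rw [show emb w z * emb w z * (emb w z * emb w z) = emb w z by rw [← mul_assoc]; exact hpow _] at e
  rw [e]
  simp only [vec, omT, emb_ml hw3]
  abel

theorem vec_lam (i : Fin 4) : vec B w (i, 0, 0) = B.lam (emb w i) := by simp [vec]

include hw h2 hw3 in
theorem act_up (t : Fin 4) : Acts B B' w (B.up (emb w t)) (fUp t) := by
  refine ⟨fun k hk _ => B.app_up_C hk _, fun a => ?_⟩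
  simp only [vec, fUp, map_add, emb_ad hw h2, emb_ml hw3]
  rw [B.app_up_C (B.hh_mem _), Block.up, B.up_lam, B.up_om]
  rw [mul_assoc (emb w t)]
  abel

include hw h2 hw3 h in
theorem act_lo (t : Fin 4) : Acts B B' w (B.lo (emb w t)) (fLo t) := by
  refine ⟨fun k hk _ => B.fix_C _ k hk, fun a => ?_⟩
  simp only [vec, fLo, map_add, emb_ad hw h2, emb_ml hw3]
  rw [B.lo_lam, B.lo_om, show σ (B.lo (emb w t)) (B.hh (emb w a.2.1)) = B.hh (emb w a.2.1) from
    B.fix_C _ _ (B.hh_mem _), map_neg B.hh, h.neg_eq, mul_assoc (emb w t)]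
  abel

include hw h2 hw3 hpow h in
theorem act_lo' (t : Fin 4) : Acts B B' w (B'.lo (emb w t)) (fLo' b c t) := by
  refine ⟨fun k _ hk => B'.fix_C _ k hk, fun a => ?_⟩
  rw [fLo', vec_adT hw h2, vec_adT hw h2, vec_adT hw h2, vec_adT hw h2, vec_omT hw3 hpow h,
    vec_omT hw3 hpow h, vec_lam, vec_lam]
  simp only [emb_ml hw3]
  have hlam : ∀ x, σ (B'.lo (emb w t)) (B.lam x) = B.lam x := fun x =>
    B'.fix_C _ _ (h.hh_mem' x)
  have hhh : ∀ x, σ (B'.lo (emb w t)) (B.hh x) = B.hh x + B'.om (emb w t * x) + B.lam (emb w t * x * x) := fun x => by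
    rw [← h.lam_eq, B'.lo_lam, h.hh_eq, map_neg, h.neg_eq]
  set y := emb w a.2.2
  have hy : B.om y = B'.om (y * y) + B.lam (emb w b * (y * y)) + B.hh (emb w c * y) := by
    rw [h.om_eq y, show B.om y + B.lam (emb w b * (y * y)) + B.hh (emb w c * y) + B.lam (emb w b * (y * y)) +
      B.hh (emb w c * y) = B.om y + (B.lam (emb w b * (y * y)) + B.lam (emb w b * (y * y))) +
      (B.hh (emb w c * y) + B.hh (emb w c * y)) by abel, h.two, h.two, add_zero, add_zero]
  rw [vec, map_add, map_add, hlam, hhh, show σ (B'.lo (emb w t)) (B.om y) = B.om y + B'.om (emb w t * (emb w c * y)) +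
    B.lam (emb w t * (emb w c * y) * (emb w c * y)) by
      conv_lhs => rw [hy]
      rw [map_add, map_add, B'.lo_om, hlam, hhh, hy]
      abel]
  rw [show emb w t * (emb w c * y) * (emb w c * y) = emb w t * (emb w c * emb w c * (y * y)) by ring,
    mul_assoc (emb w t) (emb w a.2.1)]
  abel

include hw3 in
theorem act_th {s : Fˣ} (hs : (s : F) = w) : Acts B B' w (B.dg s) fTh := by
  refine ⟨fun k hk _ => B.fix_C _ k hk, fun a => ?_⟩
  have hsi : ((s⁻¹ : Fˣ) : F) = w * w := by
    rw [Units.val_inv_eq_inv_val, hs]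
    exact inv_eq_of_mul_eq_one_right (by linear_combination hw3)
  simp only [vec, fTh, map_add, emb_ml hw3]
  rw [B.app_dg_lam, B.app_dg_om, B.app_dg_C _ (B.hh_mem _), hs, hsi]
  rfl

include hw h2 hw3 h hpow in
theorem act_th' {s : Fˣ} (hs : (s : F) = w) : Acts B B' w (B'.dg s) (fTh' b) := by
  refine ⟨fun k _ hk => B'.fix_C _ k hk, fun a => ?_⟩
  have hsi : ((s⁻¹ : Fˣ) : F) = w * w := by
    rw [Units.val_inv_eq_inv_val, hs]
    exact inv_eq_of_mul_eq_one_right (by linear_combination hw3)
  have hlam : ∀ x, σ (B'.dg s) (B.lam x) = B.lam x := fun x => B'.fix_C _ _ (h.hh_mem' x)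
  have hhh : ∀ x, σ (B'.dg s) (B.hh x) = B.hh (w * x) := fun x => by
    rw [← h.lam_eq, B'.app_dg_lam, h.lam_eq, hs]
  simp only [vec, fTh', map_add, emb_ad hw h2, emb_ml hw3, emb_two]
  set y := emb w a.2.2
  have e1 := congrArg (σ (B'.dg s)) (h.om_eq y)
  rw [B'.app_dg_om, map_add, map_add, hlam, hhh, hsi,
    show w * w * (y * y) = w * y * (w * y) by ring, h.om_eq] at e1
  rw [hlam, hhh]
  have e2 : σ (B'.dg s) (B.om y) = B.om (w * y) + B.lam (emb w b * (w * y * (w * y))) +
      B.lam (emb w b * (y * y)) := by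
    have e3 := congrArg (fun v => v + B.lam (emb w b * (y * y)) + B.hh (w * (emb w c * y))) e1
    rw [show emb w c * (w * y) = w * (emb w c * y) by ring] at e3
    calc _ = σ (B'.dg s) (B.om y) + (B.lam (emb w b * (y * y)) + B.lam (emb w b * (y * y))) +
          (B.hh (w * (emb w c * y)) + B.hh (w * (emb w c * y))) := by rw [h.two, h.two, add_zero, add_zero]
      _ = B.om (w * y) + B.lam (emb w b * (w * y * (w * y))) + B.lam (emb w b * (y * y)) +
          (B.hh (w * (emb w c * y)) + B.hh (w * (emb w c * y))) := by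
        rw [← sub_eq_zero] at e3 ⊢
        rw [← neg_eq_zero, ← e3]
        abel
      _ = _ := by rw [h.two, add_zero]
  rw [e2, show emb w b * (w * (y * y)) = emb w b * (w * y * (w * y)) + emb w b * (y * y) by
    linear_combination (-(emb w b * (y * y))) * hw - (emb w b * (y * y)) * h2, map_add]
  abel

include hw h2 hw3 h in
theorem vec_injective : Function.Injective (vec B w) := by
  intro a a' e
  have h0 : (0 : V) + B.lam (emb w a.1 + emb w a'.1) + B.hh (emb w a.2.1 + emb w a'.2.1) +
      B.om (emb w a.2.2 + emb w a'.2.2) = 0 := by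
    have e0 : vec B w a + vec B w a' = 0 := by rw [e, h.two]
    rw [map_add, map_add, map_add, zero_add, ← e0]
    simp only [vec]
    abel
  obtain ⟨-, h1, h3, h4⟩ := h.indep (zero_mem _) (zero_mem _) h0
  have key : ∀ i j : Fin 4, emb w i + emb w j = 0 → i = j := fun i j e =>
    emb_injective hw h2 hw3 (by linear_combination e - emb w j * h2)
  exact Prod.ext (key _ _ h1) (Prod.ext (key _ _ h3) (key _ _ h4))

end Nf

end Cfsg.Agent.FFMinimal
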