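import Cfsg.Agent.Lib.FFMinimal.Transv

/-!
The components of transvections are symmetric groups of odd degree.

* `Edge`, `TCtx.Frame` : the points of a component, their pairwise sums are the vectors of the transvections
* `TCtx.exists_frame` : every vector is a sum of two points of a frame
* `TCtx.Frame.unique` : the component determines the frame
* `TCtx.Frame.exists_top` : one point is fixed in `T`, the transvections at it lie outside `M`, `T` permutes
  the other points transitively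
-/

set_option autoImplicit false

namespace Cfsg.Agent.FFMinimal

open Subgroup
open OffenderSL2 (fixS cj app_mul app_one app_inv_self app_self_inv fix_le fix_sup mem_fix_cj apply_mem_fix_cj mem_cj cj_cj)

universe u v

variable {P : Type u} [Group P] {V : Type v} [AddCommGroup V] {σ : P →* AddMonoid.End V}

/-- A sum of two different points. -/
def Edge (Ω : Finset V) (x : V) : Prop := ∃ u ∈ Ω, ∃ v ∈ Ω, u ≠ v ∧ x = u + v

namespace TCtx

variable [Finite P] [Finite V] (h : TCtx σ)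

/-- A set of vectors pairwise not orthogonal, none the sum of two others. -/
structure Star (s : Finset V) : Prop where
  mem : ∀ x ∈ s, x ∈ tvSet σ
  pair : ∀ x ∈ s, ∀ y ∈ s, x ≠ y → h.f x y = 1
  three : ∀ x ∈ s, ∀ y ∈ s, x ≠ y → x + y ∉ s

/-- The points of a component. -/
structure Frame (Ω : Finset V) : Prop where
  odd : Odd Ω.card
  three : 3 ≤ Ω.card
  sum : ∑ w ∈ Ω, w = 0
  edge : ∀ u ∈ Ω, ∀ v ∈ Ω, u ≠ v → u + v ∈ tvSet σ
  eval_left : ∀ u ∈ Ω, ∀ v ∈ Ω, u ≠ v → h.f (u + v) u = 1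
  eval_ne : ∀ u ∈ Ω, ∀ v ∈ Ω, u ≠ v → ∀ w ∈ Ω, w ≠ u → w ≠ v → h.f (u + v) w = 0
  closed : ∀ x ∈ tvSet σ, Edge Ω x ∨ ∀ w ∈ Ω, h.f x w = 0

include h

theorem eq_zero_of_orth (hex : ∃ A, MinOff σ 2 A) {r : V} (hr : ∀ x ∈ tvSet σ, h.f x r = 0) : r = 0 := by
  let W : AddSubgroup V :=
    { carrier := {v | ∀ x ∈ tvSet σ, h.f x v = 0}
      zero_mem' := fun x _ => map_zero _
      add_mem' := fun {a b} ha hb x hx => by rw [map_add, ha x hx, hb x hx, add_zero]
      neg_mem' := fun {a} ha x hx => by rw [map_neg, ha x hx, neg_zero] }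
  refine AddSubgroup.mem_bot.1 (((h.ctx.irr W fun g v hv x hx => ?_).resolve_right fun e => ?_).le
    (show r ∈ W from hr))
  · obtain ⟨h1, -, h3⟩ := h.tv_app g⁻¹ hx
    have := hv _ h1
    rwa [h3, inv_inv] at this
  · obtain ⟨A, hA⟩ := hex
    obtain ⟨t, x, -, ht⟩ := h.exists_of_minOff hA
    obtain ⟨v, hv⟩ := h.exists_f_one (x := x) ⟨t, ht⟩
    exact zero_ne_one ((e.ge (AddSubgroup.mem_top v) x ⟨t, ht⟩).symm.trans hv)

theorem exists_f_one_mem (hex : ∃ A, MinOff σ 2 A) {x : V} (hx : x ∈ tvSet σ) :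
    ∃ y ∈ tvSet σ, h.f x y = 1 := by
  by_contra hc
  push Not at hc
  exact h.ne_zero hx (h.eq_zero_of_orth hex fun y hy => by
    rw [← h.symm hx hy]; exact (zmod_two_cases _).resolve_right (hc y hy))

namespace Star

variable {h} {s : Finset V} (hs : h.Star s)
include hs

omit hs in
theorem two_self (a : ZMod 2) : a + a = 0 := by revert a; decide

theorem sum_eval {u : V} (hu : u ∈ s) : h.f u (∑ w ∈ s, w) = ((s.card - 1 : ℕ) : ZMod 2) := by
  classical
  rw [map_sum, ← Finset.add_sum_erase _ _ hu, h.f_self (hs.mem u hu), zero_add,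
    Finset.sum_congr rfl (g := fun _ => (1 : ZMod 2)) (fun w hw => hs.pair u hu w (Finset.mem_of_mem_erase hw)
      (Finset.ne_of_mem_erase hw).symm), Finset.sum_const, Finset.card_erase_of_mem hu, nsmul_eq_mul, mul_one]

theorem ne_four {a b c d : V} (ha : a ∈ s) (hb : b ∈ s) (hc : c ∈ s) (hd : d ∈ s) (hab : a ≠ b) (hac : a ≠ c)
    (had : a ≠ d) : a + b ≠ c + d := fun e => by
  have := congrArg (h.f a) e
  rw [map_add, map_add, h.f_self (hs.mem a ha), hs.pair a ha b hb hab, hs.pair a ha c hc hac,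
    hs.pair a ha d hd had] at this
  exact absurd this (by decide)

/-- An odd subset has the sum of commuting vectors. -/
theorem exists_matching (t : Finset V) (ht : t ⊆ s) (hodd : Odd t.card) :
    ∃ D : Finset V, D.Nonempty ∧ (∀ d ∈ D, d ∈ tvSet σ) ∧ (∀ d ∈ D, ∀ d' ∈ D, h.f d d' = 0) ∧
      ∑ d ∈ D, d = ∑ d ∈ t, d ∧ ∀ d ∈ D, d ∈ t ∨ Edge t d := by
  classical
  induction hn : t.card using Nat.strong_induction_on generalizing t with
  | _ n ih =>
  by_cases h1 : t.card = 1
  · obtain ⟨a, rfl⟩ := Finset.card_eq_one.1 h1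
    refine ⟨{a}, Finset.singleton_nonempty a, fun d hd => ?_, fun d hd d' hd' => ?_, rfl, fun d hd => Or.inl hd⟩
    · exact hs.mem d (ht hd)
    · rw [Finset.mem_singleton.1 hd, Finset.mem_singleton.1 hd']
      exact h.f_self (hs.mem a (ht (Finset.mem_singleton_self a)))
  obtain ⟨j, hj⟩ := hodd
  obtain ⟨a, ha, b, hb, hab⟩ := Finset.one_lt_card.1 (show 1 < t.card by omega)
  set t' := (t.erase a).erase b with ht'
  have hb' : b ∈ t.erase a := Finset.mem_erase.2 ⟨hab.symm, hb⟩
  have hcard : t'.card = t.card - 2 := by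
    rw [ht', Finset.card_erase_of_mem hb', Finset.card_erase_of_mem ha]; omega
  have hsub : ∀ {c}, c ∈ t' → c ∈ t ∧ c ≠ a ∧ c ≠ b := fun hc => by
    simp only [ht', Finset.mem_erase] at hc
    exact ⟨hc.2.2, hc.2.1, hc.1⟩
  obtain ⟨D, hne, hD, ho, hsum, hform⟩ := ih t'.card (by omega) t' (fun c hc => ht (hsub hc).1)
    ⟨j - 1, by omega⟩ rfl
  have hab1 : h.f a b = 1 := hs.pair a (ht ha) b (ht hb) hab
  have habX : a + b ∈ tvSet σ := h.add_mem (hs.mem a (ht ha)) (hs.mem b (ht hb)) hab1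
  have hz : ∀ c ∈ t', h.f (a + b) c = 0 := fun c hc => by
    obtain ⟨hc1, hca, hcb⟩ := hsub hc
    rw [h.f_add (hs.mem a (ht ha)) (hs.mem b (ht hb)) hab1, hs.pair a (ht ha) c (ht hc1) hca.symm,
      hs.pair b (ht hb) c (ht hc1) hcb.symm]
    decide
  have hzd : ∀ d ∈ D, h.f (a + b) d = 0 := fun d hd => by
    rcases hform d hd with hd' | ⟨c, hc, c', hc', -, rfl⟩
    · exact hz d hd'
    · rw [map_add, hz c hc, hz c' hc', add_zero]
  have hnot : a + b ∉ D := fun hd => by
    rcases hform _ hd with hd' | ⟨c, hc, c', hc', -, e⟩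
    · exact hs.three a (ht ha) b (ht hb) hab (ht (hsub hd').1)
    · exact hs.ne_four (ht ha) (ht hb) (ht (hsub hc).1) (ht (hsub hc').1) hab (hsub hc).2.1.symm
        (hsub hc').2.1.symm e
  refine ⟨insert (a + b) D, Finset.insert_nonempty _ _, fun d hd => ?_, fun d hd d' hd' => ?_, ?_, fun d hd => ?_⟩
  · rcases Finset.mem_insert.1 hd with rfl | hd
    exacts [habX, hD d hd]
  · rcases Finset.mem_insert.1 hd with rfl | hd <;> rcases Finset.mem_insert.1 hd' with rfl | hd'
    · exact h.f_self habX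
    · exact hzd d' hd'
    · rw [h.symm (hD d hd) habX]; exact hzd d hd
    · exact ho d hd d' hd'
  · rw [Finset.sum_insert hnot, hsum, ← Finset.add_sum_erase t _ ha, ← Finset.add_sum_erase _ _ hb', add_assoc]
  · rcases Finset.mem_insert.1 hd with rfl | hd
    · exact Or.inr ⟨a, ha, b, hb, hab, rfl⟩
    · rcases hform d hd with hd' | ⟨c, hc, c', hc', hne', e⟩
      · exact Or.inl (hsub hd').1
      · exact Or.inr ⟨c, (hsub hc).1, c', (hsub hc').1, hne', e⟩

/-- A maximal star sees only its own edges. -/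
theorem cases_of_max (hmax : ∀ s', h.Star s' → s ⊆ s' → s' = s) {z : V} (hz : z ∈ tvSet σ) :
    (z ∈ s ∨ Edge s z) ∨ ∀ u ∈ s, h.f z u = 0 := by
  classical
  have hext : ∀ w ∈ tvSet σ, (∀ u ∈ s, h.f w u = 1) → w ∈ s ∨ Edge s w := by
    intro w hw hw1
    by_contra hc
    push Not at hc
    refine hc.1 ((hmax (insert w s) ?_ (Finset.subset_insert w s)) ▸ Finset.mem_insert_self w s)
    refine ⟨fun x hx => ?_, fun x hx y hy hxy => ?_, fun x hx y hy hxy hmem => ?_⟩
    · rcases Finset.mem_insert.1 hx with rfl | hx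
      exacts [hw, hs.mem x hx]
    · rcases Finset.mem_insert.1 hx with rfl | hx' <;> rcases Finset.mem_insert.1 hy with rfl | hy'
      · exact absurd rfl hxy
      · exact hw1 y hy'
      · rw [h.symm (hs.mem x hx') hw]; exact hw1 x hx'
      · exact hs.pair x hx' y hy' hxy
    · rcases Finset.mem_insert.1 hmem with e | e
      · rcases Finset.mem_insert.1 hx with rfl | hx'
        · rcases Finset.mem_insert.1 hy with rfl | hy'
          · exact hxy rfl
          · exact h.ne_zero (hs.mem y hy') (add_eq_left.1 e)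
        · rcases Finset.mem_insert.1 hy with rfl | hy'
          · exact h.ne_zero (hs.mem x hx') (add_eq_right.1 e)
          · exact hc.2 ⟨x, hx', y, hy', hxy, e.symm⟩
      · rcases Finset.mem_insert.1 hx with rfl | hx'
        · rcases Finset.mem_insert.1 hy with rfl | hy'
          · exact hxy rfl
          · exact hc.2 ⟨x + y, e, y, hy', fun e' => h.ne_zero hw (add_eq_right.1 e'),
              (h.add_self_cancel x y).symm⟩
        · rcases Finset.mem_insert.1 hy with rfl | hy'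
          · exact hc.2 ⟨x + y, e, x, hx', fun e' => h.ne_zero hw (add_eq_left.1 e'), by
              rw [add_comm x y, h.add_self_cancel]⟩
          · exact hs.three x hx' y hy' hxy e
  set Q := s.filter fun u => h.f z u = 1 with hQdef
  have hQ : ∀ {u}, u ∈ Q ↔ u ∈ s ∧ h.f z u = 1 := fun {u} => by simp [hQdef]
  rcases Finset.eq_empty_or_nonempty Q with hQ0 | ⟨a, haQ⟩
  · exact Or.inr fun u hu => (zmod_two_cases _).resolve_right fun e => by simpa [hQ0] using hQ.2 ⟨hu, e⟩
  left
  obtain ⟨ha, hza⟩ := hQ.1 haQ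
  by_cases hone : ∃ b ∈ Q, b ≠ a
  · obtain ⟨b, hbQ, hba⟩ := hone
    obtain ⟨hb, hzb⟩ := hQ.1 hbQ
    by_cases hall : ∀ u ∈ s, h.f z u = 1
    · exact hext z hz hall
    push Not at hall
    obtain ⟨q, hq, hzq'⟩ := hall
    have hzq : h.f z q = 0 := (zmod_two_cases _).resolve_right hzq'
    by_contra hc
    push Not at hc
    have hqa : q ≠ a := fun e => hzq' (by rw [e]; exact hza)
    have hqb : q ≠ b := fun e => hzq' (by rw [e]; exact hzb)
    have haX := hs.mem a ha
    have hbX := hs.mem b hb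
    have hqX := hs.mem q hq
    have fab : h.f a b = 1 := hs.pair a ha b hb hba.symm
    have faq : h.f a q = 1 := hs.pair a ha q hq hqa.symm
    have fbq : h.f b q = 1 := hs.pair b hb q hq hqb.symm
    have fba : h.f b a = 1 := by rw [h.symm hbX haX, fab]
    have fqa : h.f q a = 1 := by rw [h.symm hqX haX, faq]
    have fqb : h.f q b = 1 := by rw [h.symm hqX hbX, fbq]
    have faz : h.f a z = 1 := by rw [h.symm haX hz, hza]
    have fbz : h.f b z = 1 := by rw [h.symm hbX hz, hzb]
    have fqz : h.f q z = 0 := by rw [h.symm hqX hz, hzq]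
    have x1 : z + a ∈ tvSet σ := h.add_mem hz haX hza
    have x2 : b + q ∈ tvSet σ := h.add_mem hbX hqX fbq
    have x3 : a + b ∈ tvSet σ := h.add_mem haX hbX fab
    have e12 : h.f (z + a) (b + q) = 1 := by
      rw [h.f_add hz haX hza, map_add, map_add, hzb, hzq, fab, faq]; decide
    have x4 : z + a + (b + q) ∈ tvSet σ := h.add_mem x1 x2 e12
    set w := z + a + (b + q) with hw
    have f4 : ∀ v, h.f w v = h.f z v + h.f a v + (h.f b v + h.f q v) := fun v => by
      rw [hw, h.f_add x1 x2 e12, h.f_add hz haX hza, h.f_add hbX hqX fbq]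
    have f3 : ∀ v, h.f (a + b) v = h.f a v + h.f b v := h.f_add haX hbX fab
    have wz : h.f w z = 0 := by rw [f4, h.f_self hz, faz, fbz, fqz]; decide
    have w3 : h.f w (a + b) = 0 := by
      rw [f4, map_add, map_add, map_add, map_add, hza, hzb, h.f_self haX, fab, fba, h.f_self hbX, fqa, fqb]; decide
    have wq : h.f w q = 0 := by rw [f4, hzq, faq, fbq, h.f_self hqX]; decide
    have z3 : h.f (a + b) z = 0 := by rw [f3, faz, fbz]; decide
    have q3 : h.f (a + b) q = 0 := by rw [f3, faq, fbq]; decide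
    have n1 : z ≠ a + b := fun e => hc.2 ⟨a, ha, b, hb, hba.symm, e⟩
    have n2 : z ≠ q := fun e => hc.1 (e ▸ hq)
    have n3 : q ≠ a + b := fun e => hs.three a ha b hb hba.symm (e ▸ hq)
    have n4 : w ≠ z := fun e => by
      have : a + (b + q) = 0 := by rwa [hw, add_assoc, add_eq_left] at e
      rw [← add_assoc, add_eq_zero_iff_eq_neg, h.neg_eq] at this
      exact n3 this.symm
    have n5 : w ≠ a + b := fun e => n2 (by
      rw [hw, show z + a + (b + q) = (a + b) + (z + q) by abel, add_eq_left, add_eq_zero_iff_eq_neg, h.neg_eq] at e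
      exact e)
    have n6 : w ≠ q := fun e => n1 (by
      rw [hw, show z + a + (b + q) = (z + (a + b)) + q by abel, add_eq_right, add_eq_zero_iff_eq_neg, h.neg_eq] at e
      exact e)
    refine h.indep {z, a + b, q, w} ?_ ?_ (Finset.insert_nonempty _ _) ?_
    · intro v hv
      simp only [Finset.mem_insert, Finset.mem_singleton] at hv
      rcases hv with rfl | rfl | rfl | rfl
      exacts [hz, x3, hqX, x4]
    · intro v hv v' hv'
      simp only [Finset.mem_insert, Finset.mem_singleton] at hv hv'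
      rcases hv with rfl | rfl | rfl | rfl <;> rcases hv' with rfl | rfl | rfl | rfl
      exacts [h.f_self hz, by rw [h.symm hz x3, z3], hzq, by rw [h.symm hz x4, wz],
        z3, h.f_self x3, q3, by rw [h.symm x3 x4, w3],
        fqz, by rw [h.symm hqX x3, q3], h.f_self hqX, by rw [h.symm hqX x4, wq],
        wz, w3, wq, h.f_self x4]
    · rw [Finset.sum_insert (by simp [n1, n2, n4.symm]), Finset.sum_insert (by simp [n3.symm, n5.symm]),
        Finset.sum_insert (by simp [n6.symm]), Finset.sum_singleton, hw,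
        show z + (a + b + (q + (z + a + (b + q)))) = (z + z) + (a + a) + (b + b) + (q + q) by abel,
        h.two z, h.two a, h.two b, h.two q, add_zero, add_zero, add_zero]
  · push Not at hone
    have hzu : ∀ u ∈ s, u ≠ a → h.f z u = 0 := fun u hu hne =>
      (zmod_two_cases _).resolve_right fun e => hne (hone u (hQ.2 ⟨hu, e⟩))
    have hwX : z + a ∈ tvSet σ := h.add_mem hz (hs.mem a ha) hza
    have hw1 : ∀ u ∈ s, h.f (z + a) u = 1 := fun u hu => by
      rw [h.f_add hz (hs.mem a ha) hza]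
      by_cases e : u = a
      · rw [e, hza, h.f_self (hs.mem a ha), add_zero]
      · rw [hzu u hu e, hs.pair a ha u hu (Ne.symm e), zero_add]
    rcases hext _ hwX hw1 with hw | ⟨u, hu, v, hv, huv, e⟩
    · refine Or.inr ⟨z + a, hw, a, ha, fun e => h.ne_zero hz (add_eq_right.1 e), ?_⟩
      rw [h.add_self_cancel]
    · have hno : ∀ r ∈ s, r = u ∨ r = v := fun r hr => by
        by_contra hc
        push Not at hc
        have h1 := hw1 r hr
        rw [e, h.f_add (hs.mem u hu) (hs.mem v hv) (hs.pair u hu v hv huv), hs.pair u hu r hr hc.1.symm,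
          hs.pair v hv r hr hc.2.symm] at h1
        exact absurd h1 (by decide)
      left
      rcases hno a ha with rfl | rfl
      · rw [← h.add_self_cancel z a, e, add_right_comm, h.two, zero_add]; exact hv
      · rw [← h.add_self_cancel z a, e, h.add_self_cancel]; exact hu

end Star

/-- Every vector is an edge of a frame. -/
theorem exists_frame (hex : ∃ A, MinOff σ 2 A) {x : V} (hx : x ∈ tvSet σ) :
    ∃ Ω : Finset V, h.Frame Ω ∧ Edge Ω x := by
  classical
  haveI := Fintype.ofFinite V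
  obtain ⟨y, hy, hxy⟩ := h.exists_f_one_mem hex hx
  have hne : x ≠ y := fun e => by
    rw [← e, h.f_self hx] at hxy
    exact zero_ne_one hxy
  have h0 : h.Star {x, y} := by
    refine ⟨fun v hv => ?_, fun a ha b hb hab => ?_, fun a ha b hb hab hmem => ?_⟩
    · simp only [Finset.mem_insert, Finset.mem_singleton] at hv
      rcases hv with rfl | rfl
      exacts [hx, hy]
    · simp only [Finset.mem_insert, Finset.mem_singleton] at ha hb
      rcases ha with rfl | rfl <;> rcases hb with rfl | rfl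
      exacts [absurd rfl hab, hxy, by rw [h.symm hy hx, hxy], absurd rfl hab]
    · simp only [Finset.mem_insert, Finset.mem_singleton] at ha hb hmem
      rcases ha with rfl | rfl <;> rcases hb with rfl | rfl <;> rcases hmem with e | e <;>
        first
        | exact hab rfl
        | exact h.ne_zero hy (add_eq_left.1 e)
        | exact h.ne_zero hx (add_eq_left.1 e)
        | exact h.ne_zero hy (add_eq_right.1 e)
        | exact h.ne_zero hx (add_eq_right.1 e)
  obtain ⟨s, ⟨hs, hsub⟩, hmax'⟩ := (Set.toFinite {s : Finset V | h.Star s ∧ {x, y} ⊆ s}).exists_maximalFor id _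
    ⟨_, h0, subset_rfl⟩
  have hmax : ∀ s', h.Star s' → s ⊆ s' → s' = s := fun s' hs' hle =>
    le_antisymm (hmax' ⟨hs', hsub.trans hle⟩ hle) hle
  have hxs : x ∈ s := hsub (by simp)
  have htwo : 2 ≤ s.card := Finset.card_pair hne ▸ Finset.card_le_card hsub
  set r := ∑ w ∈ s, w with hr
  rcases Nat.even_or_odd s.card with hev | hodd
  · obtain ⟨j, hj⟩ := hev
    have hur : ∀ u ∈ s, h.f u r = 1 := fun u hu => by
      rw [hr, hs.sum_eval hu, show s.card - 1 = 2 * (j - 1) + 1 by omega, Nat.cast_add, Nat.cast_mul]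
      rw [show ((2 : ℕ) : ZMod 2) = 0 from rfl, zero_mul, zero_add, Nat.cast_one]
    set Ω := insert r (s.image fun u => r + u) with hΩ
    have hr' : r ∉ s.image fun u => r + u := fun hm => by
      obtain ⟨u, hu, e⟩ := Finset.mem_image.1 hm
      exact h.ne_zero (hs.mem u hu) (add_eq_left.1 e)
    have hinj : Set.InjOn (fun u => r + u) ↑s := fun a _ b _ e => add_left_cancel e
    have hcard : Ω.card = s.card + 1 := by
      rw [hΩ, Finset.card_insert_of_notMem hr', Finset.card_image_of_injOn hinj]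
    have hmem : ∀ {w}, w ∈ Ω ↔ w = r ∨ ∃ u ∈ s, r + u = w := fun {w} => by
      rw [hΩ, Finset.mem_insert, Finset.mem_image]
    have hedge : ∀ {u v}, u ∈ s → v ∈ s → r + u + (r + v) = u + v := fun {u v} _ _ => by
      rw [add_add_add_comm, h.two, zero_add]
    have e1 : ∀ {u}, r + (r + u) = u := fun {u} => by rw [← add_assoc, h.two, zero_add]
    have e1' : ∀ {u}, r + u + r = u := fun {u} => by rw [add_comm, e1]
    refine ⟨Ω, ⟨⟨j, by omega⟩, by omega, ?_, ?_, ?_, ?_, ?_⟩, ⟨r, hmem.2 (Or.inl rfl), r + x,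
      hmem.2 (Or.inr ⟨x, hxs, rfl⟩), fun e => h.ne_zero hx (left_eq_add.1 e), e1.symm⟩⟩
    · rw [hΩ, Finset.sum_insert hr', Finset.sum_image hinj, Finset.sum_add_distrib, Finset.sum_const, ← hr, hj,
        ← two_mul, mul_comm, mul_nsmul', two_nsmul, h.two, nsmul_zero, zero_add, h.two]
    · intro a ha b hb hab
      rcases hmem.1 ha with rfl | ⟨u, hu, rfl⟩ <;> rcases hmem.1 hb with rfl | ⟨v, hv, rfl⟩
      · exact absurd rfl hab
      · rw [e1]; exact hs.mem v hv
      · rw [e1']; exact hs.mem u hu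
      · rw [hedge hu hv]
        exact h.add_mem (hs.mem u hu) (hs.mem v hv) (hs.pair u hu v hv fun e => hab (by rw [e]))
    · intro a ha b hb hab
      rcases hmem.1 ha with rfl | ⟨u, hu, rfl⟩ <;> rcases hmem.1 hb with rfl | ⟨v, hv, rfl⟩
      · exact absurd rfl hab
      · rw [e1]; exact hur v hv
      · rw [e1', map_add, hur u hu, h.f_self (hs.mem u hu), add_zero]
      · have huv : u ≠ v := fun e => hab (by rw [e])
        rw [hedge hu hv, h.f_add (hs.mem u hu) (hs.mem v hv) (hs.pair u hu v hv huv), map_add, map_add, hur u hu,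
          hur v hv, h.f_self (hs.mem u hu), hs.pair v hv u hu huv.symm]
        decide
    · intro a ha b hb hab c hc hca hcb
      rcases hmem.1 ha with rfl | ⟨u, hu, rfl⟩ <;> rcases hmem.1 hb with rfl | ⟨v, hv, rfl⟩ <;>
        rcases hmem.1 hc with rfl | ⟨w, hw, rfl⟩ <;>
        first
        | exact absurd rfl hab
        | exact absurd rfl hca
        | exact absurd rfl hcb
        | (rw [e1, map_add, hur v hv, hs.pair v hv w hw fun e => hcb (by rw [e])]; decide)
        | (rw [e1', map_add, hur u hu, hs.pair u hu w hw fun e => hca (by rw [e])]; decide)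
        | (rw [hedge hu hv, h.f_add (hs.mem u hu) (hs.mem v hv) (hs.pair u hu v hv fun e => hab (by rw [e])),
            hur u hu, hur v hv]; decide)
        | (rw [hedge hu hv, h.f_add (hs.mem u hu) (hs.mem v hv) (hs.pair u hu v hv fun e => hab (by rw [e])),
            map_add, map_add, hur u hu, hur v hv, hs.pair u hu w hw fun e => hca (by rw [e]),
            hs.pair v hv w hw fun e => hcb (by rw [e])]; decide)
    · intro z hz
      rcases hs.cases_of_max hmax hz with (hzs | ⟨u, hu, v, hv, huv, e⟩) | h0'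
      · exact Or.inl ⟨r, hmem.2 (Or.inl rfl), r + z, hmem.2 (Or.inr ⟨z, hzs, rfl⟩),
          fun e => h.ne_zero hz (left_eq_add.1 e), e1.symm⟩
      · exact Or.inl ⟨r + u, hmem.2 (Or.inr ⟨u, hu, rfl⟩), r + v, hmem.2 (Or.inr ⟨v, hv, rfl⟩),
          fun e' => huv (add_left_cancel e'), by rw [hedge hu hv]; exact e⟩
      · refine Or.inr fun w hw => ?_
        have hzr : h.f z r = 0 := by rw [hr, map_sum]; exact Finset.sum_eq_zero h0'
        rcases hmem.1 hw with rfl | ⟨u, hu, rfl⟩
        · exact hzr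
        · rw [map_add, hzr, h0' u hu, add_zero]
  · exfalso
    obtain ⟨j, hj⟩ := hodd
    have hur : ∀ u ∈ s, h.f u r = 0 := fun u hu => by
      rw [hr, hs.sum_eval hu, show s.card - 1 = 2 * j by omega, Nat.cast_mul,
        show ((2 : ℕ) : ZMod 2) = 0 from rfl, zero_mul]
    have hr0 : r = 0 := by
      refine h.eq_zero_of_orth hex fun z hz => ?_
      rcases hs.cases_of_max hmax hz with (hzs | ⟨u, hu, v, hv, huv, rfl⟩) | h0'
      · exact hur z hzs
      · rw [h.f_add (hs.mem u hu) (hs.mem v hv) (hs.pair u hu v hv huv), hur u hu, hur v hv, add_zero]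
      · rw [hr, map_sum]; exact Finset.sum_eq_zero h0'
    obtain ⟨D, hne', hD, ho, hsum, -⟩ := hs.exists_matching s subset_rfl ⟨j, hj⟩
    exact h.indep D hD ho hne' (hsum.trans hr0)

namespace Frame

variable {h} {Ω Ω' : Finset V} (hΩ : h.Frame Ω)
include hΩ

theorem eval_right {u v : V} (hu : u ∈ Ω) (hv : v ∈ Ω) (huv : u ≠ v) : h.f (u + v) v = 1 := by
  rw [add_comm]; exact hΩ.eval_left v hv u hu huv.symm

theorem mem_pair_of_one {u v : V} (hu : u ∈ Ω) (hv : v ∈ Ω) (huv : u ≠ v) {w : V} (hw : w ∈ Ω)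
    (e : h.f (u + v) w = 1) : w = u ∨ w = v := by
  by_contra hc
  push Not at hc
  rw [hΩ.eval_ne u hu v hv huv w hw hc.1 hc.2] at e
  exact zero_ne_one e

theorem pair_eq {a b c d : V} (ha : a ∈ Ω) (hb : b ∈ Ω) (hc : c ∈ Ω) (hd : d ∈ Ω) (hab : a ≠ b) (hcd : c ≠ d)
    (e : a + b = c + d) : (a = c ∨ a = d) ∧ (b = c ∨ b = d) :=
  ⟨hΩ.mem_pair_of_one hc hd hcd ha (e ▸ hΩ.eval_left a ha b hb hab),
    hΩ.mem_pair_of_one hc hd hcd hb (e ▸ hΩ.eval_right ha hb hab)⟩

theorem mem_tvSet {x : V} (hx : Edge Ω x) : x ∈ tvSet σ := by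
  obtain ⟨u, hu, v, hv, huv, rfl⟩ := hx
  exact hΩ.edge u hu v hv huv

theorem exists_third {u v : V} : ∃ w ∈ Ω, w ≠ u ∧ w ≠ v := by
  classical
  obtain ⟨w, hw⟩ : (Ω \ {u, v}).Nonempty := Finset.card_pos.1 (by
    have := Finset.le_card_sdiff {u, v} Ω
    have := (Finset.card_le_two : ({u, v} : Finset V).card ≤ 2)
    have := hΩ.three
    omega)
  simp only [Finset.mem_sdiff, Finset.mem_insert, Finset.mem_singleton, not_or] at hw
  exact ⟨w, hw.1, hw.2.1, hw.2.2⟩

theorem meet {u v w : V} (hu : u ∈ Ω) (hv : v ∈ Ω) (hw : w ∈ Ω) (huv : u ≠ v) (huw : u ≠ w) (hvw : v ≠ w) :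
    h.f (u + v) (u + w) = 1 := by
  rw [map_add, hΩ.eval_left u hu v hv huv, hΩ.eval_ne u hu v hv huv w hw huw.symm hvw.symm, add_zero]

theorem edge_of_f_one {x y : V} (hx : Edge Ω x) (hy : y ∈ tvSet σ) (e : h.f x y = 1) : Edge Ω y :=
  (hΩ.closed y hy).resolve_right fun hc => by
    obtain ⟨u, hu, v, hv, huv, rfl⟩ := hx
    rw [h.symm (hΩ.edge u hu v hv huv) hy, map_add, hc u hu, hc v hv, add_zero] at e
    exact zero_ne_one e

theorem edge_transfer (hΩ' : h.Frame Ω') {x : V} (hx : Edge Ω x) (hx' : Edge Ω' x) {y : V}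
    (hy : Edge Ω' y) : Edge Ω y := by
  obtain ⟨u, hu, v, hv, huv, rfl⟩ := hx'
  obtain ⟨a, ha, b, hb, hab, rfl⟩ := hy
  -- edges at an end of the common edge
  have step : ∀ {u v}, u ∈ Ω' → v ∈ Ω' → u ≠ v → Edge Ω (u + v) → ∀ {w}, w ∈ Ω' → u ≠ w → Edge Ω (u + w) := by
    intro u v hu hv huv hx w hw huw
    by_cases hvw : v = w
    · rw [← hvw]; exact hx
    · exact hΩ.edge_of_f_one hx (hΩ'.edge u hu w hw huw) (hΩ'.meet hu hv hw huv huw hvw)
  by_cases hua : u = a
  · subst hua; exact step hu hv huv hx hb hab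
  · have h1 := step hu hv huv hx ha hua
    rw [add_comm] at h1
    exact step ha hu (Ne.symm hua) h1 hb hab

theorem subset_of_common (hΩ' : h.Frame Ω') (hex : ∃ A, MinOff σ 2 A) {x : V} (hx : Edge Ω x)
    (hx' : Edge Ω' x) : Ω' ⊆ Ω := by
  -- the edges at a point correspond to those at some point
  have key : ∀ {Ω Ω' : Finset V}, h.Frame Ω → h.Frame Ω' → (∀ y, Edge Ω' y → Edge Ω y) →
      ∀ u' ∈ Ω', ∃ a ∈ Ω, ∀ y ∈ tvSet σ, h.f y u' = 1 → h.f y a = 1 := by
    intro Ω Ω' hΩ hΩ' hsub u' hu'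
    obtain ⟨v', hv', hvu, -⟩ := hΩ'.exists_third (u := u') (v := u')
    obtain ⟨w', hw', hwu, hwv⟩ := hΩ'.exists_third (u := u') (v := v')
    obtain ⟨p, hp, q, hq, hpq, e₁⟩ := hsub _ ⟨u', hu', v', hv', hvu.symm, rfl⟩
    obtain ⟨p', hp', q', hq', hpq', e₂⟩ := hsub _ ⟨u', hu', w', hw', hwu.symm, rfl⟩
    have hm : h.f (u' + v') (u' + w') = 1 := hΩ'.meet hu' hv' hw' hvu.symm hwu.symm hwv.symm
    have hne12 : p + q ≠ p' + q' := fun e => by
      rw [← e₁, ← e₂] at e
      exact hwv (add_left_cancel e).symm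
    -- the common point
    obtain ⟨a, ha, b, hb, c, hc, hab, hac, e1, e2⟩ : ∃ a ∈ Ω, ∃ b ∈ Ω, ∃ c ∈ Ω, a ≠ b ∧ a ≠ c ∧
        u' + v' = a + b ∧ u' + w' = a + c := by
      have hmem : p' = p ∨ p' = q ∨ q' = p ∨ q' = q := by
        by_contra hc
        push Not at hc
        rw [e₁, e₂, map_add, hΩ.eval_ne p hp q hq hpq p' hp' hc.1 hc.2.1,
          hΩ.eval_ne p hp q hq hpq q' hq' hc.2.2.1 hc.2.2.2, add_zero] at hm
        exact zero_ne_one hm
      rcases hmem with e | e | e | e <;> subst e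
      · exact ⟨p', hp', q, hq, q', hq', hpq, hpq', e₁, e₂⟩
      · exact ⟨p', hp', p, hp, q', hq', hpq.symm, hpq', by rw [e₁, add_comm], e₂⟩
      · exact ⟨q', hq', q, hq, p', hp', hpq, hpq'.symm, e₁, by rw [e₂, add_comm]⟩
      · exact ⟨q', hq', p, hp, p', hp', hpq.symm, hpq'.symm, by rw [e₁, add_comm], by rw [e₂, add_comm]⟩
    have hbc : b ≠ c := fun e => hne12 (by rw [← e₁, ← e₂, e1, e2, e])
    refine ⟨a, ha, fun y hy hyu => ?_⟩
    have hyE' : Edge Ω' y := (hΩ'.closed y hy).resolve_right fun h0 => zero_ne_one ((h0 u' hu').symm.trans hyu)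
    obtain ⟨p₀, hp₀, q₀, hq₀, hpq₀, rfl⟩ := hyE'
    obtain ⟨z', hz', hzu, ey⟩ : ∃ z' ∈ Ω', z' ≠ u' ∧ p₀ + q₀ = u' + z' := by
      rcases hΩ'.mem_pair_of_one hp₀ hq₀ hpq₀ hu' hyu with e | e <;> subst e
      · exact ⟨q₀, hq₀, hpq₀.symm, rfl⟩
      · exact ⟨p₀, hp₀, hpq₀, add_comm _ _⟩
    rw [ey]
    by_cases hzv : z' = v'
    · rw [hzv, e1]; exact hΩ.eval_left a ha b hb hab
    by_cases hzw : z' = w'
    · rw [hzw, e2]; exact hΩ.eval_left a ha c hc hac
    obtain ⟨s₁, hs₁, s₂, hs₂, hs12, es⟩ := hsub _ ⟨u', hu', z', hz', hzu.symm, rfl⟩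
    have m1 := hΩ'.meet hu' hz' hv' hzu.symm hvu.symm hzv
    have m2 := hΩ'.meet hu' hz' hw' hzu.symm hwu.symm hzw
    rw [e1, map_add] at m1
    rw [e2, map_add] at m2
    refine (zmod_two_cases _).resolve_left fun h0 => ?_
    rw [h0, zero_add] at m1 m2
    rw [es] at m1 m2
    have hb' := hΩ.mem_pair_of_one hs₁ hs₂ hs12 hb m1
    have hc' := hΩ.mem_pair_of_one hs₁ hs₂ hs12 hc m2
    have eyb : u' + z' = v' + w' := by
      rw [es, show v' + w' = b + c by
        rw [← zero_add (v' + w'), ← h.two u', add_add_add_comm, e1, e2, add_add_add_comm, h.two, zero_add]]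
      rcases hb' with rfl | rfl <;> rcases hc' with rfl | rfl
      exacts [absurd rfl hbc, rfl, add_comm _ _, absurd rfl hbc]
    rcases (hΩ'.pair_eq hu' hz' hv' hw' hzu.symm hwv.symm eyb).1 with e | e
    exacts [hvu e.symm, hwu e.symm]
  intro u' hu'
  obtain ⟨a, ha, hua⟩ := key hΩ hΩ' (fun y hy => hΩ.edge_transfer hΩ' hx hx' hy) u' hu'
  obtain ⟨b', hb', hab'⟩ := key hΩ' hΩ (fun y hy => hΩ'.edge_transfer hΩ hx' hx hy) a ha
  have hb'u : b' = u' := by
    obtain ⟨v', hv', hvu, -⟩ := hΩ'.exists_third (u := u') (v := u')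
    obtain ⟨w', hw', hwu, hwv⟩ := hΩ'.exists_third (u := u') (v := v')
    have h1 : ∀ z' ∈ Ω', z' ≠ u' → b' = u' ∨ b' = z' := fun z' hz' hne =>
      hΩ'.mem_pair_of_one hu' hz' hne.symm hb' (hab' _ (hΩ'.edge u' hu' z' hz' hne.symm)
        (hua _ (hΩ'.edge u' hu' z' hz' hne.symm) (hΩ'.eval_left u' hu' z' hz' hne.symm)))
    rcases h1 v' hv' hvu with e | e
    · exact e
    · exact (h1 w' hw' hwu).resolve_right fun e' => hwv (e'.symm.trans e)
  subst hb'u
  have e := h.eq_zero_of_orth hex (r := b' + a) fun y hy => by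
    rw [map_add]
    rcases zmod_two_cases (h.f y b') with e | e
    · rw [e, zero_add]
      exact (zmod_two_cases _).resolve_right fun e' => zero_ne_one (e.symm.trans (hab' y hy e'))
    · rw [e, hua y hy e]; decide
  rw [add_eq_zero_iff_eq_neg, h.neg_eq] at e
  rwa [e]

/-- A component determines its frame. -/
theorem unique (hΩ' : h.Frame Ω') (hex : ∃ A, MinOff σ 2 A) {x : V} (hx : Edge Ω x) (hx' : Edge Ω' x) :
    Ω' = Ω :=
  Finset.Subset.antisymm (hΩ.subset_of_common hΩ' hex hx hx') (hΩ'.subset_of_common hΩ hex hx' hx)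

end Frame

end TCtx

end Cfsg.Agent.FFMinimal
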