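import Cfsg.Agent.Lib.FFMinimal.Fixed

/-!
The dictionary between subgroups of a group and the action by conjugation on an abelian subgroup.

* `conjAct` : conjugation by a subgroup normalising an abelian subgroup
* `Model` level facts `mem_fix_iff`, `mem_comS_iff`, `off_of_best`
* `linSec_acts`, `symSec_acts` : components give sections
-/

set_option autoImplicit false

namespace Cfsg.Agent.FFMinimal

open Subgroup
open scoped commutatorElement MatrixGroups
open OffenderSL2 (fixS cj app_mul app_one app_inv_self app_self_inv fix_le)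

universe u w

variable {G : Type u} [Group G] {V K : Subgroup G}

/-- The element of the group. -/
def gval (v : Additive ↥V) : G := ((Additive.toMul v : ↥V) : G)

theorem gval_injective : Function.Injective (gval (V := V)) := fun _ _ h =>
  Additive.toMul.injective (Subtype.ext h)

theorem gval_mem (v : Additive ↥V) : gval v ∈ V := (Additive.toMul v).2

/-- An element of `V`, written additively. -/
def gmk {x : G} (hx : x ∈ V) : Additive ↥V := Additive.ofMul ⟨x, hx⟩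

theorem gval_gmk {x : G} (hx : x ∈ V) : gval (gmk hx) = x := rfl

theorem conj_mem_of_le (hK : K ≤ normalizer (V : Set G)) {g : G} (hg : g ∈ K) {v : G} (hv : v ∈ V) :
    g * v * g⁻¹ ∈ V :=
  (mem_normalizer_iff.1 (hK hg) v).1 hv

section

variable [IsMulCommutative ↥V]

open scoped IsMulCommutative

theorem gval_zero : gval (0 : Additive ↥V) = 1 := rfl

theorem gval_add (a b : Additive ↥V) : gval (a + b) = gval a * gval b := rfl

theorem gval_neg (a : Additive ↥V) : gval (-a) = (gval a)⁻¹ := rfl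

theorem gval_sub (a b : Additive ↥V) : gval (a - b) = gval a / gval b := rfl

theorem gval_nsmul (n : ℕ) (a : Additive ↥V) : gval (n • a) = gval a ^ n := rfl

/-- Conjugation on `V`. -/
def conjAct (hK : K ≤ normalizer (V : Set G)) : ↥K →* AddMonoid.End (Additive ↥V) where
  toFun g := AddMonoidHom.mk' (fun v => gmk (conj_mem_of_le hK g.2 (gval_mem v))) fun a b => gval_injective (by
    show (g : G) * gval (a + b) * (g : G)⁻¹ = (g : G) * gval a * (g : G)⁻¹ * ((g : G) * gval b * (g : G)⁻¹)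
    rw [gval_add]; group)
  map_one' := AddMonoidHom.ext fun v => gval_injective (by
    show (1 : G) * gval v * (1 : G)⁻¹ = gval v
    group)
  map_mul' g h := AddMonoidHom.ext fun v => gval_injective (by
    show ((g : G) * h) * gval v * ((g : G) * h)⁻¹ = (g : G) * ((h : G) * gval v * (h : G)⁻¹) * (g : G)⁻¹
    group)

theorem gval_act (hK : K ≤ normalizer (V : Set G)) (g : ↥K) (v : Additive ↥V) :
    gval (conjAct hK g v) = g * gval v * (g : G)⁻¹ := rfl

theorem gval_act_sub (hK : K ≤ normalizer (V : Set G)) (g : ↥K) (v : Additive ↥V) :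
    gval (conjAct hK g v - v) = ⁅(g : G), gval v⁆ := by
  rw [gval_sub, gval_act, div_eq_mul_inv, commutatorElement_def]

theorem exponent_of {p : ℕ} (hV : Cfsg.IsElementaryAbelian p V) (v : Additive ↥V) : p • v = 0 :=
  gval_injective (hV.2 _ (gval_mem v))

theorem conjAct_eq_iff (hK : K ≤ normalizer (V : Set G)) (g : ↥K) :
    (∀ v, conjAct hK g v = v) ↔ (g : G) ∈ centralizer (V : Set G) := by
  constructor
  · intro h
    refine mem_centralizer_iff.2 fun v hv => ?_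
    have h1 := congrArg gval (h (gmk hv))
    rw [gval_act, gval_gmk, mul_inv_eq_iff_eq_mul] at h1
    exact h1.symm
  · intro h v
    refine gval_injective ?_
    rw [gval_act, ← mem_centralizer_iff.1 h _ (gval_mem v), mul_inv_cancel_right]

variable {Q : Type w} [Group Q] (π : ↥K →* Q) (σ : Q →* AddMonoid.End (Additive ↥V))

/-- The preimage of a subgroup, as a subgroup of the big group. -/
def up' (E : Subgroup Q) : Subgroup G := (E.comap π).map K.subtype

theorem mem_up' {E : Subgroup Q} {x : G} : x ∈ up' π E ↔ ∃ hx : x ∈ K, π ⟨x, hx⟩ ∈ E := by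
  constructor
  · rintro ⟨y, hy, rfl⟩; exact ⟨y.2, hy⟩
  · rintro ⟨hx, h⟩; exact ⟨⟨x, hx⟩, h, rfl⟩

theorem up'_le (E : Subgroup Q) : up' π E ≤ K := map_subtype_le _

theorem up'_mono {E E' : Subgroup Q} (h : E ≤ E') : up' π E ≤ up' π E' := map_mono (comap_mono h)

variable {π σ} (hK : K ≤ normalizer (V : Set G)) (hπ : Function.Surjective π)
  (hσ : ∀ g v, σ (π g) v = conjAct hK g v)
include hπ hσ

theorem mem_fix_iff {E : Subgroup Q} {v : Additive ↥V} :
    v ∈ fixS σ E ↔ gval v ∈ centralizer ((up' π E : Subgroup G) : Set G) := by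
  rw [mem_centralizer_iff]
  constructor
  · intro h x hx
    obtain ⟨hxK, hxE⟩ := (mem_up' π).1 hx
    have h1 := congrArg gval (h _ hxE)
    rwa [hσ, gval_act, mul_inv_eq_iff_eq_mul] at h1
  · intro h q hq
    obtain ⟨g, rfl⟩ := hπ q
    refine gval_injective ?_
    rw [hσ, gval_act, mul_inv_eq_iff_eq_mul]
    exact h g ((mem_up' π).2 ⟨g.2, hq⟩)

theorem mem_comS_iff {E : Subgroup Q} {v : Additive ↥V} :
    v ∈ comS σ E ↔ gval v ∈ ⁅V, up' π E⁆ := by
  constructor
  · intro h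
    let W : AddSubgroup (Additive ↥V) := Subgroup.toAddSubgroup ((⁅V, up' π E⁆).subgroupOf V)
    refine (comS_le fun q hq w => ?_ : comS σ E ≤ W) h
    obtain ⟨g, rfl⟩ := hπ q
    show gval (σ (π g) w - w) ∈ ⁅V, up' π E⁆
    rw [hσ, gval_act_sub, ← commutatorElement_inv]
    exact inv_mem (commutator_mem_commutator (gval_mem w) ((mem_up' π).2 ⟨g.2, hq⟩))
  · intro h
    have hV : ⁅V, up' π E⁆ ≤ V := commutator_le.2 fun a ha b hb => by
      rw [commutatorElement_def, mul_assoc (a * b), show a * b * (a⁻¹ * b⁻¹) = a * (b * a⁻¹ * b⁻¹) by group]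
      exact mul_mem ha (conj_mem_of_le hK (up'_le π E hb) (inv_mem ha))
    let W : Subgroup G :=
      { carrier := {x | ∃ hx : x ∈ V, gmk hx ∈ comS σ E}
        one_mem' := ⟨one_mem V, (comS σ E).zero_mem⟩
        mul_mem' := fun {a b} ⟨ha, h1⟩ ⟨hb, h2⟩ => ⟨mul_mem ha hb, (comS σ E).add_mem h1 h2⟩
        inv_mem' := fun {a} ⟨ha, h1⟩ => ⟨inv_mem ha, (comS σ E).neg_mem h1⟩ }
    have hle : ⁅V, up' π E⁆ ≤ W := commutator_le.2 fun a ha b hb => by
      refine ⟨hV (commutator_mem_commutator ha hb), ?_⟩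
      obtain ⟨hbK, hbE⟩ := (mem_up' π).1 hb
      have h1 := AddSubgroup.neg_mem _ (sub_mem_comS (σ := σ) hbE (gmk ha))
      convert h1 using 1
      refine gval_injective ?_
      rw [gval_neg, hσ, gval_act_sub, gval_gmk, commutatorElement_inv]
      rfl
    obtain ⟨hx, h1⟩ := hle h
    exact h1

theorem le_normalizer_up' {E : Subgroup Q} : up' π E ≤ normalizer ((⁅V, up' π E⁆ : Subgroup G) : Set G) := by
  intro e he
  obtain ⟨heK, heE⟩ := (mem_up' π).1 he
  have key : ∀ g ∈ up' π E, ∀ x ∈ ⁅V, up' π E⁆, g * x * g⁻¹ ∈ ⁅V, up' π E⁆ := by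
    intro g hg
    obtain ⟨hgK, hgE⟩ := (mem_up' π).1 hg
    intro x hx
    have hxV : x ∈ V := (commutator_le.2 (fun a ha b hb => by
      rw [commutatorElement_def, show a * b * a⁻¹ * b⁻¹ = a * (b * a⁻¹ * b⁻¹) by group]
      exact mul_mem ha (conj_mem_of_le hK (up'_le π E hb) (inv_mem ha))) : ⁅V, up' π E⁆ ≤ V) hx
    have h2 : gmk hxV ∈ comS σ E := (mem_comS_iff hK hπ hσ).2 hx
    have h3 := (mem_comS_iff hK hπ hσ).1 (apply_mem_comS hgE h2)
    rwa [hσ, gval_act] at h3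
  rw [mem_normalizer_iff]
  intro x
  refine ⟨key e he x, fun hx => ?_⟩
  have := key e⁻¹ (inv_mem he) _ hx
  simpa [mul_assoc] using this

omit hπ hσ in
theorem comm_le_V {H : Subgroup G} (hH : H ≤ normalizer (V : Set G)) : ⁅V, H⁆ ≤ V :=
  commutator_le.2 fun a ha b hb => by
    rw [commutatorElement_def, show a * b * a⁻¹ * b⁻¹ = a * (b * a⁻¹ * b⁻¹) by group]
    exact mul_mem ha ((mem_normalizer_iff.1 (hH hb) _).1 (inv_mem ha))

variable (π) in
omit hπ hσ in
/-- A preimage over its image. -/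
def toImg (E : Subgroup Q) : ↥(up' π E) →* ↥E :=
  MonoidHom.mk' (fun x => ⟨π ⟨x, up'_le π E x.2⟩, ((mem_up' π).1 x.2).2⟩)
    fun a b => Subtype.ext (map_mul π ⟨(a : G), _⟩ ⟨(b : G), _⟩)

omit hσ in
theorem toImg_surjective (E : Subgroup Q) : Function.Surjective (toImg π E) := fun q => by
  obtain ⟨g, hg⟩ := hπ q.1
  exact ⟨⟨g, (mem_up' π).2 ⟨g.2, by rw [Subtype.coe_eta, hg]; exact q.2⟩⟩, Subtype.ext hg⟩

/-- A linear component is a linear section. -/
theorem linSec_acts {p : ℕ} {E : Subgroup Q} (h : LinSec σ p E) :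
    ∃ n, 1 ≤ n ∧ ∃ (F : Type) (_ : Field F) (_ : Fintype F), Fintype.card F = p ^ n ∧
      Nonempty (↥E ≃* SL(2, F)) ∧
      Cfsg.ActsAsSL2OnSection F ⊤ (up' π E) ⁅V, up' π E⁆
        (⁅V, up' π E⁆ ⊓ centralizer ((up' π E : Subgroup G) : Set G)) := by
  obtain ⟨n, hn, F, iF, fF, hF, e, ψ, hs, hk, he⟩ := h
  refine ⟨n, hn, F, iF, fF, hF, ⟨e⟩, le_normalizer_up' hK hπ hσ, inf_le_left, ?_⟩
  have hle : ⁅V, up' π E⁆ ≤ V := comm_le_V ((up'_le π E).trans hK)
  let f : ↥(⁅V, up' π E⁆) →* Multiplicative (Fin 2 → F) := MonoidHom.mk'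
    (fun x => Multiplicative.ofAdd ![(ψ (gmk (hle x.2))).1, (ψ (gmk (hle x.2))).2]) fun a b => by
      have e1 : gmk (hle (a * b).2) = gmk (hle a.2) + gmk (hle b.2) := rfl
      rw [← ofAdd_add, e1, map_add]
      congr 1
      funext i; fin_cases i <;> rfl
  refine ⟨e.toMonoidHom.comp (toImg π E), f, ?_, fun z => ?_, fun x => ?_, fun g x => ?_⟩
  · exact MonoidHom.range_eq_top.2 (e.surjective.comp (toImg_surjective hπ E))
  · obtain ⟨v, hv, e1⟩ := hs (Multiplicative.toAdd z 0, Multiplicative.toAdd z 1)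
    refine ⟨⟨gval v, (mem_comS_iff hK hπ hσ).1 hv⟩, ?_⟩
    apply Multiplicative.toAdd.injective
    have e2 : gmk (hle (show gval v ∈ ⁅V, up' π E⁆ from (mem_comS_iff hK hπ hσ).1 hv)) = v := gval_injective rfl
    show ![(ψ (gmk _)).1, (ψ (gmk _)).2] = _
    rw [e2, e1]
    funext i; fin_cases i <;> rfl
  · have hx : gmk (hle x.2) ∈ comS σ E := (mem_comS_iff hK hπ hσ).2 x.2
    rw [mem_inf, and_iff_right x.2]
    refine Iff.trans ?_ ((hk _ hx).trans (mem_fix_iff hK hπ hσ))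
    constructor
    · intro h0
      have h1 := congrArg Multiplicative.toAdd h0
      exact Prod.ext (congrFun h1 0) (congrFun h1 1)
    · intro h0
      apply Multiplicative.toAdd.injective
      show ![(ψ (gmk _)).1, (ψ (gmk _)).2] = 0
      rw [h0]
      funext i; fin_cases i <;> rfl
  · refine ⟨⟨(g : G) * x * (g : G)⁻¹, (mem_normalizer_iff.1 (le_normalizer_up' hK hπ hσ g.2) _).1 x.2⟩, rfl, ?_⟩
    show ![(ψ (gmk _)).1, (ψ (gmk _)).2] = Matrix.mulVec (((e (toImg π E g)) : SL(2, F)) : Matrix (Fin 2) (Fin 2) F)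
      ![(ψ (gmk (hle x.2))).1, (ψ (gmk (hle x.2))).2]
    have e1 : σ ((toImg π E g : Q)) (gmk (hle x.2)) =
        gmk (hle ((mem_normalizer_iff.1 (le_normalizer_up' hK hπ hσ g.2) _).1 x.2)) := by
      refine gval_injective ?_
      show gval (σ (π ⟨g, _⟩) _) = _
      rw [hσ, gval_act]; rfl
    rw [← e1, he (toImg π E g)]
    funext i; fin_cases i <;> simp [mulv, Matrix.mulVec, dotProduct, Fin.sum_univ_two]

/-- A symmetric component is a symmetric section. -/
theorem symSec_acts {p : ℕ} {E : Subgroup Q} (h : SymSec σ p E) :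
    p = 2 ∧ ∃ n, 1 ≤ n ∧ Nonempty (↥E ≃* Equiv.Perm (Fin (2 ^ n + 1))) ∧
      Cfsg.ActsAsOddPermModuleOnSection (2 ^ n + 1) ⊤ (up' π E) ⁅V, up' π E⁆
        (⁅V, up' π E⁆ ⊓ centralizer ((up' π E : Subgroup G) : Set G)) := by
  obtain ⟨hp, n, hn, e, ψ, hz, hs, hk, he⟩ := h
  refine ⟨hp, n, hn, ⟨e⟩, le_normalizer_up' hK hπ hσ, inf_le_left, ?_⟩
  have hle : ⁅V, up' π E⁆ ≤ V := comm_le_V ((up'_le π E).trans hK)
  let f : ↥(⁅V, up' π E⁆) →* Multiplicative (Fin (2 ^ n + 1) → ZMod 2) := MonoidHom.mk'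
    (fun x => Multiplicative.ofAdd (ψ (gmk (hle x.2)))) fun a b => by
      have e1 : gmk (hle (a * b).2) = gmk (hle a.2) + gmk (hle b.2) := rfl
      rw [← ofAdd_add, e1, map_add]
  refine ⟨e.toMonoidHom.comp (toImg π E), f, ?_, fun x => hz (gmk (hle x.2)) ((mem_comS_iff (v := gmk (hle x.2)) hK hπ hσ).2 x.2), fun z hz' => ?_,
    fun x => ?_, fun g x => ?_⟩
  · exact MonoidHom.range_eq_top.2 (e.surjective.comp (toImg_surjective hπ E))
  · obtain ⟨v, hv, e1⟩ := hs z hz'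
    refine ⟨⟨gval v, (mem_comS_iff hK hπ hσ).1 hv⟩, ?_⟩
    have e2 : gmk (hle (show gval v ∈ ⁅V, up' π E⁆ from (mem_comS_iff hK hπ hσ).1 hv)) = v := gval_injective rfl
    show ψ (gmk _) = z
    rw [e2, e1]
  · have hx : gmk (hle x.2) ∈ comS σ E := (mem_comS_iff hK hπ hσ).2 x.2
    rw [mem_inf, and_iff_right x.2]
    exact Iff.trans ⟨fun h0 => congrArg Multiplicative.toAdd h0, fun h0 => Multiplicative.toAdd.injective h0⟩
      ((hk _ hx).trans (mem_fix_iff hK hπ hσ))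
  · refine ⟨⟨(g : G) * x * (g : G)⁻¹, (mem_normalizer_iff.1 (le_normalizer_up' hK hπ hσ g.2) _).1 x.2⟩, rfl, ?_⟩
    intro i
    show ψ (gmk _) i = ψ (gmk (hle x.2)) ((e (toImg π E g))⁻¹ i)
    have e1 : σ ((toImg π E g : Q)) (gmk (hle x.2)) =
        gmk (hle ((mem_normalizer_iff.1 (le_normalizer_up' hK hπ hσ g.2) _).1 x.2)) := by
      refine gval_injective ?_
      show gval (σ (π ⟨g, _⟩) _) = _
      rw [hσ, gval_act]; rfl
    rw [← e1]
    exact he _ _ ((mem_comS_iff (v := gmk (hle x.2)) hK hπ hσ).2 x.2) i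

/-- Best offenders give offenders. -/
theorem off_of_best [Finite G] {p : ℕ} (hker : π.ker = (centralizer (V : Set G)).subgroupOf K) {A : Subgroup G}
    (hA : A ≤ K) (hne : ¬ A ≤ centralizer (V : Set G)) (hb : Cfsg.IsBestOffenderOn p V A) :
    Off σ p ((A.subgroupOf K).map π) := by
  obtain ⟨h1, h2, h3⟩ := hb
  have hmem : ∀ x : ↥K, π x = 1 ↔ (x : G) ∈ centralizer (V : Set G) := fun x => by
    rw [← MonoidHom.mem_ker, hker]; exact mem_subgroupOf
  refine ⟨⟨?_, ?_⟩, fun e => hne fun a ha => ?_, ?_⟩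
  · rintro _ ⟨a, ha, rfl⟩ _ ⟨b, hb, rfl⟩
    rw [← commutatorElement_eq_one_iff_mul_comm, ← map_commutatorElement, hmem]
    exact h2 (commutator_mem_commutator ha hb)
  · rintro _ ⟨a, ha, rfl⟩
    rw [← map_pow, hmem]
    exact h3 a ha
  · exact (hmem ⟨a, hA ha⟩).1 (mem_bot.1 (e ▸ ⟨⟨a, hA ha⟩, ha, rfl⟩))
  set A' := (A.subgroupOf K).map π
  set B := A ⊓ centralizer (V : Set G) with hB
  have hcard : Nat.card ↥A ≤ Nat.card ↥A' * Nat.card ↥B := by
    let f : ↥A →* Q := π.comp (Subgroup.inclusion hA)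
    rw [← f.ker.index_mul_card, Subgroup.index_ker]
    refine Nat.mul_le_mul ?_ ?_
    · haveI : Finite ↥A' := Finite.of_surjective (fun a : ↥A => (⟨f a, ⟨⟨a, hA a.2⟩, a.2, rfl⟩⟩ : ↥A')) (by
        rintro ⟨_, ⟨a, ha, rfl⟩⟩; exact ⟨⟨a, ha⟩, rfl⟩)
      exact card_le_of_le (by rintro _ ⟨a, rfl⟩; exact ⟨⟨a, hA a.2⟩, a.2, rfl⟩)
    · exact Nat.card_le_card_of_injective (fun x : ↥f.ker => (⟨x.1.1, x.1.2, (hmem _).1 x.2⟩ : ↥B))
        fun a b e => Subtype.ext (Subtype.ext (congrArg (fun z : ↥B => (z : G)) e))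
  have hVB : V ⊓ centralizer (B : Set G) = V := inf_eq_left.2 fun v hv => mem_centralizer_iff.2 fun b hb =>
    (mem_centralizer_iff.1 hb.2 v hv).symm
  have hle := h1 B inf_le_left
  rw [hVB] at hle
  have hfix : Nat.card ↥(V ⊓ centralizer (A : Set G)) ≤ Nat.card ↥(fixS σ A') := by
    refine Nat.card_le_card_of_injective (fun x => ⟨gmk x.2.1, ?_⟩) fun a b e =>
      Subtype.ext (congrArg (fun z : ↥(fixS σ A') => gval (z : Additive ↥V)) e)
    rintro _ ⟨a, ha, rfl⟩
    refine gval_injective ?_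
    rw [hσ, gval_act, gval_gmk, mem_centralizer_iff.1 x.2.2 (a : G) ha, mul_inv_cancel_right]
  have hBpos : 0 < Nat.card ↥B := Nat.card_pos
  refine Nat.le_of_mul_le_mul_left ?_ hBpos
  calc Nat.card ↥B * Nat.card (Additive ↥V) = Nat.card ↥B * Nat.card ↥V := rfl
    _ ≤ Nat.card ↥A * Nat.card ↥(V ⊓ centralizer (A : Set G)) := hle
    _ ≤ (Nat.card ↥A' * Nat.card ↥B) * Nat.card ↥(fixS σ A') := Nat.mul_le_mul hcard hfix
    _ = Nat.card ↥B * wt σ A' := by rw [wt]; ring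

/-- The decomposition in the big group. -/
theorem split_translate {p : ℕ} {T : Subgroup Q} {n : ℕ} {E : Fin n → Subgroup Q} (h : Split σ p T E)
    (hsupE : up' π (⨆ i, E i) = ⨆ i, up' π (E i)) :
    (V ⊓ centralizer (((⨆ i, up' π (E i)) : Subgroup G) : Set G)) ⊔ (⨆ i, ⁅V, up' π (E i)⁆) = V ∧
      ∀ i j, i ≠ j → ⁅⁅V, up' π (E i)⁆, up' π (E j)⁆ = ⊥ := by
  have hle : ∀ i, ⁅V, up' π (E i)⁆ ≤ V := fun i => comm_le_V ((up'_le π _).trans hK)
  refine ⟨le_antisymm (sup_le inf_le_left (iSup_le hle)) fun x hx => ?_, fun i j hij => ?_⟩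
  · obtain ⟨a, ha, b, hb, hab⟩ := AddSubgroup.mem_sup.1 (h.span.ge (AddSubgroup.mem_top (gmk hx)))
    rw [show x = gval a * gval b by rw [← gval_add, hab, gval_gmk]]
    refine mul_mem (mem_sup_left ⟨gval_mem a, hsupE ▸ (mem_fix_iff hK hπ hσ).1 ha⟩) (mem_sup_right ?_)
    refine AddSubgroup.iSup_induction (C := fun v => gval v ∈ ⨆ i, ⁅V, up' π (E i)⁆) _ hb
      (fun i v hv => mem_iSup_of_mem i ((mem_comS_iff hK hπ hσ).1 hv)) (one_mem _) fun v v' hv hv' => ?_
    rw [gval_add]; exact mul_mem hv hv'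
  · refine commutator_eq_bot_iff_le_centralizer.2 fun x hx => ?_
    have h1 : gmk (hle i hx) ∈ comS σ (E i) := (mem_comS_iff (v := gmk (hle i hx)) hK hπ hσ).2 hx
    exact (mem_fix_iff (v := gmk (hle i hx)) hK hπ hσ).1 (h.orth i j hij h1)

end

end Cfsg.Agent.FFMinimal
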