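import Cfsg.Agent.Lib.FFMinimal.Component

/-!
The classification of irreducible configurations.

* `exists_orbit` : a minimal offender of more than two elements gives an `Orbit`
* `concl` : the conclusion, by induction on the order of the group
* `good`, `orbit_or_tctx` : the dichotomy
-/

set_option autoImplicit false

namespace Cfsg.Agent.FFMinimal

open Subgroup
open scoped MatrixGroups
open OffenderSL2 (fixS cj app_mul app_one app_inv_self app_self_inv mem_cj cj_cj)

universe u v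

variable {P : Type u} [Group P] [Finite P] {V : Type v} [AddCommGroup V] [Finite V]
  {σ : P →* AddMonoid.End V} {p : ℕ} [Fact p.Prime]

theorem MinOff.two_le {A : Subgroup P} (hA : MinOff σ p A) : 2 ≤ Nat.card ↥A :=
  Subgroup.one_lt_card_iff_ne_bot A |>.2 hA.off.ne

theorem eq_two_of_card {A : Subgroup P} (hA : MinOff σ p A) (h : Nat.card ↥A = 2) : p = 2 := by
  obtain ⟨k, hk⟩ := IsPGroup.iff_card.1 hA.off.elem.isPGroup
  rw [h] at hk
  have hk0 : k ≠ 0 := fun e => by rw [e, pow_zero] at hk; omega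
  exact (Nat.prime_dvd_prime_iff_eq Fact.out Nat.prime_two).1 (hk ▸ dvd_pow_self p hk0)

/-- A large minimal offender gives an orbit of blocks. -/
theorem exists_orbit (hctx : Ctx σ p) (hK : Known.{u, v} (P := P) p) {T : Sylow p P} {M : Subgroup P}
    (hM : IsCoatom M) (hTM : (T : Subgroup P) ≤ M) {A : Subgroup P} (hA : MinOff σ p A) (h3 : 3 ≤ Nat.card ↥A) :
    ∃ (A' : Subgroup P) (F : Type) (_ : Field F) (_ : Finite F) (B : Block σ F A'), Orbit σ p T M A' B := by
  classical
  obtain ⟨T', hAT'⟩ := hA.off.elem.isPGroup.exists_le_sylow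
  obtain ⟨x, hx⟩ := MulAction.exists_smul_eq P T' T
  have hxA : cj A x ≤ (T : Subgroup P) := by
    rintro _ ⟨a, ha, rfl⟩
    rw [← hx]
    exact ⟨a, hAT' ha, rfl⟩
  obtain ⟨g, hg, F, iF, fF, B, hB, hout⟩ := exists_natural_conj hctx hK hM hTM (hA.conj x) hxA
  refine ⟨_, F, iF, fF, B, hctx, good_of_known hctx hK, hM, hTM, (hA.conj x).conj g, hg, hB, hout, ?_⟩
  haveI := Fintype.ofFinite F
  have hF : 3 ≤ Fintype.card F := by
    rw [← Nat.card_eq_fintype_card, ← B.card_A, card_map_of_injective (MulAut.conj g).injective,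
      card_map_of_injective (MulAut.conj x).injective]
    exact h3
  obtain ⟨t, -, ht⟩ := Finset.exists_mem_notMem_of_card_lt_card (s := ({0, 1} : Finset F)) (t := Finset.univ)
    (lt_of_le_of_lt Finset.card_le_two (by rw [Finset.card_univ]; omega))
  simp only [Finset.mem_insert, Finset.mem_singleton, not_or] at ht
  exact ⟨Units.mk0 t ht.1, ht.2⟩

/-- The dichotomy. -/
theorem orbit_or_tctx (hctx : Ctx σ p) (hK : Known.{u, v} (P := P) p) {T : Sylow p P} {M : Subgroup P}
    (hM : IsCoatom M) (hTM : (T : Subgroup P) ≤ M) (hex : ∃ A, MinOff σ p A) :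
    (∃ (A' : Subgroup P) (F : Type) (_ : Field F) (_ : Finite F) (B : Block σ F A'), Orbit σ p T M A' B) ∨
      (p = 2 ∧ TCtx σ) := by
  by_cases h3 : ∃ A, MinOff σ p A ∧ 3 ≤ Nat.card ↥A
  · obtain ⟨A, hA, hc⟩ := h3
    exact Or.inl (exists_orbit hctx hK hM hTM hA hc)
  · push Not at h3
    have hcard : ∀ A, MinOff σ p A → Nat.card ↥A = 2 := fun A hA =>
      le_antisymm (Nat.le_of_lt_succ (h3 A hA)) hA.two_le
    obtain ⟨A, hA⟩ := hex
    obtain rfl := eq_two_of_card hA (hcard A hA)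
    exact Or.inr ⟨rfl, hctx, good_of_known hctx hK, hcard⟩

/-- The induction step. -/
theorem concl_of_known (hctx : Ctx σ p) (hK : Known.{u, v} (P := P) p) : Concl σ p := by
  classical
  by_cases hex : ∃ A, MinOff σ p A
  swap
  · exact ⟨bound_of_known hctx hK, fun T M _ _ A hA _ => absurd ⟨A, hA⟩ hex, fun A hA => absurd ⟨A, hA⟩ hex⟩
  obtain ⟨T₁⟩ : Nonempty (Sylow p P) := inferInstance
  obtain ⟨M₁, ⟨hM₁, hTM₁⟩, -⟩ := (hctx.pmin T₁).2
  rcases orbit_or_tctx hctx hK hM₁ hTM₁ hex with ⟨A₀, F₀, iF₀, fF₀, B₀, o₀⟩ | ⟨rfl, h⟩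
  · obtain ⟨s, hs⟩ := o₀.unit
    haveI := Fintype.ofFinite F₀
    have h3 : 3 ≤ Nat.card ↥A₀ := by
      rw [B₀.card_A, Nat.card_eq_fintype_card]
      have := Finset.card_le_univ ({0, 1, (s : F₀)} : Finset F₀)
      rwa [Finset.card_insert_of_notMem (by simp [Ne.symm s.ne_zero]),
        Finset.card_insert_of_notMem (by simp [Ne.symm hs]), Finset.card_singleton] at this
    have hT : ∀ (T : Sylow p P) (M : Subgroup P), IsCoatom M → (T : Subgroup P) ≤ M → ∀ A, MinOff σ p A →
        A ≤ (T : Subgroup P) →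
        ∃ (F : Type) (_ : Field F) (_ : Finite F) (B : Block σ F A), Orbit σ p T M A B := by
      intro T M hM hTM A hA hAT
      obtain ⟨A', F, iF, fF, B, o⟩ := exists_orbit hctx hK hM hTM o₀.minOff h3
      obtain ⟨t, ht, rfl⟩ := o.mem_orbit hA hAT
      exact ⟨F, iF, fF, B.conj t, o.conj ht⟩
    refine ⟨bound_of_known hctx hK, fun T M hM hTM A hA hAT => ?_, fun A hA => ?_⟩
    · obtain ⟨F, iF, fF, B, o⟩ := hT T M hM hTM A hA hAT
      exact ⟨F, iF, fF, B, o.hh, o.out⟩
    · obtain ⟨T, hAT⟩ := hA.off.elem.isPGroup.exists_le_sylow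
      obtain ⟨M, ⟨hM, hTM⟩, -⟩ := (hctx.pmin T).2
      obtain ⟨F, iF, fF, B, o⟩ := hT T M hM hTM A hA hAT
      exact o.spanned
  · exact h.concl hex

omit [Finite P] [Finite V] in
theorem known_of_lt (n : ℕ) : ∀ (Q : Type u) [Group Q] [Finite Q] (W : Type v) [AddCommGroup W] [Finite W]
    (τ : Q →* AddMonoid.End W), Nat.card Q < n → Ctx τ p → Concl τ p := by
  induction n with
  | zero => intro Q _ _ W _ _ τ h _; omega
  | succ n ih =>
    intro Q _ _ W _ _ τ hlt hctx
    exact concl_of_known hctx fun Q' _ _ W' _ _ τ' h' hctx' => ih Q' W' τ' (by omega) hctx'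

/-- The conclusion is known for every smaller group. -/
theorem known : Known.{u, v} (P := P) p := known_of_lt (Nat.card P)

/-- The conclusion. -/
theorem concl (hctx : Ctx σ p) : Concl σ p := concl_of_known hctx known

end Cfsg.Agent.FFMinimal
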