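import Cfsg.Agent.Lib.FFMinimal.Cases

/-!
The induction step for the bound, and the blocks coming from the proper subgroup `X`.

* `Cand.exists_chief`, `Cand.seen`, `Cand.exists_block` : the chief submodule and the blocks
* `bound_of_known` : no elementary abelian subgroup does better than `|V|`
-/

set_option autoImplicit false

namespace Cfsg.Agent.FFMinimal

open Subgroup
open scoped MatrixGroups
open OffenderSL2 (fixS cj app_mul app_one app_inv_self app_self_inv fix_le fix_sup mem_fix_cj apply_mem_fix_cj mem_cj cj_cj)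

universe u v

variable {P : Type u} [Group P] {V : Type v} [AddCommGroup V] {σ : P →* AddMonoid.End V} {p : ℕ}

theorem MinOff.strict [Finite P] {A : Subgroup P} (hA : MinOff σ p A) :
    ∀ D ≤ A, D ≠ ⊥ → D ≠ A → wt σ D < wt σ A := fun D hD h0 hne => by
  by_contra hc
  exact hne (hA.minimal D hD ⟨hA.off.elem.mono hD, h0, hA.off.le.trans (not_lt.1 hc)⟩)

variable [Finite P] [Finite V] [Fact p.Prime] {T : Sylow p P} {M A : Subgroup P}

namespace Cand

variable (d : Cand p T M A)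

/-- The Sylow subgroup of `X` inside `P`. -/
abbrev T₀ : Subgroup P := (d.S : Subgroup ↥d.X).map d.X.subtype

theorem T₀_le_X : d.T₀ ≤ d.X := map_subtype_le _

theorem xdata (hp : ∀ v : V, p • v = 0) (hTM : (T : Subgroup P) ≤ M) :
    XData (V := V) p d.S (M.subgroupOf d.X) :=
  ⟨hp, d.pmin, d.coatom, fun x hx => hTM (d.le ⟨x, hx, rfl⟩)⟩

theorem card_lt : Nat.card ↥d.X < Nat.card P :=
  lt_of_le_of_ne (Finite.card_subtype_le _) fun e => d.ne_top (Subgroup.card_eq_iff_eq_top d.X |>.1 e)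

theorem card_xbar_lt {ρ : ↥d.X →* AddMonoid.End V} (c : Chief ρ p) : Nat.card c.Xbar < Nat.card P :=
  (Nat.card_le_card_of_surjective _ (QuotientGroup.mk'_surjective c.K)).trans_lt d.card_lt

/-- The chief submodule. -/
theorem exists_chief (hctx : Ctx σ p) (hM : IsCoatom M) (hTM : (T : Subgroup P) ≤ M) :
    Nonempty (Chief (σ.comp d.X.subtype) p) := by
  obtain ⟨v, hv⟩ := hctx.nt
  have hne : (⊤ : AddSubgroup V) ≠ ⊥ := fun e => hv (AddSubgroup.mem_bot.1 (e.le (AddSubgroup.mem_top v)))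
  obtain ⟨z, -, hz0, hz⟩ := exists_fixed_ne_zero hctx.exponent T.2 ⊤ (fun _ _ w _ => AddSubgroup.mem_top (σ _ w)) hne
  refine ⟨(FFMinimal.exists_chief (ρ := σ.comp d.X.subtype) (p := p)
    (fixS (σ.comp d.X.subtype) (Cfsg.pCore p ↥d.X))
    (fun x w hw => fix_normal_inv (PReduced.pCore_normal p _) x hw) le_rfl fun h => hz0 ?_).choose⟩
  let St : Subgroup P :=
    { carrier := {g | σ g z = z}
      one_mem' := app_one z
      mul_mem' := fun {a b} ha hb => by show σ (a * b) z = z; rw [app_mul, hb, ha]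
      inv_mem' := fun {a} ha => by
        show σ a⁻¹ z = z
        conv_lhs => rw [← show σ a z = z from ha]
        rw [app_inv_self] }
  have hTS : (T : Subgroup P) ≤ St := fun t ht => hz t ht
  have hS : fixS (σ.comp d.X.subtype) (d.S : Subgroup ↥d.X) ≤ fixS (σ.comp d.X.subtype) (Cfsg.pCore p ↥d.X) :=
    fix_le (PReduced.pCore_le_sylow d.S)
  have hzS : z ∈ fixS (σ.comp d.X.subtype) (d.S : Subgroup ↥d.X) := fun x hx => hz _ (d.le ⟨x, hx, rfl⟩)
  have hX : d.X ≤ St := fun x hx =>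
    ((PReduced.pResidual_sup_sylow d.S).ge.trans (sup_le (fun y hy => h (hS hzS) y hy) (fun y hy => hzS y hy) :
      _ ≤ St.comap d.X.subtype) (mem_top (⟨x, hx⟩ : ↥d.X)) : (⟨x, hx⟩ : ↥d.X) ∈ St.comap d.X.subtype)
  have htop : St = ⊤ := PMinimal.eq_top_of_not_le T hM hTM hctx.pmin hTS fun hle => d.not_le (hX.trans hle)
  exact AddSubgroup.mem_bot.1 (hctx.fix_top_eq_bot.le fun g _ => (htop.ge (mem_top g) : g ∈ St))

theorem known (hK : Known.{u, v} (P := P) p) (hp : ∀ v : V, p • v = 0) (hTM : (T : Subgroup P) ≤ M)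
    (c : Chief (σ.comp d.X.subtype) p) : Concl c.actBar p :=
  hK c.Xbar c.U c.actBar (d.card_xbar_lt c) (c.ctx (d.xdata hp hTM))

/-- A conjugate of `A` outside `O_p(X)` is seen on the top. -/
theorem seen (hctx : Ctx σ p) (hK : Known.{u, v} (P := P) p) (hTM : (T : Subgroup P) ≤ M)
    (hel : Elem p A) (hle : Nat.card V ≤ wt σ A) (hst : ∀ D ≤ A, D ≠ ⊥ → D ≠ A → wt σ D < wt σ A)
    (c : Chief (σ.comp d.X.subtype) p) {g : P} (hg : cj A g ≤ d.T₀)
    (hnQ : ¬ (cj A g).subgroupOf d.X ≤ Cfsg.pCore p ↥d.X) :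
    c.Seen ((cj A g).subgroupOf d.X) ∧ (cj A g).subgroupOf d.X ≤ (d.S : Subgroup ↥d.X) := by
  have hX := d.xdata hctx.exponent hTM
  have hgX : cj A g ≤ d.X := hg.trans d.T₀_le_X
  have hS : (cj A g).subgroupOf d.X ≤ (d.S : Subgroup ↥d.X) := fun x hx => by
    obtain ⟨y, hy, hyx⟩ := hg hx
    exact d.X.subtype_injective hyx ▸ hy
  have hmap : ((cj A g).subgroupOf d.X).map d.X.subtype = cj A g := by
    rw [subgroupOf_map_subtype, inf_eq_left.2 hgX]
  refine ⟨c.seen hX (fun x hx => Subtype.ext (hctx.faith x hx)) (d.known hK hctx.exponent hTM c) hS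
    ((hel.conj g).subgroupOf _) (fun hle' => hnQ fun x hx => c.K_inf_sylow hX ⟨hle' hx, hS hx⟩)
    (by rw [wt_map_subtype, hmap, wt_cj]; exact hle) fun D hD h0 hne => ?_, hS⟩
  rw [wt_map_subtype, wt_map_subtype, hmap, wt_cj]
  set D' := cj (D.map d.X.subtype) g⁻¹ with hD'
  have hback : cj D' g = D.map d.X.subtype := by
    rw [hD', cj_cj, mul_inv_cancel, cj_eq_of_comm fun a _ => by simp]
  rw [← hback, wt_cj]
  refine hst D' (fun x hx => ?_) (fun e => h0 ?_) fun e => hne ?_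
  · obtain ⟨y, hy, rfl⟩ := hx
    have h1 : y ∈ cj A g := hmap.le (map_mono hD hy)
    obtain ⟨a, ha, rfl⟩ := h1
    show g⁻¹ * (g * a * g⁻¹) * g⁻¹⁻¹ ∈ A
    simpa [mul_assoc] using ha
  · rw [hD', Subgroup.map_eq_bot_iff_of_injective _ (MulAut.conj g⁻¹).injective,
      Subgroup.map_eq_bot_iff_of_injective _ d.X.subtype_injective] at e
    exact e
  · rw [e] at hback
    exact map_injective d.X.subtype_injective (hback.symm.trans hmap.symm)

end Cand

/-- An offender all whose proper nontrivial subgroups do worse does not beat `|V|`. -/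
theorem wt_eq_of_strict (hctx : Ctx σ p) (hK : Known.{u, v} (P := P) p) {A : Subgroup P}
    (hel : Elem p A) (hne : A ≠ ⊥) (hle : Nat.card V ≤ wt σ A)
    (hst : ∀ D ≤ A, D ≠ ⊥ → D ≠ A → wt σ D < wt σ A) : wt σ A = Nat.card V := by
  obtain ⟨T, hAT⟩ := hel.isPGroup.exists_le_sylow
  obtain ⟨M, ⟨hM, hTM⟩, -⟩ := (hctx.pmin T).2
  rcases exists_cases hctx hM hTM hel hne hAT hle hst with ⟨F, _, _, B, -, -⟩ | ⟨⟨d⟩⟩
  · exact B.wt_A
  · obtain ⟨c⟩ := d.exists_chief hctx hM hTM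
    obtain ⟨g, hg, hnQ⟩ := d.member
    obtain ⟨hs, -⟩ := d.seen hctx hK hTM hel hle hst c hg hnQ
    have := hs.wt_eq
    rwa [wt_map_subtype, subgroupOf_map_subtype, inf_eq_left.2 (hg.trans d.T₀_le_X), wt_cj] at this

/-- The bound. -/
theorem bound_of_known (hctx : Ctx σ p) (hK : Known.{u, v} (P := P) p) : Bound σ p := by
  intro D hD
  by_contra hc
  obtain ⟨D₁, hD₁, hmax⟩ := (Set.toFinite {E : Subgroup P | Elem p E ∧ E ≠ ⊥}).exists_maximalFor (wt σ) _
    ⟨D, hD, fun e => hc (by rw [e, wt_bot])⟩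
  have hbig : Nat.card V < wt σ D₁ := by
    rcases le_total (wt σ D₁) (wt σ D) with h | h
    · exact (not_le.1 hc).trans_le (hmax ⟨hD, fun e => hc (by rw [e, wt_bot])⟩ h)
    · exact (not_le.1 hc).trans_le h
  obtain ⟨A, hA, hmin⟩ := (Set.toFinite {E : Subgroup P | Elem p E ∧ E ≠ ⊥ ∧ wt σ D₁ ≤ wt σ E}).exists_minimalFor id _
    ⟨D₁, hD₁.1, hD₁.2, le_rfl⟩
  obtain ⟨hel, hne, hw⟩ := hA
  refine (hbig.trans_le hw).ne' (wt_eq_of_strict hctx hK hel hne (hbig.le.trans hw) fun E hE h0 hne' => ?_)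
  by_contra hlt
  exact hne' (le_antisymm hE (hmin ⟨hel.mono hE, h0, hw.trans (not_lt.1 hlt)⟩ hE))

end Cfsg.Agent.FFMinimal
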