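import Cfsg.Agent.Lib.FFMinimal.Basic

/-!
* `quad_of_strict` : an offender all whose proper nontrivial subgroups do worse acts quadratically
-/

set_option autoImplicit false

namespace Cfsg.Agent.FFMinimal

open Subgroup
open OffenderSL2 (fixS app_mul app_one app_inv_self fix_le card_quotient_mul)

universe u v

variable {P : Type u} [Group P] [Finite P] {V : Type v} [AddCommGroup V] [Finite V]
  {σ : P →* AddMonoid.End V} {p : ℕ} [Fact p.Prime]

theorem quad_of_strict (hp : ∀ v : V, p • v = 0) {A : Subgroup P} (hel : Elem p A)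
    (hle : Nat.card V ≤ wt σ A) (hst : ∀ D ≤ A, D ≠ ⊥ → D ≠ A → wt σ D < wt σ A) :
    comS σ A ≤ fixS σ A := by
  classical
  refine comS_le fun b hb v d hd => ?_
  revert b d
  by_contra hcon
  let A₀ : Subgroup P :=
    { carrier := {d | d ∈ A ∧ ∀ b ∈ A, σ d (σ b v - v) = σ b v - v}
      one_mem' := ⟨one_mem A, fun b _ => app_one _⟩
      mul_mem' := fun {d e} hd he => ⟨mul_mem hd.1 he.1, fun b hb => by rw [app_mul, he.2 b hb, hd.2 b hb]⟩
      inv_mem' := fun {d} hd => ⟨inv_mem hd.1, fun b hb => by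
        conv_lhs => rw [← hd.2 b hb]
        rw [app_inv_self]⟩ }
  have hA₀ : A₀ ≤ A := fun d hd => hd.1
  have hne : A₀ ≠ A := fun e => hcon fun b hb d hd => (e.ge hd : d ∈ A₀).2 b hb
  let f : ↥A → V := fun a => σ (a : P) v - v
  have hsep : ∀ a b : ↥A, f a - f b ∈ fixS σ A → ((a⁻¹ * b : ↥A) : P) ∈ A₀ := by
    intro a b hab
    refine ⟨(a⁻¹ * b).2, fun c hc => ?_⟩
    have hd := hab c hc
    simp only [f, map_sub] at hd
    rw [← app_mul, ← app_mul, hel.comm c hc a a.2, hel.comm c hc b b.2, app_mul, app_mul] at hd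
    have hab' : σ (b : P) (σ c v - v) = σ (a : P) (σ c v - v) := by
      rw [map_sub, map_sub]
      calc σ (b : P) (σ c v) - σ (b : P) v = σ (a : P) (σ c v) - σ (a : P) v -
            (σ (a : P) (σ c v) - σ c v - (σ (b : P) (σ c v) - σ c v) - (σ (a : P) v - v - (σ (b : P) v - v))) := by abel
        _ = σ (a : P) (σ c v) - σ (a : P) v := by rw [hd, sub_self, sub_zero]
    rw [Subgroup.coe_mul, Subgroup.coe_inv, app_mul, hab', app_inv_self]
  by_cases h0 : A₀ = ⊥
  · let g : ↥A → V ⧸ fixS σ A := fun a => QuotientAddGroup.mk (f a)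
    have hg : Function.Injective g := fun a b hab => by
      have := hsep a b (QuotientAddGroup.eq_iff_sub_mem.1 hab)
      rw [h0, Subgroup.mem_bot] at this
      exact inv_mul_eq_one.1 (Subtype.ext this)
    have hcard : Nat.card (V ⧸ fixS σ A) ≤ Nat.card ↥A := by
      refine Nat.le_of_mul_le_mul_right ?_ (Nat.card_pos : 0 < Nat.card ↥(fixS σ A))
      rw [← AddSubgroup.card_eq_card_quotient_mul_card_addSubgroup]
      exact hle
    obtain ⟨a, ha⟩ := ((Nat.bijective_iff_injective_and_card g).2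
      ⟨hg, le_antisymm (Nat.card_le_card_of_injective g hg) hcard⟩).2 (v : V ⧸ fixS σ A)
    have hk : v - (σ (a : P) v - v) ∈ fixS σ A := QuotientAddGroup.eq_iff_sub_mem.1 ha.symm
    set k := v - (σ (a : P) v - v) with hkdef
    set w := v - k with hw
    have hstep : σ (a : P) w = 2 • w := by
      rw [hw, map_sub, hk a a.2, hkdef, two_nsmul]; abel
    have hpow : ∀ n : ℕ, σ ((a : P) ^ n) w = (2 ^ n : ℕ) • w := by
      intro n
      induction n with
      | zero => rw [pow_zero, app_one, pow_zero, one_nsmul]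
      | succ n ih => rw [pow_succ', app_mul, ih, map_nsmul, hstep, ← mul_nsmul', pow_succ]
    have h1 := hpow p
    rw [hel.pow_eq a a.2, app_one] at h1
    have h2 : (2 ^ p : ℕ) • w = (2 : ℕ) • w := by
      have hm : 2 ^ p % p = 2 % p := (ZMod.natCast_eq_natCast_iff' _ _ p).1 (by
        rw [Nat.cast_pow, ZMod.pow_card])
      rw [← Nat.mod_add_div (2 ^ p) p, hm, add_nsmul, mul_nsmul, hp, smul_zero, add_zero]
      conv_rhs => rw [← Nat.mod_add_div 2 p, add_nsmul, mul_nsmul, hp, smul_zero, add_zero]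
    rw [h2, two_nsmul, left_eq_add] at h1
    refine hcon fun b hb d _ => ?_
    rw [hw, sub_eq_zero] at h1
    rw [h1, hk b hb, sub_self, map_zero]
  · refine absurd (hst A₀ hA₀ h0 hne) (not_lt.2 ?_)
    let K₀ := (fixS σ A).addSubgroupOf (fixS σ A₀)
    let g : ↥A ⧸ A₀.subgroupOf A → ↥(fixS σ A₀) ⧸ K₀ :=
      fun q => QuotientAddGroup.mk ⟨f q.out, fun d hd => hd.2 _ q.out.2⟩
    have hg : Function.Injective g := by
      intro q r hqr
      rw [← QuotientGroup.out_eq' q, ← QuotientGroup.out_eq' r, QuotientGroup.eq]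
      exact Subgroup.mem_subgroupOf.2 (hsep _ _
        (AddSubgroup.mem_addSubgroupOf.1 (QuotientAddGroup.eq_iff_sub_mem.1 hqr)))
    have h1 := Nat.card_le_card_of_injective g hg
    have h2 : Nat.card ↥(fixS σ A₀) = Nat.card (↥(fixS σ A₀) ⧸ K₀) * Nat.card ↥(fixS σ A) := by
      rw [AddSubgroup.card_eq_card_quotient_mul_card_addSubgroup K₀,
        Nat.card_congr (AddSubgroup.addSubgroupOfEquivOfLe (fix_le hA₀)).toEquiv]
    rw [wt, wt, h2, ← card_quotient_mul A₀ A hA₀]
    calc Nat.card (↥A ⧸ A₀.subgroupOf A) * Nat.card ↥A₀ * Nat.card ↥(fixS σ A)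
        ≤ Nat.card (↥(fixS σ A₀) ⧸ K₀) * Nat.card ↥A₀ * Nat.card ↥(fixS σ A) :=
          Nat.mul_le_mul_right _ (Nat.mul_le_mul_right _ h1)
      _ = Nat.card ↥A₀ * (Nat.card (↥(fixS σ A₀) ⧸ K₀) * Nat.card ↥(fixS σ A)) := by ring

end Cfsg.Agent.FFMinimal
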