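import Cfsg.Agent.Lib.FFMinimal.Chief
import Cfsg.Agent.Lib.FFMinimal.Quad
import Cfsg.Agent.Lib.FFMinimal.Crd

/-!
An offender of a group acting on `V` that is seen by the irreducible top `U` of a chief submodule.

* `Chief.wt_le_wt_inf` : an offender is dominated by its part acting trivially on `U`
* `Chief.residual_trivial` : `O^p(X)` is trivial on `V/V₁`
* `Chief.minOff_image` : the image is a minimal offender on `U`
* `Chief.lift_block` : a block on `U` lifts to a block on `V`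
-/

set_option autoImplicit false

namespace Cfsg.Agent.FFMinimal

open Subgroup
open scoped MatrixGroups
open OffenderSL2 (fixS cj app_mul app_one app_inv_self app_self_inv fix_le fix_sup mem_fix_cj apply_mem_fix_cj)

universe u v

variable {X : Type u} [Group X] {V : Type v} [AddCommGroup V] {ρ : X →* AddMonoid.End V} {p : ℕ}

namespace Chief

variable (c : Chief ρ p)

/-- The image of a subgroup in the group acting on the top. -/
abbrev img (A : Subgroup X) : Subgroup c.Xbar := A.map (QuotientGroup.mk' c.K)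

theorem fix_img (A : Subgroup X) : fixS c.actBar (c.img A) = fixS c.actU A := fix_kerAct _ A

theorem cls_mem_fix {H : Subgroup X} {v : V} (hv : v ∈ c.V₁) :
    c.cls hv ∈ fixS c.actU H ↔ ∀ h ∈ H, ρ h v - v ∈ c.C :=
  ⟨fun h g hg => (c.cls_eq (c.inv g v hv) hv).1 (h g hg),
    fun h g hg => (c.cls_eq (c.inv g v hv) hv).2 (h g hg)⟩

/-- The full preimage of `C_U(H)`. -/
def pre (H : Subgroup X) : AddSubgroup V :=
  ((fixS c.actU H).comap (QuotientAddGroup.mk' c.C₁)).map c.V₁.subtype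

theorem mem_pre {H : Subgroup X} {v : V} :
    v ∈ c.pre H ↔ v ∈ c.V₁ ∧ ∀ h ∈ H, ρ h v - v ∈ c.C := by
  constructor
  · rintro ⟨⟨w, hw⟩, h, rfl⟩
    exact ⟨hw, (c.cls_mem_fix hw).1 h⟩
  · rintro ⟨hv, h⟩
    exact ⟨⟨v, hv⟩, (c.cls_mem_fix hv).2 h, rfl⟩

theorem pre_le (H : Subgroup X) : c.pre H ≤ c.V₁ := fun _ hv => (c.mem_pre.1 hv).1

theorem C_le_pre (H : Subgroup X) : c.C ≤ c.pre H := fun _ hv =>
  c.mem_pre.2 ⟨c.C_le hv, fun h _ => sub_mem (c.inv_C h hv) hv⟩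

theorem fix_inf_le_pre (H : Subgroup X) : fixS ρ H ⊓ c.V₁ ≤ c.pre H := fun v hv =>
  c.mem_pre.2 ⟨hv.2, fun h hh => by rw [hv.1 h hh, sub_self]; exact zero_mem _⟩

theorem card_pre [Finite V] (H : Subgroup X) :
    Nat.card ↥(c.pre H) = Nat.card ↥(fixS c.actU H) * Nat.card ↥c.C := by
  set S := fixS c.actU H
  set f := QuotientAddGroup.mk' c.C₁
  rw [pre, Nat.card_congr ((S.comap f).equivMapOfInjective c.V₁.subtype Subtype.val_injective).symm.toEquiv]
  have h1 : Nat.card ↥(S.comap f) * (S.comap f).index = Nat.card ↥c.V₁ := AddSubgroup.card_mul_index _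
  have h2 : Nat.card ↥S * S.index = Nat.card c.U := AddSubgroup.card_mul_index _
  rw [AddSubgroup.index_comap_of_surjective _ (QuotientAddGroup.mk'_surjective c.C₁), c.card_U, ← h2] at h1
  refine Nat.eq_of_mul_eq_mul_right (Nat.pos_of_ne_zero S.index_ne_zero_of_finite) (h1.trans ?_)
  ring

variable [Finite X] [Finite V] [Fact p.Prime]

theorem card_img_mul (A : Subgroup X) :
    Nat.card ↥(c.img A) * Nat.card ↥(A ⊓ c.K : Subgroup X) = Nat.card ↥A := by
  set f := (QuotientGroup.mk' c.K).comp A.subtype with hf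
  have h1 : f.ker = (A ⊓ c.K).subgroupOf A := by
    ext a
    simp [hf, Subgroup.mem_subgroupOf, MonoidHom.mem_ker]
  have h2 : f.range = c.img A := by rw [hf, MonoidHom.range_comp, Subgroup.range_subtype]
  rw [Subgroup.card_eq_card_quotient_mul_card_subgroup f.ker,
    Nat.card_congr (QuotientGroup.quotientKerEquivRange f).toEquiv, h2, h1,
    Nat.card_congr (Subgroup.subgroupOfEquivOfLe inf_le_left).toEquiv]

section

variable {S : Sylow p X} {M : Subgroup X} (hX : XData (V := V) p S M)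
include hX

theorem elem_img {A : Subgroup X} (hA : Elem p A) : Elem p (c.img A) := by
  refine ⟨?_, ?_⟩
  · rintro _ ⟨a, ha, rfl⟩ _ ⟨b, hb, rfl⟩
    rw [← map_mul, hA.comm a ha b hb, map_mul]
  · rintro _ ⟨a, ha, rfl⟩
    rw [← map_pow, hA.pow_eq a ha, map_one]

/-- The fundamental inequality. -/
theorem wt_le_wt_inf (hB : Bound c.actBar p) {A : Subgroup X} (hA : Elem p A) :
    wt ρ A ≤ wt ρ (A ⊓ c.K) := by
  have hU : Nat.card ↥(c.img A) * Nat.card ↥(fixS c.actU A) ≤ Nat.card c.U := by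
    have := hB _ (c.elem_img hX hA)
    rwa [wt, c.fix_img] at this
  have hsup : fixS ρ A ⊔ c.V₁ ≤ fixS ρ (A ⊓ c.K) := sup_le (fix_le inf_le_left)
    fun v hv k hk => c.app_eq_of_ker hX hk.2 hv
  have h1 := card_sup_mul_inf (fixS ρ A) c.V₁
  have h2 : Nat.card ↥(fixS ρ A ⊓ c.V₁ : AddSubgroup V) ≤ Nat.card ↥(fixS c.actU A) * Nat.card ↥c.C := by
    rw [← c.card_pre]
    exact Nat.card_le_card_of_injective _ (Set.inclusion_injective (c.fix_inf_le_pre A))
  have h3 : Nat.card ↥(fixS ρ A ⊔ c.V₁ : AddSubgroup V) ≤ Nat.card ↥(fixS ρ (A ⊓ c.K)) :=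
    Nat.card_le_card_of_injective _ (Set.inclusion_injective hsup)
  refine Nat.le_of_mul_le_mul_right ?_ (Nat.mul_pos (Nat.card_pos : 0 < Nat.card ↥(fixS c.actU A))
    (Nat.card_pos : 0 < Nat.card ↥c.C))
  rw [wt, wt, ← c.card_img_mul A]
  calc _ = Nat.card ↥(A ⊓ c.K : Subgroup X) * Nat.card ↥(fixS ρ A) *
        (Nat.card ↥(c.img A) * Nat.card ↥(fixS c.actU A) * Nat.card ↥c.C) := by ring
    _ ≤ Nat.card ↥(A ⊓ c.K : Subgroup X) * Nat.card ↥(fixS ρ A) * (Nat.card c.U * Nat.card ↥c.C) :=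
        Nat.mul_le_mul_left _ (Nat.mul_le_mul_right _ hU)
    _ = Nat.card ↥(A ⊓ c.K : Subgroup X) *
        (Nat.card ↥(fixS ρ A ⊔ c.V₁ : AddSubgroup V) * Nat.card ↥(fixS ρ A ⊓ c.V₁ : AddSubgroup V)) := by
        rw [h1, c.card_U]; ring
    _ ≤ Nat.card ↥(A ⊓ c.K : Subgroup X) *
        (Nat.card ↥(fixS ρ (A ⊓ c.K)) * (Nat.card ↥(fixS c.actU A) * Nat.card ↥c.C)) :=
        Nat.mul_le_mul_left _ (Nat.mul_le_mul h3 h2)
    _ = _ := by ring

/-- If a subgroup of the Sylow subgroup outside `K` is trivial on `V/V₁`, so is `O^p(X)`. -/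
theorem residual_trivial {A : Subgroup X} (hAS : A ≤ (S : Subgroup X)) (hAK : ¬ A ≤ c.K)
    (hA : ∀ a ∈ A, ∀ v, ρ a v - v ∈ c.V₁) :
    ∀ o ∈ Cfsg.pResidual p X, ∀ v, ρ o v - v ∈ c.V₁ := by
  let N : Subgroup X :=
    { carrier := {g | ∀ v, ρ g v - v ∈ c.V₁}
      one_mem' := fun v => by rw [app_one, sub_self]; exact zero_mem _
      mul_mem' := fun {a b} ha hb v => by
        rw [app_mul, show ρ a (ρ b v) - v = (ρ a (ρ b v) - ρ b v) + (ρ b v - v) by abel]
        exact add_mem (ha _) (hb v)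
      inv_mem' := fun {a} ha v => by
        have := neg_mem (ha (ρ a⁻¹ v))
        rwa [app_self_inv, neg_sub] at this }
  haveI : N.Normal := ⟨fun a ha g v => by
    have := c.inv g _ (ha (ρ g⁻¹ v))
    rwa [map_sub, app_self_inv, ← app_mul, ← app_mul] at this⟩
  rcases PMinimal.le_or_le S hX.coatom hX.sylow_le hX.pmin N with h | h
  · exact fun o ho => h ho
  · refine absurd (fun a ha => c.mem_K.2 fun v hv => ?_) hAK
    have h1 := PMinimal.sylow_inf_normal_le_pCore S hX.coatom hX.sylow_le hX.pmin N h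
      ⟨show a ∈ N from hA a ha, hAS ha⟩
    rw [c.coreFix hv a h1, sub_self]
    exact zero_mem _

end

/-- A minimal offender of `X` seen on `U`. -/
structure Seen (A : Subgroup X) : Prop where
  elem : Elem p A
  inf : A ⊓ c.K = ⊥
  wt_eq : wt ρ A = Nat.card V
  sup : fixS ρ A ⊔ c.V₁ = ⊤
  pre : c.pre A ≤ fixS ρ A
  triv : ∀ a ∈ A, ∀ v, ρ a v - v ∈ c.V₁
  minOff : MinOff c.actBar p (c.img A)

section

variable {S : Sylow p X} {M : Subgroup X} (hX : XData (V := V) p S M)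
  (hf : ∀ x : X, (∀ v, ρ x v = v) → x = 1) (ih : Concl c.actBar p)
include hX hf ih

theorem seen {A : Subgroup X} (hAS : A ≤ (S : Subgroup X)) (hel : Elem p A) (hAK : ¬ A ≤ c.K)
    (hle : Nat.card V ≤ wt ρ A) (hst : ∀ D ≤ A, D ≠ ⊥ → D ≠ A → wt ρ D < wt ρ A) : c.Seen A := by
  classical
  have hinf : A ⊓ c.K = ⊥ := by
    by_contra h
    exact absurd (c.wt_le_wt_inf hX ih.bound hel)
      (not_le.2 (hst _ inf_le_left h fun e => hAK (inf_eq_left.1 e)))
  have hwt : wt ρ A = Nat.card V := le_antisymm (by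
    have := c.wt_le_wt_inf hX ih.bound hel
    rwa [hinf, wt_bot] at this) hle
  have hn : Nat.card ↥(c.img A) = Nat.card ↥A := by
    have := c.card_img_mul A
    rwa [hinf, card_bot, mul_one] at this
  have hU : Nat.card ↥A * Nat.card ↥(fixS c.actU A) ≤ Nat.card c.U := by
    have := ih.bound _ (c.elem_img hX hel)
    rwa [wt, c.fix_img, hn] at this
  set a := Nat.card ↥(fixS ρ A) with ha
  set n := Nat.card ↥A with hnn
  set fb := Nat.card ↥(fixS c.actU A) with hfb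
  set c₀ := Nat.card ↥c.C with hc₀
  set b := Nat.card ↥(fixS ρ A ⊓ c.V₁ : AddSubgroup V) with hb
  set s := Nat.card ↥(fixS ρ A ⊔ c.V₁ : AddSubgroup V) with hs
  have h1 : s * b = a * (Nat.card c.U * c₀) := by
    rw [hs, hb, card_sup_mul_inf, c.card_U]
  have h2 : b ≤ fb * c₀ := by
    rw [hfb, hc₀, ← c.card_pre]
    exact Nat.card_le_card_of_injective _ (Set.inclusion_injective (c.fix_inf_le_pre A))
  have h3 : s ≤ Nat.card V := AddSubgroup.card_le_card_addGroup _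
  have hV : n * a = Nat.card V := hwt
  have hb0 : 0 < b := Nat.card_pos
  have hc0 : 0 < c₀ := Nat.card_pos
  have ha0 : 0 < a := Nat.card_pos
  have key : Nat.card V * (fb * c₀) ≤ s * b := by
    rw [h1, ← hV]
    calc n * a * (fb * c₀) = a * ((n * fb) * c₀) := by ring
      _ ≤ a * (Nat.card c.U * c₀) := Nat.mul_le_mul_left _ (Nat.mul_le_mul_right _ hU)
  have hbeq : b = fb * c₀ := le_antisymm h2 (Nat.le_of_mul_le_mul_left
    (key.trans (Nat.mul_le_mul_right _ h3)) Nat.card_pos)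
  have hseq : s = Nat.card V := le_antisymm h3 (Nat.le_of_mul_le_mul_right
    (le_trans (le_of_eq (by rw [hbeq])) key) hb0)
  have hUeq : Nat.card c.U = n * fb := by
    rw [hseq, hbeq, ← hV] at h1
    refine Nat.eq_of_mul_eq_mul_left ha0 (Nat.eq_of_mul_eq_mul_right hc0 ?_)
    calc a * Nat.card c.U * c₀ = a * (Nat.card c.U * c₀) := by ring
      _ = a * (n * fb) * c₀ := by rw [← h1]; ring
  have hsup : fixS ρ A ⊔ c.V₁ = ⊤ := AddSubgroup.eq_top_of_le_card _ (by rw [← hs, hseq])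
  have heq : fixS ρ A ⊓ c.V₁ = c.pre A := by
    refine SetLike.coe_injective (Set.eq_of_subset_of_ncard_le (c.fix_inf_le_pre A) ?_ (Set.toFinite _))
    rw [← Nat.card_coe_set_eq, ← Nat.card_coe_set_eq]
    show Nat.card ↥(c.pre A) ≤ b
    rw [c.card_pre, hbeq]
  have hpre : c.pre A ≤ fixS ρ A := heq ▸ inf_le_left
  have hC : c.C ≤ fixS ρ A := (c.C_le_pre A).trans hpre
  have htriv : ∀ x ∈ A, ∀ v, ρ x v - v ∈ c.V₁ := fun x hx v => by
    obtain ⟨f, hfv, w, hw, rfl⟩ := AddSubgroup.mem_sup.1 (hsup.ge (AddSubgroup.mem_top v))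
    rw [map_add, hfv x hx, add_sub_add_left_eq_sub]
    exact sub_mem (c.inv x w hw) hw
  refine ⟨hel, hinf, hwt, hsup, hpre, htriv, ?_⟩
  have hq := quad_of_strict hX.exponent hel hle hst
  have hoff : Off c.actBar p (c.img A) := ⟨c.elem_img hX hel, fun e => hAK (by
    rw [← QuotientGroup.ker_mk' c.K]; exact (map_eq_bot_iff A).1 e), by
    rw [wt, c.fix_img, hn, hUeq]⟩
  refine ⟨hoff, fun D' hD' ho => ?_⟩
  obtain ⟨D₀, hD₀, hm⟩ := exists_minOff ho
  suffices hD : D₀ = c.img A from le_antisymm hD' (hD ▸ hD₀)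
  set D := A ⊓ D₀.comap (QuotientGroup.mk' c.K) with hDdef
  have hDmap : c.img D = D₀ := by
    refine le_antisymm (fun x hx => ?_) fun x hx => ?_
    · obtain ⟨d, hd, rfl⟩ := hx
      exact hd.2
    · obtain ⟨d, hd, rfl⟩ := hD₀.trans hD' hx
      exact ⟨d, ⟨hd, hx⟩, rfl⟩
  have hDA : D ≤ A := inf_le_left
  by_contra hne
  have hDne : D ≠ ⊥ := fun e => hm.off.ne (by rw [← hDmap, e, img, Subgroup.map_bot])
  have hDneA : D ≠ A := fun e => hne (by rw [← hDmap, e])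
  -- the preimage of the fixed points on `U` is fixed
  have hmem : ∀ {d : X}, d ∈ D → (d : c.Xbar) ∈ D₀ := fun hd => hd.2
  have hAS' : c.img A ≤ ((c.sylowBar S : Sylow p c.Xbar) : Subgroup c.Xbar) := by
    rw [c.sylowBar_coe hX]; exact map_mono hAS
  obtain ⟨F, _, _, B₀, hB₀, -⟩ := ih.outside (c.sylowBar S) (c.MBar M) (c.coatom_MBar hX).1
    (by rw [c.sylowBar_coe hX]; exact map_mono hX.sylow_le) D₀ hm ((hD₀.trans hD').trans hAS')
  let Good : AddSubgroup c.U := ((fixS ρ D).addSubgroupOf c.V₁).map (QuotientAddGroup.mk' c.C₁)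
  have hGood : ∀ g : c.Xbar, (∀ a ∈ D₀, ∀ b ∈ cj D₀ g, a * b = b * a) →
      comS c.actBar (cj D₀ g) ≤ Good := by
    intro g hg
    refine comS_le fun β hβ u => ?_
    by_cases hgD : cj D₀ g = D₀
    · rw [hgD, ← hDmap] at hβ
      obtain ⟨d₁, hd₁, rfl⟩ := hβ
      obtain ⟨w, hw, rfl⟩ := c.exists_cls u
      exact ⟨⟨ρ d₁ w - w, sub_mem (c.inv _ _ hw) hw⟩, fun d hd =>
        hq (sub_mem_comS (hDA hd₁) w) d (hDA hd), rfl⟩
    · obtain ⟨δ, hδ, rfl⟩ := hβ
      obtain ⟨x, rfl⟩ := QuotientGroup.mk'_surjective c.K g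
      obtain ⟨d₁, hd₁, rfl⟩ := hDmap.ge hδ
      obtain ⟨u₁, hu₁, u₂, hu₂, rfl⟩ := AddSubgroup.mem_sup.1
        ((sup_fix_eq_top ih.bound hm.off (hm.off.conj _)
          (inf_eq_bot (c.exponentU hX.exponent) (kerAct_faith c.actU) ih.bound B₀ hm (hm.conj _)
            (B₀.conj _) hgD) hg).ge (AddSubgroup.mem_top u))
      rw [← hDmap, c.fix_img] at hu₁
      obtain ⟨w, hw, rfl⟩ := c.exists_cls u₁
      have hbk : ((MulAut.conj (QuotientGroup.mk' c.K x)).toMonoidHom (QuotientGroup.mk' c.K d₁)) =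
          ((x * d₁ * x⁻¹ : X) : c.Xbar) := by
        show (QuotientGroup.mk' c.K x) * (QuotientGroup.mk' c.K d₁) * (QuotientGroup.mk' c.K x)⁻¹ = _
        rw [← map_inv, ← map_mul, ← map_mul]; rfl
      have hb : ((x * d₁ * x⁻¹ : X) : c.Xbar) ∈ cj D₀ (QuotientGroup.mk' c.K x) :=
        hbk ▸ ⟨_, hδ, rfl⟩
      rw [hbk]
      rw [map_add, add_sub_add_comm, hu₂ _ hb, sub_self, add_zero]
      set bb := x * d₁ * x⁻¹ with hbb
      refine ⟨⟨ρ bb w - w, sub_mem (c.inv _ _ hw) hw⟩, fun d hd => ?_, rfl⟩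
      show ρ d (ρ bb w - w) = ρ bb w - w
      have hcw : ρ d w - w ∈ c.C := (c.cls_mem_fix hw).1 hu₁ d hd
      have hbc : ∀ v ∈ c.C, ρ bb v = v := fun v hv => by
        rw [hbb, app_mul, app_mul, hC (c.inv_C x⁻¹ hv) _ (hDA hd₁), app_self_inv]
      have hk : (d * bb)⁻¹ * (bb * d) ∈ c.K := by
        refine (QuotientGroup.eq_one_iff _).1 ?_
        show QuotientGroup.mk' c.K ((d * bb)⁻¹ * (bb * d)) = 1
        rw [map_mul, map_inv, map_mul, map_mul]
        show ((d : c.Xbar) * (bb : c.Xbar))⁻¹ * ((bb : c.Xbar) * (d : c.Xbar)) = 1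
        rw [hg _ (hmem hd) _ hb, inv_mul_cancel]
      have e : ρ d (ρ bb w) = ρ bb (ρ d w) := by
        conv_lhs => rw [← c.app_eq_of_ker hX hk hw]
        rw [← app_mul, ← app_mul, ← app_mul]
        congr 2
        group
      rw [map_sub, e, show ρ d w = w + (ρ d w - w) by abel, map_add, hbc _ hcw]
      abel
  have hpreD : c.pre D ≤ fixS ρ D := by
    intro v hv
    obtain ⟨hv1, hv2⟩ := c.mem_pre.1 hv
    have h5 : c.cls hv1 ∈ Good := by
      refine ((AddSubgroup.closure_le _).2 ?_) (ih.spanned D₀ hm (x := c.cls hv1) ?_)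
      · rintro _ ⟨g, hg, hw⟩
        exact hGood g hg hw
      · rw [← hDmap, c.fix_img]
        exact (c.cls_mem_fix hv1).2 hv2
    obtain ⟨⟨w, hw⟩, hwD, hwv⟩ := h5
    rw [show v = (v - w) + w by abel]
    exact add_mem (fix_le hDA (hC ((c.cls_eq hv1 hw).1 hwv.symm))) hwD
  -- counting
  have h6 := card_sup_mul_inf (fixS ρ A) (c.pre D)
  have h7 : Nat.card ↥(fixS ρ A ⊔ c.pre D : AddSubgroup V) ≤ Nat.card ↥(fixS ρ D) :=
    Nat.card_le_card_of_injective (Set.inclusion (sup_le (fix_le hDA) hpreD : fixS ρ A ⊔ c.pre D ≤ fixS ρ D))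
      (Set.inclusion_injective _)
  have h8 : Nat.card ↥(fixS ρ A ⊓ c.pre D : AddSubgroup V) ≤ b :=
    Nat.card_le_card_of_injective _ (Set.inclusion_injective
      (inf_le_inf_left _ (c.pre_le D)))
  have h9 : Nat.card c.U ≤ Nat.card ↥D * Nat.card ↥(fixS c.actU D) := by
    refine hm.off.le.trans ?_
    rw [wt, ← hDmap, c.fix_img]
    exact Nat.mul_le_mul_right _ (Nat.le_of_dvd Nat.card_pos (card_map_dvd _ _))
  refine absurd (hst D hDA hDne hDneA) (not_lt.2 ?_)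
  rw [hwt, wt]
  refine Nat.le_of_mul_le_mul_right ?_ hb0
  calc Nat.card V * b = a * (Nat.card c.U * c₀) := by rw [← h1, hseq]
    _ ≤ a * (Nat.card ↥D * Nat.card ↥(fixS c.actU D) * c₀) :=
        Nat.mul_le_mul_left _ (Nat.mul_le_mul_right _ h9)
    _ = Nat.card ↥D * (a * Nat.card ↥(c.pre D)) := by rw [c.card_pre]; ring
    _ = Nat.card ↥D * (Nat.card ↥(fixS ρ A ⊔ c.pre D : AddSubgroup V) *
          Nat.card ↥(fixS ρ A ⊓ c.pre D : AddSubgroup V)) := by rw [h6]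
    _ ≤ Nat.card ↥D * (Nat.card ↥(fixS ρ D) * b) :=
        Nat.mul_le_mul_left _ (Nat.mul_le_mul h7 h8)
    _ = _ := by ring

omit hX hf ih in
theorem Seen.exists_split {A : Subgroup X} (hs : c.Seen A) (x : X) (v : V)
    (hU : fixS c.actU A ⊔ fixS c.actU (cj A x) = ⊤) :
    ∃ z ∈ fixS ρ (A ⊔ cj A x), ∃ w ∈ c.V₁, v = z + w := by
  obtain ⟨f, hf, w₀, hw₀, rfl⟩ := AddSubgroup.mem_sup.1 (hs.sup.ge (AddSubgroup.mem_top v))
  obtain ⟨f₁, hf₁, w₁, hw₁, e⟩ := AddSubgroup.mem_sup.1 (hs.sup.ge (AddSubgroup.mem_top (ρ x⁻¹ f)))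
  have hw₁' : ρ x w₁ ∈ c.V₁ := c.inv x w₁ hw₁
  obtain ⟨u₁, hu₁, u₂, hu₂, hu⟩ := AddSubgroup.mem_sup.1 (hU.ge (AddSubgroup.mem_top (c.cls hw₁')))
  obtain ⟨a₁, ha₁, rfl⟩ := c.exists_cls u₁
  have ha₁f : a₁ ∈ fixS ρ A := hs.pre (c.mem_pre.2 ⟨ha₁, (c.cls_mem_fix ha₁).1 hu₁⟩)
  refine ⟨f - a₁, fix_sup _ _ (sub_mem hf ha₁f) (mem_fix_cj.2 ?_), a₁ + w₀, add_mem ha₁ hw₀, by abel⟩
  have hd : ρ x w₁ - a₁ ∈ c.V₁ := sub_mem hw₁' ha₁
  have hcls : c.cls hd = u₂ := by
    show c.cls hw₁' - c.cls ha₁ = u₂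
    rw [← hu, add_sub_cancel_left]
  have h2 : ρ x⁻¹ (ρ x w₁ - a₁) ∈ fixS ρ A := by
    refine hs.pre (c.mem_pre.2 ⟨c.inv _ _ hd, (c.cls_mem_fix (c.inv _ _ hd)).1 ?_⟩)
    rw [← c.actU_cls x⁻¹ hd, hcls]
    exact mem_fix_cj.1 hu₂
  rw [show f = ρ x f₁ + ρ x w₁ by rw [← map_add, e, app_self_inv], add_sub_assoc, map_add, app_inv_self]
  exact add_mem hf₁ h2

/-- A block on `U` lifts to a block on `V`. -/
theorem lift_block {A : Subgroup X} (hs : c.Seen A) (hAS : A ≤ (S : Subgroup X)) :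
    ∃ (F : Type) (_ : Field F) (_ : Finite F) (B : Block ρ F A) (B₀ : Block c.actBar F (c.img A)),
      (∀ g, (B.φ g : c.Xbar) = B₀.φ g) ∧ B₀.hh = 0 ∧ ¬ B.grp ≤ M ∧ (∀ x, B.hh x ∈ c.C) ∧
      ∀ g ∈ B.grp, ∀ v, ρ g v - v ∈ c.V₁ := by
  classical
  obtain ⟨F, iF, fF, B₀, hB₀, hout⟩ := ih.outside (c.sylowBar S) (c.MBar M) (c.coatom_MBar hX).1
    (by rw [c.sylowBar_coe hX]; exact map_mono hX.sylow_le) (c.img A) hs.minOff
    (by rw [c.sylowBar_coe hX]; exact map_mono hAS)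
  obtain ⟨x, hx⟩ := QuotientGroup.mk'_surjective c.K (B₀.φ wSL)
  set E := A ⊔ cj A x with hE
  have hcj : c.img (cj A x) = cj (c.img A) (B₀.φ wSL) := by
    show (A.map _).map _ = (A.map _).map _
    rw [← hx, Subgroup.map_map, Subgroup.map_map]
    congr 1
  have himg : c.img E = B₀.grp := by
    show E.map _ = _
    rw [hE, Subgroup.map_sup, B₀.grp_eq, ← hcj]
  have hfixE : fixS c.actU E = B₀.C := by rw [← c.fix_img, himg, B₀.fix_grp]
  have hU : fixS c.actU A ⊔ fixS c.actU (cj A x) = ⊤ := by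
    rw [eq_top_iff]
    intro u _
    obtain ⟨k, hk, a, b, rfl⟩ := B₀.decomp u
    rw [← c.fix_img, ← c.fix_img (cj A x), hcj]
    refine add_mem (AddSubgroup.mem_sup_left (B₀.mem_fix_A.2 ⟨k, hk, a, rfl⟩)) (AddSubgroup.mem_sup_right ?_)
    have := apply_mem_fix_cj (σ := c.actBar) (B₀.φ wSL) (neg_mem (B₀.lam_mem_fix b))
    rwa [map_neg, B₀.w_lam, neg_neg] at this
  have hsplit : ∀ v, ∃ z ∈ fixS ρ E, ∃ w ∈ c.V₁, v = z + w := fun v => hs.exists_split c x v hU
  choose zf hz wf hw hv using hsplit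
  have htriv : ∀ g ∈ E, ∀ v, ρ g v - v ∈ c.V₁ := by
    intro g hg v
    conv => arg 2; rw [hv v, map_add, hz v g hg, add_sub_add_left_eq_sub]
    exact sub_mem (c.inv g _ (hw v)) (hw v)
  have hinj : ∀ g ∈ E, (g : c.Xbar) = 1 → g = 1 := fun g hg hg1 => hf g fun v => by
    rw [hv v, map_add, hz v g hg, c.app_eq_of_ker hX ((QuotientGroup.eq_one_iff g).1 hg1) (hw v)]
  let f : ↥E →* c.Xbar := (QuotientGroup.mk' c.K).comp E.subtype
  have hfinj : Function.Injective f := (injective_iff_map_eq_one f).2 fun g hg =>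
    Subtype.ext (hinj g g.2 hg)
  have hfr : ∀ g, B₀.φ g ∈ f.range := fun g => by
    rw [MonoidHom.range_comp, Subgroup.range_subtype]
    exact himg.ge ⟨g, rfl⟩
  let e := MonoidHom.ofInjective hfinj
  let φ : SL(2, F) →* X := E.subtype.comp (e.symm.toMonoidHom.comp (B₀.φ.codRestrict f.range hfr))
  have hφ : ∀ g, ((φ g : X) : c.Xbar) = B₀.φ g := fun g => by
    have h := e.apply_symm_apply ⟨B₀.φ g, hfr g⟩
    exact congrArg Subtype.val h
  have hφE : ∀ g, φ g ∈ E := fun g => SetLike.coe_mem _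
  have hrange : φ.range = E := by
    refine le_antisymm (by rintro _ ⟨g, rfl⟩; exact hφE g) fun g hg => ?_
    obtain ⟨k, hk⟩ := himg.le ⟨g, hg, rfl⟩
    refine ⟨k, ?_⟩
    have := @hfinj ⟨φ k, hφE k⟩ ⟨g, hg⟩ (by
      show ((φ k : X) : c.Xbar) = (g : c.Xbar)
      rw [hφ]; exact hk)
    exact congrArg Subtype.val this
  have heqA : A = (Cfsg.upperUnipotentSL2 F).map φ := by
    have key : ∀ {g : X} {k : SL(2, F)}, g ∈ E → B₀.φ k = (g : c.Xbar) → φ k = g := fun {g k} hg hk =>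
      congrArg Subtype.val (@hfinj ⟨φ k, hφE k⟩ ⟨g, hg⟩ (by
        show ((φ k : X) : c.Xbar) = (g : c.Xbar)
        rw [hφ]; exact hk))
    refine le_antisymm (fun a ha => ?_) ?_
    · obtain ⟨k, hk, hka⟩ := B₀.eqA.le (mem_map_of_mem _ ha)
      exact ⟨k, hk, key (mem_sup_left ha) hka⟩
    · rintro _ ⟨k, hk, rfl⟩
      obtain ⟨a, ha, hak⟩ := B₀.eqA.ge (mem_map_of_mem _ hk)
      rw [key (mem_sup_left ha) hak.symm]
      exact ha
  -- coordinates modulo the fixed points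
  have hwd : ∀ v w, w ∈ c.V₁ → v - w ∈ fixS ρ E → ∀ h : w ∈ c.V₁,
      B₀.crd (c.cls (hw v)) = B₀.crd (c.cls h) := by
    intro v w _ hvw h
    have h1 : wf v - w ∈ fixS ρ E := by
      rw [show wf v - w = (v - w) - zf v by conv_rhs => arg 1; arg 1; rw [hv v]
                                            abel]
      exact sub_mem hvw (hz v)
    have h2 : c.cls (sub_mem (hw v) h) ∈ B₀.C := hfixE ▸ (c.cls_mem_fix _).2 fun g hg => by
      rw [h1 g hg, sub_self]; exact zero_mem _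
    rw [← sub_eq_zero, ← map_sub]
    exact B₀.crd_eq_zero.2 h2
  let ψ : V →+ F × F := AddMonoidHom.mk' (fun v => B₀.crd (c.cls (hw v))) fun v v' => by
    rw [hwd (v + v') (wf v + wf v') (add_mem (hw v) (hw v')) (by
      rw [show v + v' - (wf v + wf v') = zf v + zf v' by
        conv_lhs => arg 1; rw [hv v, hv v']
        abel]
      exact add_mem (hz v) (hz v')) (add_mem (hw v) (hw v')), ← map_add]
    rfl
  have hψ1 : ∀ w (h : w ∈ c.V₁), ψ w = B₀.crd (c.cls h) := fun w h =>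
    hwd w w h (by rw [sub_self]; exact zero_mem _) h
  have hker : ∀ v, ψ v = 0 ↔ v ∈ fixS ρ E := by
    intro v
    constructor
    · intro h
      have h1 : c.cls (hw v) ∈ fixS c.actU E := hfixE ▸ B₀.crd_eq_zero.1 h
      rw [hv v]
      refine add_mem (hz v) (fix_sup _ _
        (hs.pre (c.mem_pre.2 ⟨hw v, (c.cls_mem_fix (hw v)).1 (fix_le le_sup_left h1)⟩)) (mem_fix_cj.2 ?_))
      refine hs.pre (c.mem_pre.2 ⟨c.inv _ _ (hw v), (c.cls_mem_fix (c.inv _ _ (hw v))).1 ?_⟩)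
      rw [← c.actU_cls x⁻¹ (hw v)]
      exact mem_fix_cj.1 (fix_le (le_sup_right : cj A x ≤ E) h1)
    · intro h
      show B₀.crd (c.cls (hw v)) = 0
      rw [hwd v 0 (zero_mem _) (by rwa [sub_zero]) (zero_mem _)]
      exact map_zero _
  let Mo : Model ρ F A :=
    { φ := φ, eqA := heqA, ψ := ψ
      surj := fun z => by
        obtain ⟨u, rfl⟩ := B₀.crd_surjective z
        obtain ⟨w, hw', rfl⟩ := c.exists_cls u
        exact ⟨w, hψ1 w hw'⟩
      ker := fun v => by rw [hrange]; exact hker v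
      equiv := fun g v => by
        show B₀.crd (c.cls (hw _)) = mulv g (B₀.crd (c.cls (hw v)))
        rw [hwd (ρ (φ g) v) (ρ (φ g) (wf v)) (c.inv _ _ (hw v)) (by
          rw [← map_sub, show v - wf v = zf v by conv_lhs => arg 1; rw [hv v]
                                                 abel,
            hz v _ (hφE g)]
          exact hz v) (c.inv _ _ (hw v)), ← B₀.crd_app, ← hφ]
        rfl
      quad := comS_le fun a ha v => by
        have e : ρ a v - v = ρ a (wf v) - wf v := by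
          conv_lhs => rw [hv v, map_add, hz v a (mem_sup_left ha), add_sub_add_left_eq_sub]
        rw [e]
        have hm : ρ a (wf v) - wf v ∈ c.V₁ := sub_mem (c.inv a _ (hw v)) (hw v)
        refine hs.pre (c.mem_pre.2 ⟨hm, (c.cls_mem_fix hm).1 ?_⟩)
        rw [← c.fix_img]
        exact B₀.quad (sub_mem_comS (mem_map_of_mem _ ha) (c.cls (hw v))) }
  obtain ⟨B, hBφ, hBC⟩ := Mo.exists_block
  have hBE : B.grp = E := by rw [show B.grp = B.φ.range from rfl, hBφ]; exact hrange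
  refine ⟨F, iF, fF, B, B₀, fun g => by rw [hBφ]; exact hφ g, hB₀, fun hle => hout ?_, ?_,
    fun g hg => htriv g (hBE ▸ hg)⟩
  · rw [← himg, ← hBE]; exact map_mono hle
  · by_cases h01 : ∀ t : F, t = 0 ∨ t = 1
    · intro t; rw [B.hh_two h01]; exact zero_mem _
    push Not at h01
    obtain ⟨s₀, hs0, hs1⟩ := h01
    intro t
    have hh1 : B.hh t ∈ fixS ρ E := by rw [← hBE, B.fix_grp]; exact B.hh_mem t
    -- `lam` has classes in `range lam`
    have hlamV : ∀ y, ∃ h : B.lam y ∈ c.V₁, c.cls h ∈ B₀.lam.range := by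
      intro y
      set s : Fˣ := Units.mk0 s₀ hs0
      have hsne : (s : F) - 1 ≠ 0 := sub_ne_zero.2 hs1
      set y' := y / ((s : F) - 1)
      have e : B.lam y = ρ (B.dg s) (wf (B.lam y')) - wf (B.lam y') := by
        have h1 : ρ (B.dg s) (B.lam y') - B.lam y' = B.lam y := by
          rw [Block.dg, B.dg_lam, ← map_sub]
          congr 1
          rw [← sub_one_mul]
          exact mul_div_cancel₀ y hsne
        conv_lhs => rw [← h1, hv (B.lam y'), map_add, hz _ _ (hBE ▸ B.dg_mem_grp s), add_sub_add_left_eq_sub]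
      have hwA : wf (B.lam y') ∈ fixS ρ A := by
        rw [show wf (B.lam y') = B.lam y' - zf (B.lam y') from eq_sub_of_add_eq' (hv (B.lam y')).symm]
        exact sub_mem (B.lam_mem_fix y') (fix_le le_sup_left (hz _))
      have hcA : c.cls (hw (B.lam y')) ∈ fixS c.actBar (c.img A) := by
        rw [c.fix_img]
        exact (c.cls_mem_fix _).2 fun a ha => by rw [hwA a ha, sub_self]; exact zero_mem _
      obtain ⟨k, hk, z, hkz⟩ := B₀.mem_fix_A.1 hcA
      have hV : B.lam y ∈ c.V₁ := e ▸ sub_mem (c.inv _ _ (hw _)) (hw _)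
      refine ⟨hV, (((s : F) - 1) * z), ?_⟩
      have hd : ((B.dg s : X) : c.Xbar) = B₀.φ (dgSL s) := by rw [Block.dg, hBφ]; exact hφ _
      calc B₀.lam (((s : F) - 1) * z)
          = c.actBar (B₀.φ (dgSL s)) (k + B₀.lam z) - (k + B₀.lam z) := by
            rw [map_add, B₀.fix_C _ _ hk, B₀.dg_lam, sub_one_mul, map_sub]; abel
        _ = c.cls (sub_mem (c.inv (B.dg s) _ (hw (B.lam y'))) (hw (B.lam y'))) := by
            rw [← hkz, ← hd]; rfl
        _ = c.cls hV := (c.cls_eq _ hV).2 (by rw [← e, sub_self]; exact zero_mem _)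
    obtain ⟨hlV, hl⟩ := hlamV t
    have hup : ρ (B.up t) (B.om 1) - B.om 1 = B.lam t + B.hh t := by rw [B.sub_om, mul_one, mul_one]
    have e1 : ρ (B.up t) (B.om 1) - B.om 1 = ρ (B.up t) (wf (B.om 1)) - wf (B.om 1) := by
      conv_lhs => rw [hv (B.om 1), map_add, hz _ _ (hBE ▸ B.up_mem_grp t), add_sub_add_left_eq_sub]
    have hupV : ρ (B.up t) (wf (B.om 1)) - wf (B.om 1) ∈ c.V₁ := sub_mem (c.inv _ _ (hw _)) (hw _)
    have hhV : B.hh t ∈ c.V₁ := by
      rw [show B.hh t = (ρ (B.up t) (B.om 1) - B.om 1) - B.lam t by rw [hup]; abel, e1]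
      exact sub_mem hupV hlV
    have hupR : c.cls hupV ∈ B₀.lam.range := by
      obtain ⟨k, hk, a, b, hkab⟩ := B₀.decomp (c.cls (hw (B.om 1)))
      refine ⟨t * b, ?_⟩
      have hd : ((B.up t : X) : c.Xbar) = B₀.φ (RankOne.upSL t) := by rw [Block.up, hBφ]; exact hφ _
      calc B₀.lam (t * b) = c.actBar (B₀.φ (RankOne.upSL t)) (c.cls (hw (B.om 1))) - c.cls (hw (B.om 1)) := by
            rw [hkab, show B₀.φ (RankOne.upSL t) = B₀.up t from rfl, B₀.app_up_sub hk, hB₀]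
            simp
        _ = _ := by rw [← hd]; rfl
    have hcls : c.cls hhV = c.cls hupV - c.cls hlV := by
      refine (c.cls_eq hhV (sub_mem hupV hlV)).2 ?_
      rw [← e1, hup]
      convert zero_mem c.C using 1
      abel
    obtain ⟨z, hz'⟩ : c.cls hhV ∈ B₀.lam.range := hcls ▸ sub_mem hupR hl
    have hC' : c.cls hhV ∈ B₀.C := hfixE ▸ (c.cls_mem_fix _).2 fun g hg => by
      rw [hh1 g hg, sub_self]; exact zero_mem _
    have hz0 := (B₀.indep _ (neg_mem hC') z 0 (by rw [map_zero, add_zero, hz', neg_add_cancel])).1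
    refine (c.cls_eq_zero hhV).1 ?_
    rw [← hz', hz0, map_zero]

end

end Chief

end Cfsg.Agent.FFMinimal
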