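import Cfsg.Agent.Lib.FFMinimal.Key

/-!
Inside `X`: the block of one conjugate of the offender against the other conjugates.

* `Chief.sub_mem_C` : what is trivial on `V₁` and on `V/V₁` moves into the fixed part
* `Chief.comS_le_fix_of_core` : conjugates inside `O_p(X)` move into fixed points of `O^p(X)`
* `Block.grp_le_residual` : over at least four elements the block lies in `O^p(X)`
* `Seen.eq_of_img_eq`, `Seen.block_commute` : seen conjugates
-/

set_option autoImplicit false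

namespace Cfsg.Agent.FFMinimal

open Subgroup
open RankOne (upSL loSL)
open scoped MatrixGroups
open OffenderSL2 (fixS cj app_mul app_one app_inv_self app_self_inv fix_le fix_sup mem_fix_cj apply_mem_fix_cj mem_cj cj_cj)

universe u v

variable {X : Type u} [Group X] {V : Type v} [AddCommGroup V] {ρ : X →* AddMonoid.End V} {p : ℕ}

/-- The root elements and their opposites are commutators with the torus. -/
theorem Block.grp_le_residual [Fact p.Prime] {F : Type} [Field F] [Finite F] {A : Subgroup X}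
    (B : Block ρ F A) (hp : ∀ v : V, p • v = 0) (h4 : 4 ≤ Nat.card F) : B.grp ≤ Cfsg.pResidual p X := by
  classical
  haveI := PReduced.pResidual_normal p X
  obtain ⟨s, hs⟩ := exists_sq_ne_one h4
  have hcop : (Nat.card Fˣ).Coprime p := by
    rw [Nat.coprime_comm, (Fact.out : p.Prime).coprime_iff_not_dvd]
    intro hdvd
    have h0 : (p : F) = 0 := B.natCast_eq_zero hp
    haveI : CharP F p := (CharP.charP_iff_prime_eq_zero (Fact.out : p.Prime)).2 h0
    haveI := Fintype.ofFinite F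
    have hpc : p ∣ Nat.card F := by
      rw [← CharP.cast_eq_zero_iff F p, Nat.card_eq_fintype_card]
      exact FiniteField.cast_card_eq_zero F
    rw [Nat.card_units] at hdvd
    have h1 : p ∣ Nat.card F - (Nat.card F - 1) := Nat.dvd_sub hpc hdvd
    rw [Nat.sub_sub_self (by omega : 1 ≤ Nat.card F)] at h1
    exact (Fact.out : p.Prime).not_dvd_one h1
  have hdg : B.dg s ∈ Cfsg.pResidual p X := subset_closure (hcop.coprime_dvd_left
    ((orderOf_dvd_of_pow_eq_one (by
      rw [Block.dg, ← map_pow, orderOf_dvd_iff_pow_eq_one.1 (dvd_refl (orderOf (dgSL s)))]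
      exact map_one _) : orderOf (B.dg s) ∣ orderOf (dgSL s)).trans (by
    have h := orderOf_dvd_natCard s
    refine (orderOf_dvd_of_pow_eq_one ?_).trans h
    have hpow : ∀ n : ℕ, dgSL s ^ n = dgSL (s ^ n) := fun n => by
      induction n with
      | zero => rw [pow_zero, pow_zero, dgSL_one]
      | succ n ih => rw [pow_succ, pow_succ, ih, dgSL_mul]
    rw [hpow, pow_orderOf_eq_one, dgSL_one])))
  have hA : A ≤ Cfsg.pResidual p X := by
    intro a ha
    obtain ⟨t, rfl⟩ := B.mem_A.1 ha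
    set r := t / ((s : F) * s - 1)
    have e : B.up t = B.dg s * (B.up r * (B.dg s)⁻¹ * (B.up r)⁻¹) := by
      rw [← mul_assoc, ← mul_assoc, B.dg_comm_up, mul_inv_cancel_right, B.up_neg, ← B.up_add]
      congr 1
      have := div_mul_cancel₀ t (sub_ne_zero.2 hs)
      linear_combination -this
    rw [e]
    exact mul_mem hdg ((inferInstance : (Cfsg.pResidual p X).Normal).conj_mem _ (inv_mem hdg) _)
  rw [B.grp_eq]
  refine sup_le hA ?_
  rintro _ ⟨a, ha, rfl⟩
  exact (inferInstance : (Cfsg.pResidual p X).Normal).conj_mem _ (hA ha) _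

namespace Chief

variable (c : Chief ρ p) [Finite X] [Finite V] [Fact p.Prime] {S : Sylow p X} {M : Subgroup X}
  (hX : XData (V := V) p S M) (hf : ∀ x : X, (∀ v, ρ x v = v) → x = 1)
include hX hf

/-- What is trivial on `V₁` and `V/V₁` moves into the fixed part. -/
theorem sub_mem_C (hnt : ¬ c.V₁ ≤ comS ρ (S : Subgroup X)) {k : X} (h1 : ∀ v ∈ c.V₁, ρ k v = v)
    (h2 : ∀ v, ρ k v - v ∈ c.V₁) (v : V) : ρ k v - v ∈ c.C := by
  classical
  let R : Subgroup X :=
    { carrier := {g | (∀ v ∈ c.V₁, ρ g v = v) ∧ ∀ v, ρ g v - v ∈ c.V₁}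
      one_mem' := ⟨fun w _ => app_one w, fun v => by rw [app_one, sub_self]; exact zero_mem _⟩
      mul_mem' := fun {a b} ha hb => ⟨fun w hw => by rw [app_mul, hb.1 w hw, ha.1 w hw], fun v => by
        rw [app_mul, show ρ a (ρ b v) - v = (ρ a (ρ b v) - ρ b v) + (ρ b v - v) by abel]
        exact add_mem (ha.2 _) (hb.2 v)⟩
      inv_mem' := fun {a} ha => ⟨fun w hw => by
          conv_lhs => rw [← ha.1 w hw]
          rw [app_inv_self], fun v => by
          have := neg_mem (ha.2 (ρ a⁻¹ v))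
          rwa [app_self_inv, neg_sub] at this⟩ }
  have hR : R.Normal := ⟨fun a ha g => ⟨fun w hw => by
      rw [app_mul, app_mul, ha.1 _ (c.inv g⁻¹ w hw), app_self_inv], fun v => by
      have := c.inv g _ (ha.2 (ρ g⁻¹ v))
      rwa [map_sub, app_self_inv, ← app_mul, ← app_mul] at this⟩⟩
  have hRp : IsPGroup p ↥R := fun g => ⟨1, Subtype.ext (hf _ fun v => by
    show ρ ((g : X) ^ p ^ 1) v = v
    rw [pow_one, app_pow_of_fixed (g.2.1 _ (g.2.2 v)), hX.exponent, add_zero])⟩
  have hle : comS ρ R ≤ c.V₁ := comS_le fun g hg v => hg.2 v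
  refine c.le_C hle (fun x w hw => ?_) (fun e => hnt ?_) (sub_mem_comS (show k ∈ R from ⟨h1, h2⟩) v)
  · have h := apply_mem_comS_cj (σ := ρ) x hw
    refine comS_mono ?_ h
    rintro _ ⟨r, hr, rfl⟩
    exact hR.conj_mem r hr x
  · rw [← e]
    exact comS_mono ((PReduced.le_pCore hR hRp).trans (PReduced.pCore_le_sylow S))

/-- Conjugates inside `O_p(X)` move into fixed points of `O^p(X)`. -/
theorem comS_le_fix_of_core (hnt : ¬ c.V₁ ≤ comS ρ (S : Subgroup X))
    (hres : ∀ o ∈ Cfsg.pResidual p X, ∀ v, ρ o v - v ∈ c.V₁) {D : Subgroup X}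
    (hD : D ≤ Cfsg.pCore p X) : comS ρ D ≤ fixS ρ (Cfsg.pResidual p X) := by
  refine comS_le fun b hb v => residual_eq_of_series hX.exponent fun o ho o' ho' => ?_
  refine (?_ : ρ o (ρ b v - v) - (ρ b v - v) ∈ c.C).2 o' ho'
  have hbQ := hD hb
  have hb1 : ∀ w ∈ c.V₁, ρ b w = w := fun w hw => c.coreFix hw b hbQ
  set k := o⁻¹ * (b⁻¹ * o * b) with hk
  have hkO : k ∈ Cfsg.pResidual p X := mul_mem (inv_mem ho) (by
    simpa using (PReduced.pResidual_normal p X).conj_mem o ho b⁻¹)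
  have hkQ : k ∈ Cfsg.pCore p X := by
    rw [hk, show o⁻¹ * (b⁻¹ * o * b) = (o⁻¹ * b⁻¹ * o⁻¹⁻¹) * b by group]
    exact mul_mem ((PReduced.pCore_normal p X).conj_mem _ (inv_mem hbQ) _) hbQ
  have hkC := c.sub_mem_C hX hf hnt (fun w hw => c.coreFix hw k hkQ) (hres k hkO) v
  have e : ρ o (ρ b v - v) - (ρ b v - v) = ρ o (ρ k v - v) := by
    have h1 : ρ o (ρ b v) = ρ b (ρ (b⁻¹ * o * b) v) := by
      rw [← app_mul, ← app_mul]; congr 2; group
    have h2 : ρ (b⁻¹ * o * b) v = ρ o (ρ k v) := by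
      rw [← app_mul, hk, mul_inv_cancel_left]
    have h3 : ρ (b⁻¹ * o * b) v - v ∈ c.V₁ := by
      rw [h2, ← app_mul]; exact hres _ (mul_mem ho hkO) v
    rw [map_sub, h1, show ρ b (ρ (b⁻¹ * o * b) v) = ρ b v + (ρ (b⁻¹ * o * b) v - v) by
      conv_lhs => rw [show ρ (b⁻¹ * o * b) v = v + (ρ (b⁻¹ * o * b) v - v) by abel, map_add, hb1 _ h3],
      h2, map_sub]
    abel
  rw [e]
  exact c.inv_C o hkC

/-- Two seen subgroups with the same image agree. -/
theorem Seen.eq_of_img_eq (hB : Bound ρ p) (hnt : ¬ c.V₁ ≤ comS ρ (S : Subgroup X)) {A A' : Subgroup X}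
    (hs : c.Seen A) (hs' : c.Seen A') (hq : comS ρ A ≤ fixS ρ A) (he : c.img A' = c.img A) : A' ≤ A := by
  have hoff : Off ρ p A := ⟨hs.elem, fun e => hs.minOff.off.ne (by rw [e, img, Subgroup.map_bot]),
    hs.wt_eq.ge⟩
  have hk : ∀ {a b : X}, a ∈ A → b ∈ A' → (a : c.Xbar) = b → ∀ v, ρ (a⁻¹ * b) v - v ∈ c.C := by
    intro a b ha hb e
    have hK : a⁻¹ * b ∈ c.K := QuotientGroup.eq.1 e
    refine c.sub_mem_C hX hf hnt (fun w hw => c.app_eq_of_ker hX hK hw) fun v => ?_
    rw [app_mul, show ρ a⁻¹ (ρ b v) - v = (ρ a⁻¹ (ρ b v) - ρ b v) + (ρ b v - v) by abel]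
    exact add_mem (hs.triv _ (inv_mem ha) _) (hs'.triv b hb v)
  have hfix : fixS ρ A' ≤ fixS ρ A := fun v hv => by
    obtain ⟨f, hfA, w, hw, rfl⟩ := AddSubgroup.mem_sup.1 (hs.sup.ge (AddSubgroup.mem_top v))
    refine add_mem hfA (hs.pre (c.mem_pre.2 ⟨hw, fun a ha => ?_⟩))
    obtain ⟨b, hb, hbe⟩ := he.ge (mem_map_of_mem (QuotientGroup.mk' c.K) ha)
    have h1 := hk ha hb hbe.symm (f + w)
    have e : ρ a (ρ (a⁻¹ * b) (f + w) - (f + w)) = -(ρ a w - w) := by
      rw [map_sub, ← app_mul, mul_inv_cancel_left, hv b hb, map_add, hfA a ha]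
      abel
    have h2 := c.inv_C a h1
    rw [e, neg_mem_iff] at h2
    exact h2
  have hfeq : fixS ρ A' = fixS ρ A := by
    refine SetLike.coe_injective (Set.eq_of_subset_of_ncard_le hfix ?_ (Set.toFinite _))
    rw [← Nat.card_coe_set_eq, ← Nat.card_coe_set_eq]
    have hc : Nat.card ↥A' = Nat.card ↥A := by
      have h1 := c.card_img_mul A
      have h2 := c.card_img_mul A'
      rw [hs.inf, card_bot, mul_one] at h1
      rw [hs'.inf, card_bot, mul_one, he, h1] at h2
      exact h2.symm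
    have h3 := hs.wt_eq.trans hs'.wt_eq.symm
    rw [wt, wt, hc] at h3
    exact (Nat.eq_of_mul_eq_mul_left Nat.card_pos h3).le
  intro b hb
  refine mem_of_hkill hX.exponent hf hB hoff hq (fun v hv => (hfeq.ge hv : v ∈ fixS ρ A') b hb) fun v => ?_
  obtain ⟨a, ha, hae⟩ := he.le (mem_map_of_mem (QuotientGroup.mk' c.K) hb)
  have h1 := hk ha hb hae v
  rw [show ρ b v - v = ρ a (ρ (a⁻¹ * b) v - v) + (ρ a v - v) by
    rw [map_sub, ← app_mul, mul_inv_cancel_left]; abel]
  exact add_mem (hs.pre (c.C_le_pre A (c.inv_C a h1))) (hq (sub_mem_comS ha v))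

/-- A block against another seen subgroup. -/
theorem Seen.block_commute (hG : Good c.actBar p) {A A' : Subgroup X} (hs : c.Seen A) (hs' : c.Seen A')
    (hS : A ≤ (S : Subgroup X)) (hS' : A' ≤ (S : Subgroup X)) (hne : c.img A' ≠ c.img A) {F : Type}
    [Field F] [Finite F] (B : Block ρ F A) (B₀ : Block c.actBar F (c.img A))
    (hφ : ∀ g, (B.φ g : c.Xbar) = B₀.φ g) (h₀ : B₀.hh = 0) (h4 : 4 ≤ Nat.card F)
    (htriv : ∀ g ∈ B.grp, ∀ v, ρ g v - v ∈ c.V₁) :
    comS ρ A' ≤ fixS ρ B.grp ∧ comS ρ B.grp ≤ fixS ρ A' := by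
  have hq : ∃ s : Fˣ, (s : F) ≠ 1 := by
    obtain ⟨s, hs⟩ := exists_sq_ne_one h4
    exact ⟨s, fun e => hs (by rw [e, one_mul])⟩
  obtain ⟨s, hsne⟩ := hq
  have hle : ∀ {D : Subgroup X}, D ≤ (S : Subgroup X) →
      c.img D ≤ ((c.sylowBar S : Sylow p c.Xbar) : Subgroup c.Xbar) := fun hD => by
    rw [c.sylowBar_coe hX]; exact map_mono hD
  obtain ⟨hC, hE, -⟩ := hG.grp_commute hs'.minOff hs.minOff hne
    (hG.commute_of_le (c.sylowBar S).2 hs'.minOff hs.minOff (hle hS') (hle hS)) B₀ h₀ s hsne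
  have hO : B.grp ≤ Cfsg.pResidual p X := B.grp_le_residual hX.exponent h4
  constructor
  · refine comS_le fun b hb v => ?_
    rintro g ⟨k, rfl⟩
    set z := ρ b v - v
    have hz : z ∈ c.V₁ := hs'.triv b hb v
    have hzC : c.cls hz ∈ B₀.C := by
      obtain ⟨f, hfA, w, hw, rfl⟩ := AddSubgroup.mem_sup.1 (hs'.sup.ge (AddSubgroup.mem_top v))
      have hzw : z = ρ b w - w := by
        show ρ b (f + w) - (f + w) = _
        rw [map_add, hfA b hb, add_sub_add_left_eq_sub]
      refine hC ?_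
      have h := sub_mem_comS (σ := c.actBar) (mem_map_of_mem (QuotientGroup.mk' c.K) hb) (c.cls hw)
      have e : c.cls hz = c.actBar (QuotientGroup.mk' c.K b) (c.cls hw) - c.cls hw :=
        (c.cls_eq hz (sub_mem (c.inv b w hw) hw)).2 (by rw [hzw, sub_self]; exact zero_mem _)
      rw [e]
      exact h
    have hd : ∀ k, ρ (B.φ k) z - z ∈ c.C := fun k => (c.cls_eq (c.inv (B.φ k) z hz) hz).1 (by
      have h := B₀.fix_C k _ hzC
      rw [← hφ] at h
      exact h)
    let f : SL(2, F) →* Multiplicative V :=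
      MonoidHom.mk' (fun k => Multiplicative.ofAdd (ρ (B.φ k) z - z)) fun a b => by
        rw [← ofAdd_add]
        congr 1
        rw [map_mul, app_mul, show ρ (B.φ b) z = z + (ρ (B.φ b) z - z) by abel, map_add,
          ((hd b).2 : _ ∈ fixS ρ (Cfsg.pResidual p X)) _ (hO ⟨a, rfl⟩)]
        abel
    exact sub_eq_zero.1 (congrArg Multiplicative.toAdd (DFunLike.congr_fun (hom_eq_one h4 f) k))
  · refine comS_le fun g hg v => ?_
    have hz : ρ g v - v ∈ c.V₁ := htriv g hg v
    refine hs'.pre (c.mem_pre.2 ⟨hz, (c.cls_mem_fix hz).1 ?_⟩)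
    rw [← c.fix_img]
    refine hE ?_
    obtain ⟨f, hfA, w, hw, e⟩ := AddSubgroup.mem_sup.1 (hs.sup.ge (AddSubgroup.mem_top v))
    obtain ⟨k, rfl⟩ := hg
    -- the class of the commutator
    have key : ∀ k, ∀ v, ∀ h : ρ (B.φ k) v - v ∈ c.V₁, c.cls h ∈ comS c.actBar B₀.grp := by
      intro k
      let N : Subgroup SL(2, F) :=
        { carrier := {k | ∀ v, ∀ h : ρ (B.φ k) v - v ∈ c.V₁, c.cls h ∈ comS c.actBar B₀.grp}
          one_mem' := fun v h => by
            rw [(c.cls_eq_zero h).2 (by rw [map_one, app_one, sub_self]; exact zero_mem _)]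
            exact zero_mem _
          mul_mem' := fun {a b} ha hb v h => by
            have h1 : ρ (B.φ b) v - v ∈ c.V₁ := htriv _ ⟨b, rfl⟩ v
            have h2 : ρ (B.φ a) (ρ (B.φ b) v) - ρ (B.φ b) v ∈ c.V₁ := htriv _ ⟨a, rfl⟩ _
            rw [show c.cls h = c.cls (add_mem h2 h1) from (c.cls_eq _ _).2 (by
              convert zero_mem c.C using 1
              rw [map_mul, app_mul]; abel)]
            exact add_mem (ha _ h2) (hb v h1)
          inv_mem' := fun {a} ha v h => by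
            have h2 : ρ (B.φ a) (ρ (B.φ a⁻¹) v) - ρ (B.φ a⁻¹) v ∈ c.V₁ := htriv _ ⟨a, rfl⟩ _
            rw [show c.cls h = c.cls (neg_mem h2) from (c.cls_eq _ _).2 (by
              convert zero_mem c.C using 1
              rw [map_inv, app_self_inv]; abel)]
            exact neg_mem (ha _ h2) }
      have hbase : ∀ (x : SL(2, F)) (u : SL(2, F)), u ∈ Cfsg.upperUnipotentSL2 F → x * u * x⁻¹ ∈ N := by
        intro x u hu v h
        have hu' : B.φ u ∈ A := B.eqA.ge ⟨u, hu, rfl⟩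
        obtain ⟨f, hfA, w, hw, e⟩ := AddSubgroup.mem_sup.1 (hs.sup.ge (AddSubgroup.mem_top (ρ (B.φ x)⁻¹ v)))
        have hw' : ρ (B.φ x) w ∈ c.V₁ := c.inv _ w hw
        have hd' : ρ (B.φ (x * u * x⁻¹)) (ρ (B.φ x) w) - ρ (B.φ x) w ∈ c.V₁ := sub_mem (c.inv _ _ hw') hw'
        rw [show c.cls h = c.cls hd' from (c.cls_eq h hd').2 (by
          convert zero_mem c.C using 1
          have ev : v = ρ (B.φ x) f + ρ (B.φ x) w := by rw [← map_add, e, app_self_inv]
          rw [ev, map_add, show ρ (B.φ (x * u * x⁻¹)) (ρ (B.φ x) f) = ρ (B.φ x) f by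
            rw [← app_mul, ← map_mul B.φ, inv_mul_cancel_right, map_mul B.φ, app_mul, hfA _ hu']]
          abel)]
        have h := sub_mem_comS (σ := c.actBar) (show B₀.φ (x * u * x⁻¹) ∈ B₀.grp from ⟨_, rfl⟩) (c.cls hw')
        rw [← hφ] at h
        exact h
      have htop : (⊤ : Subgroup SL(2, F)) ≤ N := by
        rw [← closure_up_lo, closure_le]
        rintro _ (⟨t, rfl⟩ | ⟨t, rfl⟩)
        · simpa using hbase 1 _ (RankOne.upSL_mem t)
        · rw [Block.lo_eq]; exact hbase wSL _ (RankOne.upSL_mem (-t))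
      exact htop (mem_top k)
    exact key k v hz

end Chief

end Cfsg.Agent.FFMinimal
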