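import Cfsg.Agent.Lib.FFMinimal.Reduce

/-!
The decomposition of a faithful action with an offender into components.

* `LinSec`, `SymSec` : the two kinds of components
* `Split`, `split_of_pieces` : the decomposition, and what it needs
* `Red.exists_split` : the decomposition exists
* `Red.exists_fixed` : the Sylow subgroup fixes a vector outside the fixed points of the group
-/

set_option autoImplicit false

namespace Cfsg.Agent.FFMinimal

open Subgroup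
open scoped MatrixGroups
open OffenderSL2 (fixS cj app_mul app_one app_inv_self app_self_inv fix_le fix_sup mem_fix_cj apply_mem_fix_cj mem_cj cj_cj)

universe u v

variable {P : Type u} [Group P] {V : Type v} [AddCommGroup V]

/-- A component of linear type. -/
def LinSec (ρ : P →* AddMonoid.End V) (p : ℕ) (E : Subgroup P) : Prop :=
  ∃ n, 1 ≤ n ∧ ∃ (F : Type) (_ : Field F) (_ : Fintype F), Fintype.card F = p ^ n ∧
    ∃ (e : ↥E ≃* SL(2, F)) (ψ : V →+ F × F), (∀ z, ∃ v ∈ comS ρ E, ψ v = z) ∧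
      (∀ v ∈ comS ρ E, ψ v = 0 ↔ v ∈ fixS ρ E) ∧ ∀ (g : ↥E) (v : V), ψ (ρ g v) = mulv (e g) (ψ v)

/-- A component of symmetric type. -/
def SymSec (ρ : P →* AddMonoid.End V) (p : ℕ) (E : Subgroup P) : Prop :=
  p = 2 ∧ ∃ n, 1 ≤ n ∧ ∃ (e : ↥E ≃* Equiv.Perm (Fin (2 ^ n + 1))) (ψ : V →+ (Fin (2 ^ n + 1) → ZMod 2)),
    (∀ v ∈ comS ρ E, ∑ i, ψ v i = 0) ∧ (∀ w : Fin (2 ^ n + 1) → ZMod 2, ∑ i, w i = 0 → ∃ v ∈ comS ρ E, ψ v = w) ∧
      (∀ v ∈ comS ρ E, ψ v = 0 ↔ v ∈ fixS ρ E) ∧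
      ∀ (g : ↥E), ∀ v ∈ comS ρ E, ∀ i, ψ (ρ g v) i = ψ v ((e g)⁻¹ i)

/-- The decomposition. -/
structure Split (ρ : P →* AddMonoid.End V) (p : ℕ) (T : Subgroup P) {r : ℕ} (E : Fin r → Subgroup P) : Prop where
  pos : 1 ≤ r
  commute : ∀ i j, i ≠ j → ∀ a ∈ E i, ∀ b ∈ E j, a * b = b * a
  inf : ∀ i, E i ⊓ (⨆ j ∈ {j | j ≠ i}, E j) = ⊥
  sup : (⨆ i, E i) ⊔ T = ⊤
  conj : ∀ i j, ∃ t ∈ T, cj (E i) t = E j
  perm : ∀ t ∈ T, ∀ i, ∃ j, cj (E i) t = E j
  span : fixS ρ (⨆ i, E i) ⊔ (⨆ i, comS ρ (E i)) = ⊤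
  orth : ∀ i j, i ≠ j → comS ρ (E i) ≤ fixS ρ (E j)
  sec : ∀ i, LinSec ρ p (E i) ∨ SymSec ρ p (E i)

variable {ρ : P →* AddMonoid.End V} {p : ℕ}

theorem apply_mem_comS {E : Subgroup P} {g : P} (hg : g ∈ E) {v : V} (hv : v ∈ comS ρ E) : ρ g v ∈ comS ρ E := by
  have : ρ g v = (ρ g v - v) + v := by abel
  rw [this]; exact add_mem (sub_mem_comS hg v) hv

theorem le_fixing_of_fix {E : Subgroup P} {v : V} (hv : v ∈ fixS ρ E) : E ≤ fixingV ρ {v} :=
  fun g hg w hw => by rw [Set.mem_singleton_iff.1 hw]; exact hv g hg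

theorem LinSec.conj {E : Subgroup P} (h : LinSec ρ p E) (t : P) : LinSec ρ p (cj E t) := by
  obtain ⟨n, hn, F, iF, fF, hF, e, ψ, hs, hk, he⟩ := h
  let m := E.equivMapOfInjective (MulAut.conj t).toMonoidHom (MulAut.conj t).injective
  refine ⟨n, hn, F, iF, fF, hF, m.symm.trans e, ψ.comp (ρ t⁻¹), fun z => ?_, fun v hv => ?_, fun g v => ?_⟩
  · obtain ⟨v, hv, rfl⟩ := hs z
    exact ⟨ρ t v, apply_mem_comS_cj t hv, congrArg ψ (app_inv_self (σ := ρ) t v)⟩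
  · rw [comS_cj] at hv
    obtain ⟨w, hw, rfl⟩ := hv
    have e1 : ρ t⁻¹ (ρ t w) = w := app_inv_self _ _
    show ψ (ρ t⁻¹ (ρ t w)) = 0 ↔ ρ t w ∈ fixS ρ (cj E t)
    rw [e1, hk w hw, mem_fix_cj, e1]
  · obtain ⟨g, a, ha, rfl⟩ := g
    have hm : m.symm ⟨_, ⟨a, ha, rfl⟩⟩ = ⟨a, ha⟩ := m.symm_apply_eq.2 rfl
    show ψ (ρ t⁻¹ (ρ (t * a * t⁻¹) v)) = mulv (e (m.symm ⟨_, ⟨a, ha, rfl⟩⟩)) (ψ (ρ t⁻¹ v))
    rw [hm, app_mul, app_mul, app_inv_self]
    exact he ⟨a, ha⟩ _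

theorem SymSec.conj {E : Subgroup P} (h : SymSec ρ p E) (t : P) : SymSec ρ p (cj E t) := by
  obtain ⟨hp, n, hn, e, ψ, hz, hs, hk, he⟩ := h
  let m := E.equivMapOfInjective (MulAut.conj t).toMonoidHom (MulAut.conj t).injective
  refine ⟨hp, n, hn, m.symm.trans e, ψ.comp (ρ t⁻¹), fun v hv => ?_, fun w hw => ?_, fun v hv => ?_,
    fun g v hv i => ?_⟩
  · rw [comS_cj] at hv
    obtain ⟨w, hw, rfl⟩ := hv
    show ∑ i, ψ (ρ t⁻¹ (ρ t w)) i = 0
    rw [app_inv_self]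
    exact hz w hw
  · obtain ⟨v, hv, rfl⟩ := hs w hw
    exact ⟨ρ t v, apply_mem_comS_cj t hv, congrArg ψ (app_inv_self (σ := ρ) t v)⟩
  · rw [comS_cj] at hv
    obtain ⟨w, hw, rfl⟩ := hv
    have e1 : ρ t⁻¹ (ρ t w) = w := app_inv_self _ _
    show ψ (ρ t⁻¹ (ρ t w)) = 0 ↔ ρ t w ∈ fixS ρ (cj E t)
    rw [e1, hk w hw, mem_fix_cj, e1]
  · obtain ⟨g, a, ha, rfl⟩ := g
    rw [comS_cj] at hv
    obtain ⟨w, hw, rfl⟩ := hv
    have hm : m.symm ⟨_, ⟨a, ha, rfl⟩⟩ = ⟨a, ha⟩ := m.symm_apply_eq.2 rfl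
    show ψ (ρ t⁻¹ (ρ (t * a * t⁻¹) (ρ t w))) i = ψ (ρ t⁻¹ (ρ t w)) ((e (m.symm ⟨_, ⟨a, ha, rfl⟩⟩))⁻¹ i)
    rw [hm, app_mul, app_mul]
    simp only [app_inv_self]
    exact he ⟨a, ha⟩ w hw i

/-- The translates of one component give a decomposition. -/
theorem split_of_pieces [Finite P] (hf : ∀ g : P, (∀ v, ρ g v = v) → g = 1) {T : Subgroup P} {E₀ : Subgroup P}
    (hsup : T ⊔ E₀ = ⊤) (hsplit : fixS ρ E₀ ⊔ comS ρ E₀ = ⊤) (hsec : LinSec ρ p E₀ ∨ SymSec ρ p E₀)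
    (horth : ∀ t ∈ T, cj E₀ t ≠ E₀ → comS ρ (cj E₀ t) ≤ fixS ρ E₀ ∧ comS ρ E₀ ≤ fixS ρ (cj E₀ t)) :
    ∃ (r : ℕ) (E : Fin r → Subgroup P), Split ρ p T E ∧ E₀ ≤ (⨆ i, E i) ∧ ∀ i, ∃ t, cj E₀ t = E i := by
  classical
  set s : Set (Subgroup P) := {E | ∃ t ∈ T, cj E₀ t = E}
  have hone : cj E₀ (1 : P) = E₀ := cj_eq_of_comm fun a _ => by simp
  let e : ↥s ≃ Fin (Nat.card ↥s) := Finite.equivFin ↥s
  let E : Fin (Nat.card ↥s) → Subgroup P := fun i => (e.symm i).1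
  have hEmem : ∀ i, ∃ t ∈ T, cj E₀ t = E i := fun i => (e.symm i).2
  have hinj : ∀ i j, E i = E j → i = j := fun i j h => e.symm.injective (Subtype.ext h)
  have hsurj : ∀ t ∈ T, ∃ i, E i = cj E₀ t := fun t ht => ⟨e ⟨_, t, ht, rfl⟩, congrArg Subtype.val (e.symm_apply_apply _)⟩
  have hort : ∀ i j, i ≠ j → comS ρ (E i) ≤ fixS ρ (E j) := by
    intro i j hij
    obtain ⟨t, ht, hti⟩ := hEmem i
    obtain ⟨t', ht', htj⟩ := hEmem j
    have hne : cj E₀ (t⁻¹ * t') ≠ E₀ := fun h => hij (hinj i j (by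
      rw [← hti, ← htj]
      conv_lhs => rw [← h, cj_cj, mul_inv_cancel_left]))
    obtain ⟨-, h2⟩ := horth _ (mul_mem (inv_mem ht) ht') hne
    intro v hv
    rw [← hti, comS_cj] at hv
    obtain ⟨w, hw, rfl⟩ := hv
    have h3 := apply_mem_fix_cj (σ := ρ) t (h2 hw)
    rwa [cj_cj, mul_inv_cancel_left, htj] at h3
  have hspl : ∀ i, fixS ρ (E i) ⊔ comS ρ (E i) = ⊤ := by
    intro i
    obtain ⟨t, ht, hti⟩ := hEmem i
    refine eq_top_iff.2 fun v _ => ?_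
    obtain ⟨a, ha, b, hb, hab⟩ := AddSubgroup.mem_sup.1 (hsplit.ge (AddSubgroup.mem_top (ρ t⁻¹ v)))
    rw [← app_self_inv (σ := ρ) t v, ← hab, map_add, ← hti]
    exact add_mem (AddSubgroup.mem_sup_left (apply_mem_fix_cj t ha))
      (AddSubgroup.mem_sup_right (apply_mem_comS_cj t hb))
  obtain ⟨i₀, hi₀⟩ := hsurj 1 (one_mem T)
  rw [hone] at hi₀
  refine ⟨_, E, ⟨(Fin.pos i₀), fun i j hij => commute_of_comS hf (hort i j hij) (hort j i (Ne.symm hij)),
    fun i => ?_, ?_, fun i j => ?_, fun t ht i => ?_, ?_, hort, fun i => ?_⟩, hi₀ ▸ le_iSup E i₀, fun i => ?_⟩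
  · rw [eq_bot_iff]
    rintro g ⟨hg, hg'⟩
    refine mem_bot.2 (hf g fun v => ?_)
    obtain ⟨a, ha, b, hb, rfl⟩ := AddSubgroup.mem_sup.1 ((hspl i).ge (AddSubgroup.mem_top v))
    have hle : (⨆ j ∈ {j | j ≠ i}, E j) ≤ fixingV ρ {b} :=
      iSup₂_le fun j hj => le_fixing_of_fix (hort i j (Ne.symm hj) hb)
    rw [map_add, ha g hg, hle hg' b rfl]
  · refine top_le_iff.1 (hsup.ge.trans (sup_le le_sup_right (le_sup_of_le_left ?_)))
    rw [← hi₀]; exact le_iSup E i₀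
  · obtain ⟨t, ht, hti⟩ := hEmem i
    obtain ⟨t', ht', htj⟩ := hEmem j
    exact ⟨t' * t⁻¹, mul_mem ht' (inv_mem ht), by rw [← hti, cj_cj, inv_mul_cancel_right, htj]⟩
  · obtain ⟨t', ht', hti⟩ := hEmem i
    obtain ⟨j, hj⟩ := hsurj (t * t') (mul_mem ht ht')
    exact ⟨j, by rw [hj, ← hti, cj_cj]⟩
  · refine eq_top_iff.2 fun v _ => ?_
    have key : ∀ s : Finset (Fin (Nat.card ↥(_ : Set (Subgroup P)))), ∃ w ∈ ⨆ i, comS ρ (E i),
        ∀ i ∈ s, v - w ∈ fixS ρ (E i) := by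
      intro s
      induction s using Finset.induction_on with
      | empty => exact ⟨0, zero_mem _, fun i hi => absurd hi (Finset.notMem_empty i)⟩
      | @insert a s ha ih =>
        obtain ⟨w, hw, hws⟩ := ih
        obtain ⟨f, hf', n, hn, e'⟩ := AddSubgroup.mem_sup.1 ((hspl a).ge (AddSubgroup.mem_top (v - w)))
        refine ⟨w + n, add_mem hw (AddSubgroup.mem_iSup_of_mem a hn), fun i hi => ?_⟩
        rw [← sub_sub]
        rcases Finset.mem_insert.1 hi with rfl | hi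
        · rw [← e', add_sub_cancel_right]; exact hf'
        · exact sub_mem (hws i hi) (hort a i (fun e => ha (e ▸ hi)) hn)
    obtain ⟨w, hw, hws⟩ := key Finset.univ
    refine AddSubgroup.mem_sup.2 ⟨v - w, fun g hg => ?_, w, hw, sub_add_cancel v w⟩
    have hle : (⨆ i, E i) ≤ fixingV ρ {v - w} := iSup_le fun i => le_fixing_of_fix (hws i (Finset.mem_univ i))
    exact hle hg _ rfl
  · obtain ⟨t, -, hti⟩ := hEmem i
    rw [← hti]
    exact hsec.imp (fun h => h.conj t) (fun h => h.conj t)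
  · obtain ⟨t, -, hti⟩ := hEmem i
    exact ⟨t, hti⟩

/-- The product of the components is normal. -/
theorem Split.normal {T : Subgroup P} {n : ℕ} {E : Fin n → Subgroup P} (h : Split ρ p T E) :
    (⨆ i, E i).Normal := by
  refine normalizer_eq_top_iff.1 (top_le_iff.1 (h.sup.ge.trans (sup_le le_normalizer fun t ht => ?_)))
  have key : ∀ s ∈ T, ∀ x ∈ (⨆ i, E i), s * x * s⁻¹ ∈ (⨆ i, E i) := fun s hs x hx => by
    have h1 : cj (⨆ i, E i) s ≤ ⨆ i, E i := by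
      rw [cj, Subgroup.map_iSup]
      exact iSup_le fun i => by
        obtain ⟨j, hj⟩ := h.perm s hs i
        exact hj.le.trans (le_iSup E j)
    exact h1 ⟨x, hx, rfl⟩
  rw [mem_normalizer_iff]
  exact fun x => ⟨key t ht x, fun hx => by simpa [mul_assoc] using key t⁻¹ (inv_mem ht) _ hx⟩

namespace Red

variable [Finite P] [Finite V] [Fact p.Prime] {c : Chief ρ p} (r : Red ρ p c)
include r

omit r in
theorem img_sSup (S : Set (Subgroup P)) : c.img (sSup S) = ⨆ A ∈ S, c.img A := by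
  rw [sSup_eq_iSup, Chief.img, Subgroup.map_iSup]
  simp only [Subgroup.map_iSup]

/-- Classes of commutators. -/
theorem cls_comS {S : Set (Subgroup P)} (hS : ∀ A ∈ S, MinOff ρ p A) {v : V} (hv : v ∈ comS ρ (sSup S)) :
    ∃ h : v ∈ c.V₁, c.cls h ∈ comS c.actBar (c.img (sSup S)) := by
  set E := sSup S
  let W : AddSubgroup V :=
    { carrier := {v | ∃ h : v ∈ c.V₁, c.cls h ∈ comS c.actBar (c.img E)}
      zero_mem' := ⟨zero_mem _, (c.cls_eq_zero (zero_mem _)).2 (zero_mem _) ▸ zero_mem _⟩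
      add_mem' := fun {a b} ⟨h1, h2⟩ ⟨h3, h4⟩ => ⟨add_mem h1 h3, AddSubgroup.add_mem _ h2 h4⟩
      neg_mem' := fun {a} ⟨h1, h2⟩ => ⟨neg_mem h1, AddSubgroup.neg_mem _ h2⟩ }
  let H : Subgroup P :=
    { carrier := {g | ∀ w, ρ g w - w ∈ W}
      one_mem' := fun w => by rw [app_one, sub_self]; exact zero_mem _
      mul_mem' := fun {a b} ha hb w => by
        rw [app_mul, show ρ a (ρ b w) - w = (ρ a (ρ b w) - ρ b w) + (ρ b w - w) by abel]
        exact add_mem (ha _) (hb w)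
      inv_mem' := fun {a} ha w => by
        have := neg_mem (ha (ρ a⁻¹ w))
        rwa [app_self_inv, neg_sub] at this }
  have hle : E ≤ H := sSup_le fun A hA a ha w => by
    have hs := r.seen (hS A hA)
    obtain ⟨f, hf, w₀, hw₀, rfl⟩ := AddSubgroup.mem_sup.1 (hs.sup.ge (AddSubgroup.mem_top w))
    rw [map_add, hf a ha, add_sub_add_left_eq_sub]
    exact ⟨sub_mem (c.inv a w₀ hw₀) hw₀,
      sub_mem_comS (σ := c.actBar) (mem_map_of_mem _ (le_sSup hA ha)) (c.cls hw₀)⟩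
  exact (comS_le fun g hg w => hle hg w : comS ρ E ≤ W) hv

/-- Fixed classes are fixed. -/
theorem mem_fix_of_cls {S : Set (Subgroup P)} (hS : ∀ A ∈ S, MinOff ρ p A) {v : V} (hv : v ∈ c.V₁)
    (h : c.cls hv ∈ fixS c.actBar (c.img (sSup S))) : v ∈ fixS ρ (sSup S) := by
  intro g hg
  refine (sSup_le fun A hA => le_fixing_of_fix ((r.seen (hS A hA)).pre (c.mem_pre.2 ⟨hv, (c.cls_mem_fix hv).1 ?_⟩)) :
    sSup S ≤ fixingV ρ {v}) hg v rfl
  rw [← c.fix_img]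
  exact fix_le (map_mono (le_sSup hA)) h

theorem orth_of_top {S S' : Set (Subgroup P)} (hS : ∀ A ∈ S, MinOff ρ p A) (hS' : ∀ A ∈ S', MinOff ρ p A)
    (h : comS c.actBar (c.img (sSup S)) ≤ fixS c.actBar (c.img (sSup S'))) :
    comS ρ (sSup S) ≤ fixS ρ (sSup S') := fun v hv => by
  obtain ⟨h1, h2⟩ := r.cls_comS hS hv
  exact r.mem_fix_of_cls hS' h1 (h h2)

theorem exists_split_linear {T : Sylow p P} {M A : Subgroup P} (hM : IsCoatom M) (hTM : (T : Subgroup P) ≤ M)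
    (hA : MinOff ρ p A) (hAT : A ≤ (T : Subgroup P)) {F : Type} [Field F] [Finite F]
    {Bb : Block c.actBar F (c.img A)} (o : Orbit c.actBar p (c.sylowBar T) (c.MBar M) (c.img A) Bb) :
    ∃ (n : ℕ) (E : Fin n → Subgroup P), Split ρ p (T : Subgroup P) E ∧ (∃ A', MinOff ρ p A' ∧ A' ≤ ⨆ i, E i) ∧
      ∀ i, E i ≤ sSup {A' | MinOff ρ p A'} := by
  classical
  obtain ⟨-, F', iF, fF, B, B₀, hφ, h₀, -, -, -⟩ := r.lift hA hM hTM hAT
  haveI := Fintype.ofFinite F'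
  have hX : XData (V := V) p T M := ⟨r.exponent, r.pmin, hM, hTM⟩
  have hinj := r.mk_injective
  have himgE : c.img B.grp = B₀.grp := by
    ext x
    constructor
    · rintro ⟨_, ⟨k, rfl⟩, rfl⟩; exact ⟨k, (hφ k).symm⟩
    · rintro ⟨k, rfl⟩; exact ⟨B.φ k, ⟨k, rfl⟩, hφ k⟩
  have hgrp : c.img B.grp = Bb.grp := by
    rw [himgE]
    haveI := Fintype.ofFinite F
    have hcard : Fintype.card F' = Fintype.card F := by
      rw [← Nat.card_eq_fintype_card, ← Nat.card_eq_fintype_card, ← B₀.card_A, ← Bb.card_A]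
    have := o.grp_eq (B₀.mapField (FiniteField.ringEquivOfCardEq hcard)) (by
      show B₀.hh.comp _ = 0
      rw [h₀, AddMonoidHom.zero_comp])
    rwa [Block.mapField_grp] at this
  set S : Set (Subgroup P) := {A, cj A (B.φ wSL)}
  have hS : ∀ A' ∈ S, MinOff ρ p A' := by
    rintro A' (rfl | rfl)
    exacts [hA, hA.conj _]
  have hE : sSup S = B.grp := by rw [B.grp_eq, sSup_pair]
  obtain ⟨s, hs⟩ := o.unit
  have hsF : ∃ s : F'ˣ, (s : F') ≠ 1 := by
    haveI := Fintype.ofFinite F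
    have hcard : Fintype.card F = Fintype.card F' := by
      rw [← Nat.card_eq_fintype_card, ← Nat.card_eq_fintype_card, ← B₀.card_A, ← Bb.card_A]
    refine ⟨Units.map (FiniteField.ringEquivOfCardEq hcard : F →* F') s, fun e => hs ?_⟩
    exact (FiniteField.ringEquivOfCardEq hcard).injective (e.trans (map_one _).symm)
  have hlam : ∀ x, B.lam x ∈ comS ρ B.grp := fun x => by
    obtain ⟨s, hs⟩ := hsF
    have e : B.lam x = ρ (B.dg s) (B.lam (x / ((s : F') - 1))) - B.lam (x / ((s : F') - 1)) := by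
      rw [B.app_dg_lam, ← map_sub, ← sub_one_mul, mul_div_cancel₀ _ (sub_ne_zero.2 hs)]
    rw [e]; exact sub_mem_comS (B.dg_mem_grp s) _
  have hom : ∀ x, B.om x ∈ comS ρ B.grp := fun x => by
    have h1 := apply_mem_comS (B.grp.inv_mem ⟨wSL, rfl⟩) (hlam x)
    rwa [← map_inv, B.w_inv_lam] at h1
  suffices hsp : ∃ (n : ℕ) (E : Fin n → Subgroup P), Split ρ p (T : Subgroup P) E ∧ B.grp ≤ (⨆ i, E i) ∧
      ∀ i, ∃ t, cj B.grp t = E i by
    obtain ⟨n, E, h, hle, hall⟩ := hsp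
    refine ⟨n, E, h, ⟨A, hA, B.A_le_grp.trans hle⟩, fun i => ?_⟩
    obtain ⟨t, ht⟩ := hall i
    rw [← ht, ← hE, sSup_pair, cj, Subgroup.map_sup]
    exact sup_le (le_sSup (hA.conj t)) (le_sSup ((hA.conj _).conj t))
  refine split_of_pieces r.faith (E₀ := B.grp) ?_ ?_ (Or.inl ?_) fun t ht hne => ?_
  · refine map_injective hinj ?_
    rw [Subgroup.map_sup, Subgroup.map_top_of_surjective _ (QuotientGroup.mk'_surjective c.K)]
    show _ ⊔ c.img B.grp = ⊤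
    rw [hgrp, ← c.sylowBar_coe hX]
    exact o.sylow_sup_grp
  · refine eq_top_iff.2 fun v _ => ?_
    obtain ⟨k, hk, x, y, rfl⟩ := B.decomp v
    rw [add_assoc]
    exact add_mem (AddSubgroup.mem_sup_left (B.fix_grp.ge hk)) (AddSubgroup.mem_sup_right (add_mem (hlam x) (hom y)))
  · obtain ⟨k, hk⟩ := IsPGroup.iff_card.1 hA.off.elem.isPGroup
    have hφinj : Function.Injective B.φ := (injective_iff_map_eq_one _).2 fun g hg => by
      have key : ∀ z : F' × F', mulv g z = z := fun z => by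
        obtain ⟨v, rfl⟩ := B.crd_surjective z
        rw [← B.crd_app, hg, app_one]
      have h1 := key (1, 0)
      have h2 := key (0, 1)
      simp [mulv] at h1 h2
      apply Subtype.ext
      ext i j
      fin_cases i <;> fin_cases j <;> simp [h1.1, h1.2, h2.1, h2.2]
    have hcardF : Fintype.card F' = p ^ k := by rw [← Nat.card_eq_fintype_card, ← B.card_A, hk]
    refine ⟨k, ?_, F', iF, inferInstance, hcardF, (MonoidHom.ofInjective hφinj).symm, B.crd, fun z => ?_,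
      fun v _ => by rw [B.fix_grp]; exact B.crd_eq_zero, fun g v => ?_⟩
    · by_contra hk0
      rw [show k = 0 by omega, pow_zero] at hk
      exact hA.off.ne (Subgroup.eq_bot_of_card_le A hk.le)
    · exact ⟨B.lam z.1 + B.om z.2, add_mem (hlam _) (hom _), by rw [map_add, B.crd_lam, B.crd_om]; simp⟩
    · obtain ⟨_, k, rfl⟩ := g
      rw [B.crd_app, show (MonoidHom.ofInjective hφinj).symm ⟨B.φ k, _⟩ = k from
        (MonoidHom.ofInjective hφinj).symm_apply_eq.2 rfl]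
  · -- different translates
    set tb := QuotientGroup.mk' c.K t
    have htb : tb ∈ ((c.sylowBar T : Sylow p c.Xbar) : Subgroup c.Xbar) := by
      rw [c.sylowBar_coe hX]; exact mem_map_of_mem _ ht
    have hne' : cj (c.img A) tb ≠ c.img A := fun e => hne (map_injective hinj (by
      show c.img (cj B.grp t) = c.img B.grp
      rw [img_cj, hgrp]
      exact o.conj_grp_eq e))
    obtain ⟨-, h1⟩ := o.grp_commute_conj htb hne'
    have h2 : comS c.actBar Bb.grp ≤ fixS c.actBar (cj Bb.grp tb) := by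
      have htb' := inv_mem htb
      have hne'' : cj (c.img A) tb⁻¹ ≠ c.img A := fun e => hne' (by
        conv_lhs => rw [← e, cj_cj, mul_inv_cancel, cj_eq_of_comm (A := c.img A) (g := (1 : c.Xbar)) fun a _ => by simp])
      obtain ⟨-, h3⟩ := o.grp_commute_conj htb' hne''
      intro w hw
      refine mem_fix_cj.2 (h3 ?_)
      exact apply_mem_comS_cj _ hw
    set S' : Set (Subgroup P) := {cj A t, cj (cj A (B.φ wSL)) t}
    have hS' : ∀ A' ∈ S', MinOff ρ p A' := by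
      rintro A' (rfl | rfl)
      exacts [hA.conj _, (hA.conj _).conj _]
    have hE' : sSup S' = cj B.grp t := by rw [sSup_pair, B.grp_eq]; exact (Subgroup.map_sup _ _ _).symm
    rw [← hE', ← hE]
    refine ⟨r.orth_of_top hS' hS ?_, r.orth_of_top hS hS' ?_⟩
    · rw [hE', hE, img_cj, hgrp]; exact h1
    · rw [hE', hE, img_cj, hgrp]; exact h2

end Red

end Cfsg.Agent.FFMinimal
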