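import Cfsg.Agent.Lib.FFMinimal.Split

/-!
The decomposition when the components are symmetric groups.

* `Red.lift_tv` : transvections of the top lift to transvections
* `Red.exists_split_sym` : the decomposition
* `Red.exists_split` : both cases together
-/

set_option autoImplicit false

namespace Cfsg.Agent.FFMinimal

open Subgroup
open scoped MatrixGroups
open OffenderSL2 (fixS cj app_mul app_one app_inv_self app_self_inv fix_le fix_sup mem_fix_cj apply_mem_fix_cj mem_cj cj_cj)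

universe u v

namespace TCtx.Frame

variable {P : Type u} [Group P] [Finite P] {V : Type v} [AddCommGroup V] [Finite V] {σ : P →* AddMonoid.End V}
  {h : TCtx σ} {Ω : Finset V} (hΩ : h.Frame Ω)
include hΩ

theorem f_eq_pt {a b : V} (hex : ∃ A, MinOff σ 2 A) (ha : a ∈ Ω) (hb : b ∈ Ω) (hab : a ≠ b) (v : V) :
    h.f (a + b) v = hΩ.pt a v + hΩ.pt b v := by
  have hle : AddSubgroup.closure (tvSet σ) ≤ (h.f (a + b) - (hΩ.pt a + hΩ.pt b)).ker := by
    refine (AddSubgroup.closure_le _).2 fun x hx => ?_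
    show (h.f (a + b) - (hΩ.pt a + hΩ.pt b)) x = 0
    rw [AddMonoidHom.sub_apply, AddMonoidHom.add_apply, sub_eq_zero]
    rcases hΩ.closed x hx with ⟨p, hp, q, hq, hpq, rfl⟩ | h0
    · have key : ∀ u, u ∈ Ω → ∀ w ∈ Ω, w ≠ u → h.f (p + q) u = hΩ.pt u (p + q) := fun u hu w hw hwu => by
        by_cases e : u = p ∨ u = q
        · rw [(hΩ.pt_edge hu hp hq hpq).1 e]
          rcases e with rfl | rfl
          exacts [hΩ.eval_left u hu q hq hpq, hΩ.eval_right hp hu hpq]
        · push Not at e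
          rw [(hΩ.pt_edge hu hp hq hpq).2 e.1 e.2, hΩ.eval_ne p hp q hq hpq u hu e.1 e.2]
      rw [h.symm (hΩ.edge a ha b hb hab) (hΩ.edge p hp q hq hpq), map_add, key a ha b hb hab.symm,
        key b hb a ha hab]
    · rw [h.symm (hΩ.edge a ha b hb hab) hx, map_add, h0 a ha, h0 b hb, hΩ.pt_other ha hx h0,
        hΩ.pt_other hb hx h0]
  have e := AddMonoidHom.mem_ker.1 (hle ((h.closure_eq_top hex).ge (AddSubgroup.mem_top v)))
  rwa [AddMonoidHom.sub_apply, AddMonoidHom.add_apply, sub_eq_zero] at e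

theorem pt_sum (hex : ∃ A, MinOff σ 2 A) (v : V) : ∑ u ∈ Ω, hΩ.pt u v = 0 := by
  classical
  have hle : AddSubgroup.closure (tvSet σ) ≤ (∑ u ∈ Ω, hΩ.pt u).ker := by
    refine (AddSubgroup.closure_le _).2 fun x hx => ?_
    show (∑ u ∈ Ω, hΩ.pt u) x = 0
    rw [AddMonoidHom.finset_sum_apply]
    rcases hΩ.closed x hx with ⟨p, hp, q, hq, hpq, rfl⟩ | h0
    · rw [← Finset.add_sum_erase _ _ hp, ← Finset.add_sum_erase _ _ (Finset.mem_erase.2 ⟨hpq.symm, hq⟩),
        (hΩ.pt_edge hp hp hq hpq).1 (Or.inl rfl), (hΩ.pt_edge hq hp hq hpq).1 (Or.inr rfl),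
        Finset.sum_eq_zero fun u hu => ?_]
      · decide
      · simp only [Finset.mem_erase] at hu
        exact (hΩ.pt_edge hu.2.2 hp hq hpq).2 hu.2.1 hu.1
    · exact Finset.sum_eq_zero fun u hu => hΩ.pt_other hu hx h0
  have e := AddMonoidHom.mem_ker.1 (hle ((h.closure_eq_top hex).ge (AddSubgroup.mem_top v)))
  rwa [AddMonoidHom.finset_sum_apply] at e

theorem pt_app {g : P} (hg : g ∈ hΩ.stab) {u : V} (hu : u ∈ Ω) (v : V) :
    hΩ.pt u (σ g v) = hΩ.pt (σ g⁻¹ u) v := by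
  classical
  have hgi : g⁻¹ ∈ hΩ.stab := inv_mem hg
  have hinj : Function.Injective (σ g⁻¹) := fun x y e => by
    rw [← app_self_inv (σ := σ) g x, e, app_self_inv]
  rw [hΩ.pt_apply, hΩ.pt_apply]
  refine Finset.sum_bij (fun w _ => σ g⁻¹ w) (fun w hw => ?_) (fun a _ b _ e => hinj e) (fun w hw => ?_)
    (fun w hw => ?_)
  · exact Finset.mem_erase.2 ⟨fun e => Finset.ne_of_mem_erase hw (hinj e), hgi w (Finset.mem_of_mem_erase hw)⟩
  · refine ⟨σ g w, Finset.mem_erase.2 ⟨fun e => Finset.ne_of_mem_erase hw ?_, hg w (Finset.mem_of_mem_erase hw)⟩,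
      app_inv_self g w⟩
    rw [← e, app_inv_self]
  · have hne : u ≠ w := (Finset.ne_of_mem_erase hw).symm
    obtain ⟨-, -, h3⟩ := h.tv_app g⁻¹ (hΩ.edge u hu w (Finset.mem_of_mem_erase hw) hne)
    rw [← map_add, h3, inv_inv]

end TCtx.Frame

variable {P : Type u} [Group P] [Finite P] {V : Type v} [AddCommGroup V] [Finite V]
  {ρ : P →* AddMonoid.End V} {c : Chief ρ 2}

namespace Red

variable (r : Red ρ 2 c) (h : TCtx c.actBar)
include r h

/-- The top has transvections. -/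
theorem exists_minOff_top : ∃ A, MinOff c.actBar 2 A := by
  obtain ⟨A, hA⟩ := r.exists_minOff
  exact ⟨_, (r.seen hA).minOff⟩

/-- A transvection of the top lifts. -/
theorem lift_tv {y : c.U} (hy : y ∈ tvSet c.actBar) :
    ∃ (A : Subgroup P) (z : V) (hz : z ∈ c.V₁), MinOff ρ 2 A ∧ c.img A = zpowers (tv c.actBar y) ∧
      c.cls hz = y ∧ z ∈ comS ρ A ∧ ∀ w ∈ comS ρ A, w = 0 ∨ w = z := by
  classical
  obtain ⟨A₁, hA₁⟩ := r.exists_minOff
  obtain ⟨t₁, x₁, he₁, ht₁⟩ := h.exists_of_minOff (r.seen hA₁).minOff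
  obtain ⟨gb, hg⟩ := h.conjugate (r.exists_minOff_top h) (x := x₁) ⟨t₁, ht₁⟩ hy
  obtain ⟨g, rfl⟩ := QuotientGroup.mk'_surjective c.K gb
  obtain ⟨-, h2, -⟩ := h.tv_app (QuotientGroup.mk' c.K g) (x := x₁) ⟨t₁, ht₁⟩
  rw [hg, h.eq_tv ht₁] at h2
  have hA := hA₁.conj g
  have himg : c.img (cj A₁ g) = zpowers (tv c.actBar y) := by
    rw [img_cj, he₁, h2]
    show Subgroup.map _ _ = _
    rw [MonoidHom.map_zpowers]; rfl
  set A := cj A₁ g
  obtain ⟨T, hAT⟩ := hA.off.elem.isPGroup.exists_le_sylow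
  obtain ⟨M, ⟨hM, hTM⟩, -⟩ := (r.pmin T).2
  obtain ⟨hs, F, iF, fF, B, B₀, hφ, h₀, -, -, htriv⟩ := r.lift hA hM hTM hAT
  have hcard : Nat.card F = 2 := by rw [← B₀.card_A, himg, h.small _ (h.isTv hy).1]
  have h01 : ∀ t : F, t = 0 ∨ t = 1 := fun t => by
    rw [Nat.card_eq_two_iff' (0 : F)] at hcard
    obtain ⟨z, -, hz⟩ := hcard
    exact or_iff_not_imp_left.2 fun h0 => (hz t h0).trans (hz 1 one_ne_zero).symm
  have hB : B.hh = 0 := B.hh_two h01
  have hmem : B.lam 1 ∈ comS ρ A := (B.comS_eq_range hB).ge ⟨1, rfl⟩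
  have hall : ∀ w ∈ comS ρ A, w = 0 ∨ w = B.lam 1 := fun w hw => by
    obtain ⟨x, rfl⟩ := (B.comS_eq_range hB).le hw
    rcases h01 x with rfl | rfl
    exacts [Or.inl (map_zero _), Or.inr rfl]
  have hS : sSup ({A} : Set (Subgroup P)) = A := sSup_singleton
  obtain ⟨hz, hc⟩ := r.cls_comS (S := {A}) (fun _ e => e ▸ hA) (v := B.lam 1) (by rw [hS]; exact hmem)
  rw [hS, himg] at hc
  refine ⟨A, B.lam 1, hz, hA, himg, (h.mem_comS_cases hy hc).resolve_left fun e0 => hA.off.ne ?_, hmem, hall⟩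
  refine le_bot_iff.1 (r.ker ▸ fun a ha => c.mem_K.2 fun v hv => ?_)
  rcases hall _ (sub_mem_comS ha v) with e | e <;> rw [e]
  exacts [zero_mem _, (c.cls_eq_zero hz).1 e0]

/-- The members of the component of a frame. -/
def Gen (_r : Red ρ 2 c) (_h : TCtx c.actBar) (Ω : Finset c.U) : Set (Subgroup P) :=
  {A | MinOff ρ 2 A ∧ ∃ x, Edge Ω x ∧ c.img A = zpowers (tv c.actBar x)}

theorem exists_split_sym {T : Sylow 2 P} {M : Subgroup P} (hM : IsCoatom M) (hTM : (T : Subgroup P) ≤ M) :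
    ∃ (n : ℕ) (E : Fin n → Subgroup P), Split ρ 2 (T : Subgroup P) E ∧ (∃ A', MinOff ρ 2 A' ∧ A' ≤ ⨆ i, E i) ∧
      ∀ i, E i ≤ sSup {A' | MinOff ρ 2 A'} := by
  classical
  have hex := r.exists_minOff_top h
  have hX : XData (V := V) 2 T M := ⟨r.exponent, r.pmin, hM, hTM⟩
  have hinj := r.mk_injective
  have hMb := (c.coatom_MBar hX).1
  have hTb : ((c.sylowBar T : Sylow 2 c.Xbar) : Subgroup c.Xbar) ≤ c.MBar M := by
    rw [c.sylowBar_coe hX]; exact map_mono hTM
  obtain ⟨Ab, hAb⟩ := hex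
  obtain ⟨t₁, x₁, -, ht₁⟩ := h.exists_of_minOff hAb
  obtain ⟨Ω, hΩ, hx₁⟩ := h.exists_frame ⟨Ab, hAb⟩ (x := x₁) ⟨t₁, ht₁⟩
  have hex : ∃ A, MinOff c.actBar 2 A := ⟨Ab, hAb⟩
  obtain ⟨o, ho, -, -, k, hk, hcard⟩ := hΩ.exists_top hex hMb hTb
  set S := r.Gen h Ω
  have hS : ∀ A ∈ S, MinOff ρ 2 A := fun A hA => hA.1
  have hedge : ∀ x, Edge Ω x → tv c.actBar x ∈ c.img (sSup S) := fun x hx => by
    obtain ⟨A, z, hz, hA, himg, -⟩ := r.lift_tv h (hΩ.mem_tvSet hx)
    have hmem : A ∈ S := ⟨hA, x, hx, himg⟩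
    exact map_mono (le_sSup hmem) (show tv c.actBar x ∈ c.img A from himg ▸ mem_zpowers _)
  have hgen : ∀ A ∈ S, ∀ a ∈ A, ∃ x, Edge Ω x ∧ (a : c.Xbar) ∈ zpowers (tv c.actBar x) := by
    rintro A ⟨-, x, hx, e⟩ a ha
    exact ⟨x, hx, e ▸ mem_map_of_mem (QuotientGroup.mk' c.K) ha⟩
  have hstab : ∀ g ∈ sSup S, (g : c.Xbar) ∈ hΩ.stab := fun g hg => by
    have hle : sSup S ≤ hΩ.stab.comap (QuotientGroup.mk' c.K) := sSup_le fun A hA a ha => by
      obtain ⟨x, hx, hm⟩ := hgen A hA a ha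
      exact (zpowers_le.2 (show tv c.actBar x ∈ hΩ.stab from fun w hw => hΩ.app_mem (hΩ.mem_tvSet hx) hw)) hm
    exact hle hg
  have hfixother : ∀ g ∈ sSup S, ∀ y ∈ tvSet c.actBar, (∀ w ∈ Ω, h.f y w = 0) →
      c.actBar (g : c.Xbar) y = y := fun g hg y hy h0 => by
    have hle : sSup S ≤ (fixingV c.actBar {y}).comap (QuotientGroup.mk' c.K) := sSup_le fun A hA a ha => by
      obtain ⟨x, hx, hm⟩ := hgen A hA a ha
      refine (zpowers_le.2 (show tv c.actBar x ∈ fixingV c.actBar {y} from fun w hw => ?_)) hm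
      rw [Set.mem_singleton_iff.1 hw]
      refine h.app_zero' (hΩ.mem_tvSet hx) ?_
      obtain ⟨p, hp, q, hq, hpq, rfl⟩ := hx
      rw [h.symm (hΩ.edge p hp q hq hpq) hy, map_add, h0 p hp, h0 q hq, add_zero]
    exact hle hg y rfl
  -- lifts of the edges at `o`
  have hlift : ∀ u : c.U, ∃ (A : Subgroup P) (z : V), u ∈ Ω → u ≠ o → ∃ hz : z ∈ c.V₁, A ∈ S ∧
      c.img A = zpowers (tv c.actBar (u + o)) ∧ c.cls hz = u + o ∧ z ∈ comS ρ (sSup S) ∧
        ∀ w ∈ comS ρ A, w = 0 ∨ w = z := fun u => by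
    by_cases e : u ∈ Ω ∧ u ≠ o
    · obtain ⟨A, z, hz, hA, himg, hc, hzA, hall⟩ := r.lift_tv h (hΩ.edge u e.1 o ho e.2)
      have hmem : A ∈ S := ⟨hA, u + o, ⟨u, e.1, o, ho, e.2, rfl⟩, himg⟩
      exact ⟨A, z, fun _ _ => ⟨hz, hmem, himg, hc, comS_mono (le_sSup hmem) hzA, hall⟩⟩
    · exact ⟨⊥, 0, fun h1 h2 => absurd ⟨h1, h2⟩ e⟩
  choose Af zf hzf using hlift
  set s := Ω.erase o with hsdef
  have hs : ∀ {u}, u ∈ s → u ∈ Ω ∧ u ≠ o := fun hu => ⟨Finset.mem_of_mem_erase hu, Finset.ne_of_mem_erase hu⟩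
  have h2 := hΩ.three
  have hscard : s.card = 2 ^ k := by rw [hsdef, Finset.card_erase_of_mem ho, hcard]; omega
  have hadd : ∀ {a b}, a ∈ s → b ∈ s → a ≠ b → h.f (a + o) (b + o) = 1 := fun {a b} ha hb hab => by
    rw [add_comm a, add_comm b]
    exact hΩ.meet ho (hs ha).1 (hs hb).1 (hs ha).2.symm (hs hb).2.symm hab
  have hsplit : fixS ρ (sSup S) ⊔ comS ρ (sSup S) = ⊤ := by
    refine eq_top_iff.2 fun v _ => ?_
    -- the coefficients
    have hF : ∀ u, ∃ b : ZMod 2, u ∈ s → ∀ a ∈ Af u, a ≠ 1 → ρ a v - v = b.val • zf u := fun u => by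
      by_cases hu : u ∈ s
      · obtain ⟨hz, hmem, himg, -, -, hall⟩ := hzf u (hs hu).1 (hs hu).2
        obtain ⟨a, ha, ha1⟩ : ∃ a ∈ Af u, a ≠ 1 := by
          by_contra hc
          push Not at hc
          exact (hS _ hmem).off.ne ((Subgroup.eq_bot_iff_forall _).2 hc)
        have huniq : ∀ b ∈ Af u, b ≠ 1 → b = a := fun b hb hb1 => by
          have hc2 : Nat.card ↥(Af u) = 2 := by
            rw [← h.small _ (h.isTv (hΩ.edge u (hs hu).1 o ho (hs hu).2)).1, ← himg,
              card_map_of_injective hinj]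
          rw [Nat.card_eq_two_iff' (1 : ↥(Af u))] at hc2
          obtain ⟨z, -, hz'⟩ := hc2
          exact congrArg Subtype.val ((hz' ⟨b, hb⟩ fun e => hb1 (congrArg Subtype.val e)).trans
            (hz' ⟨a, ha⟩ fun e => ha1 (congrArg Subtype.val e)).symm)
        rcases hall _ (sub_mem_comS ha v) with e | e
        · exact ⟨0, fun _ b hb hb1 => by rw [huniq b hb hb1, e, ZMod.val_zero, zero_nsmul]⟩
        · exact ⟨1, fun _ b hb hb1 => by
            rw [huniq b hb hb1, e, show (1 : ZMod 2).val = 1 from rfl, one_nsmul]⟩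
      · exact ⟨0, fun h => absurd h hu⟩
    choose Fc hFc using hF
    set C := ∑ u ∈ s, Fc u with hC
    set w := ∑ u ∈ s, (C + Fc u).val • zf u with hw
    have hwE : w ∈ comS ρ (sSup S) := sum_mem fun u hu => by
      obtain ⟨-, -, -, -, hz, -⟩ := hzf u (hs hu).1 (hs hu).2
      exact nsmul_mem hz _
    refine AddSubgroup.mem_sup.2 ⟨v - w, ?_, w, hwE, sub_add_cancel v w⟩
    have hfix : ∀ u ∈ s, v - w ∈ fixS ρ (Af u) := by
      intro u hu a ha
      by_cases ha1 : a = 1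
      · rw [ha1, app_one]
      obtain ⟨hz, hmem, himg, hcls, -, hall⟩ := hzf u (hs hu).1 (hs hu).2
      have hx : u + o ∈ tvSet c.actBar := hΩ.edge u (hs hu).1 o ho (hs hu).2
      have hat : (a : c.Xbar) = tv c.actBar (u + o) := by
        have hc2 := h.small _ (h.isTv hx).1
        have hm : (a : c.Xbar) ∈ zpowers (tv c.actBar (u + o)) := himg ▸ mem_map_of_mem _ ha
        rw [Nat.card_eq_two_iff' (1 : ↥(zpowers (tv c.actBar (u + o))))] at hc2
        obtain ⟨z, -, hz'⟩ := hc2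
        exact congrArg Subtype.val ((hz' ⟨_, hm⟩ fun e => ha1 (hinj (by
          rw [map_one]; exact congrArg Subtype.val e))).trans
          (hz' ⟨_, mem_zpowers _⟩ fun e => h.tv_ne_one hx (congrArg Subtype.val e)).symm)
      -- the image of the translation part
      obtain ⟨hwV, hwc⟩ : ∃ hwV : w ∈ c.V₁, h.f (u + o) (c.cls hwV) = Fc u := by
        have hwV : w ∈ c.V₁ := sum_mem fun u hu => by
          obtain ⟨hz, -⟩ := hzf u (hs hu).1 (hs hu).2
          exact nsmul_mem hz _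
        refine ⟨hwV, ?_⟩
        have hsum : ∀ t : Finset c.U, t ⊆ s → ∀ hm : (∑ u' ∈ t, (C + Fc u').val • zf u') ∈ c.V₁,
            h.f (u + o) (c.cls hm) = ∑ u' ∈ t, (C + Fc u') * h.f (u + o) (u' + o) := by
          intro t ht
          induction t using Finset.induction_on with
          | empty => intro hm; rw [(c.cls_eq_zero hm).2 (by simp), map_zero, Finset.sum_empty]
          | @insert a t hat iht =>
            intro hm
            obtain ⟨hz', -, -, hcls', -, -⟩ := hzf a (hs (ht (Finset.mem_insert_self a t))).1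
              (hs (ht (Finset.mem_insert_self a t))).2
            have hm' : (∑ u' ∈ t, (C + Fc u').val • zf u') ∈ c.V₁ := sum_mem fun b hb => by
              obtain ⟨hz'', -⟩ := hzf b (hs (ht (Finset.mem_insert_of_mem hb))).1
                (hs (ht (Finset.mem_insert_of_mem hb))).2
              exact nsmul_mem hz'' _
            have e : c.cls hm = (C + Fc a).val • c.cls hz' + c.cls hm' := by
              have e1 : c.cls hm = c.cls (AddSubgroup.add_mem _ (nsmul_mem hz' (C + Fc a).val) hm') :=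
                (c.cls_eq _ _).2 (by rw [Finset.sum_insert hat, sub_self]; exact zero_mem _)
              rw [e1]; rfl
            rw [e, map_add, map_nsmul, hcls', iht (fun b hb => ht (Finset.mem_insert_of_mem hb)) hm',
              nsmul_eq_mul, ZMod.natCast_val, ZMod.cast_id, Finset.sum_insert hat]
        rw [hsum s subset_rfl hwV, ← Finset.add_sum_erase _ _ hu, h.f_self hx, mul_zero, zero_add,
          Finset.sum_congr rfl (g := fun u' => C + Fc u') (fun u' hu' => by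
            rw [hadd hu (Finset.mem_of_mem_erase hu') (Finset.ne_of_mem_erase hu').symm, mul_one])]
        have htot : ∑ u' ∈ s, (C + Fc u') = C := by
          rw [Finset.sum_add_distrib, Finset.sum_const, hscard, ← hC, nsmul_eq_mul, Nat.cast_pow,
            show ((2 : ℕ) : ZMod 2) = 0 from rfl, zero_pow (by omega), zero_mul, zero_add]
        rw [← Finset.add_sum_erase _ _ hu] at htot
        have h20 : (2 : ZMod 2) = 0 := by decide
        linear_combination htot + (-(Fc u)) * h20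
      have hd : ρ a w - w ∈ comS ρ (Af u) := sub_mem_comS ha w
      have hdval : ρ a w - w = (Fc u).val • zf u := by
        have hcd : c.cls (sub_mem (c.inv a w hwV) hwV) = (Fc u).val • (u + o) := by
          show c.actBar (a : c.Xbar) (c.cls hwV) - c.cls hwV = _
          rw [hat, h.app_tv hx, hwc, add_sub_cancel_left]
        rcases hall _ hd with e | e
        · rw [e]
          rw [(c.cls_eq_zero _).2 (by rw [e]; exact zero_mem _)] at hcd
          rcases TCtx.zmod_two_cases (Fc u) with e' | e'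
          · rw [e', ZMod.val_zero, zero_nsmul]
          · rw [e', show (1 : ZMod 2).val = 1 from rfl, one_nsmul] at hcd
            exact absurd hcd.symm (h.ne_zero hx)
        · rw [e]
          rw [(c.cls_eq (sub_mem (c.inv a w hwV) hwV) hz).2 (by rw [e, sub_self]; exact zero_mem _), hcls] at hcd
          rcases TCtx.zmod_two_cases (Fc u) with e' | e'
          · rw [e', ZMod.val_zero, zero_nsmul] at hcd
            exact absurd hcd (h.ne_zero hx)
          · rw [e', show (1 : ZMod 2).val = 1 from rfl, one_nsmul]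
      rw [← sub_eq_zero, map_sub, show ρ a v - ρ a w - (v - w) = (ρ a v - v) - (ρ a w - w) by abel,
        hFc u hu a ha ha1, hdval, sub_self]
    have hle : sSup S ≤ fixingV ρ {v - w} := by
      refine sSup_le fun A hA => ?_
      obtain ⟨hAm, x, hx, himg⟩ := hA
      obtain ⟨a, ha, b, hb, hab, rfl⟩ := hx
      have hAf : ∀ u ∈ s, c.img (Af u) ≤ c.img (fixingV ρ {v - w}) := fun u hu =>
        map_mono (le_fixing_of_fix (hfix u hu))
      have htv : ∀ u ∈ s, tv c.actBar (u + o) ∈ c.img (fixingV ρ {v - w}) := fun u hu => by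
        obtain ⟨-, -, himg', -⟩ := hzf u (hs hu).1 (hs hu).2
        exact hAf u hu (himg' ▸ mem_zpowers _)
      refine (Subgroup.map_le_map_iff_of_injective hinj).1 ?_
      show c.img A ≤ _
      rw [himg, zpowers_le]
      by_cases hao : a = o
      · subst hao; rw [add_comm]; exact htv b (Finset.mem_erase.2 ⟨hab.symm, hb⟩)
      by_cases hbo : b = o
      · subst hbo; exact htv a (Finset.mem_erase.2 ⟨hab, ha⟩)
      · obtain ⟨-, e, -⟩ := h.tv_app (tv c.actBar (b + o)) (hΩ.edge a ha o ho hao)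
        rw [map_add, hΩ.swap_right hb ho hbo, hΩ.swap_ne hb ho hbo ha hab hao] at e
        rw [e]
        have h1 := htv b (Finset.mem_erase.2 ⟨hbo, hb⟩)
        exact mul_mem (mul_mem h1 (htv a (Finset.mem_erase.2 ⟨hao, ha⟩))) (inv_mem h1)
    exact fun g hg => hle hg _ rfl
  -- the symmetric group
  let π : ↥(sSup S) →* Equiv.Perm ↥Ω := MonoidHom.mk' (fun g =>
    { toFun := fun w => ⟨c.actBar ((g : P) : c.Xbar) w, hstab g g.2 w w.2⟩
      invFun := fun w => ⟨c.actBar ((((g⁻¹ : ↥(sSup S)) : P)) : c.Xbar) w, hstab _ (g⁻¹).2 w w.2⟩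
      left_inv := fun w => Subtype.ext (by
        show c.actBar (((g : P)⁻¹ : P) : c.Xbar) (c.actBar ((g : P) : c.Xbar) w) = w
        rw [← app_mul, ← QuotientGroup.mk_mul, inv_mul_cancel, QuotientGroup.mk_one, app_one])
      right_inv := fun w => Subtype.ext (by
        show c.actBar ((g : P) : c.Xbar) (c.actBar (((g : P)⁻¹ : P) : c.Xbar) w) = w
        rw [← app_mul, ← QuotientGroup.mk_mul, mul_inv_cancel, QuotientGroup.mk_one, app_one]) })
    fun a b => Equiv.ext fun w => Subtype.ext (by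
      show c.actBar _ _ = _; rw [Subgroup.coe_mul, QuotientGroup.mk_mul, app_mul]; rfl)
  have hπinj : Function.Injective π := (injective_iff_map_eq_one π).2 fun g hg => by
    have hpt : ∀ w ∈ Ω, c.actBar ((g : P) : c.Xbar) w = w := fun w hw =>
      congrArg Subtype.val (Equiv.ext_iff.1 hg ⟨w, hw⟩)
    refine Subtype.ext (hinj ?_)
    rw [OneMemClass.coe_one, map_one]
    refine r.ctx.faith _ fun v => ?_
    have hle : AddSubgroup.closure (tvSet c.actBar) ≤
        AddMonoidHom.eqLocus (M := c.U) (c.actBar ((g : P) : c.Xbar)) (AddMonoidHom.id c.U) := by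
      refine (AddSubgroup.closure_le _).2 fun y hy => ?_
      show c.actBar ((g : P) : c.Xbar) y = y
      rcases hΩ.closed y hy with ⟨a, ha, b, hb, -, rfl⟩ | h0
      · rw [map_add, hpt a ha, hpt b hb]
      · exact hfixother g g.2 y hy h0
    exact hle ((h.closure_eq_top hex).ge (AddSubgroup.mem_top v))
  have hπsurj : Function.Surjective π := by
    refine MonoidHom.range_eq_top.1 (top_le_iff.1 ?_)
    rw [← Equiv.Perm.closure_isSwap, closure_le]
    rintro _ ⟨⟨a, ha⟩, ⟨b, hb⟩, hab, rfl⟩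
    have hab' : a ≠ b := fun e => hab (Subtype.ext e)
    obtain ⟨g, hg, hge⟩ := hedge _ ⟨a, ha, b, hb, hab', rfl⟩
    refine ⟨⟨g, hg⟩, Equiv.ext fun ⟨w, hw⟩ => Subtype.ext ?_⟩
    show c.actBar (QuotientGroup.mk' c.K g) w = _
    rw [hge]
    by_cases e1 : w = a
    · subst e1; rw [hΩ.swap_left hw hb hab', Equiv.swap_apply_left]
    by_cases e2 : w = b
    · subst e2; rw [hΩ.swap_right ha hw hab', Equiv.swap_apply_right]
    rw [hΩ.swap_ne ha hb hab' hw e1 e2, Equiv.swap_apply_of_ne_of_ne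
      (fun e => e1 (congrArg Subtype.val e)) fun e => e2 (congrArg Subtype.val e)]
  let eN : ↥Ω ≃ Fin (2 ^ k + 1) := Ω.equivFinOfCardEq hcard
  let ee : ↥(sSup S) ≃* Equiv.Perm (Fin (2 ^ k + 1)) :=
    (MulEquiv.ofBijective π ⟨hπinj, hπsurj⟩).trans eN.permCongrHom
  obtain ⟨pr, hpr⟩ : ∃ pr : V →+ (Fin (2 ^ k + 1) → ZMod 2), ∀ v (hv : v ∈ c.V₁) i,
      pr v i = hΩ.pt (eN.symm i) (c.cls hv) := by
    letI : Module (ZMod 2) V := AddCommGroup.zmodModule r.exponent
    let W : Submodule (ZMod 2) V := AddSubgroup.toZModSubmodule 2 c.V₁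
    let L0 : ↥c.V₁ →+ (Fin (2 ^ k + 1) → ZMod 2) := AddMonoidHom.mk'
      (fun w i => hΩ.pt (eN.symm i) (c.cls w.2)) fun a b => by
        funext i
        show hΩ.pt _ (c.cls (a + b).2) = hΩ.pt _ (c.cls a.2) + hΩ.pt _ (c.cls b.2)
        rw [← map_add]
        rfl
    let L : ↥W →ₗ[ZMod 2] (Fin (2 ^ k + 1) → ZMod 2) :=
      { toFun := fun w => L0 ⟨w.1, w.2⟩
        map_add' := fun a b => map_add L0 ⟨a.1, a.2⟩ ⟨b.1, b.2⟩
        map_smul' := fun m a => by
          rcases TCtx.zmod_two_cases m with rfl | rfl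
          · simp only [zero_smul, RingHom.id_apply]; exact map_zero L0
          · simp only [one_smul, RingHom.id_apply] }
    obtain ⟨L', hL'⟩ := LinearMap.exists_extend L
    refine ⟨L'.toAddMonoidHom, fun v hv i => ?_⟩
    exact congrFun (LinearMap.congr_fun hL' ⟨v, hv⟩) i
  have hcomV : ∀ v ∈ comS ρ (sSup S), v ∈ c.V₁ := fun v hv => (r.cls_comS hS hv).1
  have hsec : SymSec ρ 2 (sSup S) := by
    refine ⟨rfl, k, hk, ee, pr, fun v hv => ?_, fun w hw => ?_, fun v hv => ?_, fun g v hv i => ?_⟩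
    · rw [Finset.sum_congr rfl fun i _ => hpr v (hcomV v hv) i,
        Equiv.sum_comp eN.symm fun u : ↥Ω => hΩ.pt (u : c.U) (c.cls (hcomV v hv)),
        Finset.sum_coe_sort Ω fun u => hΩ.pt u (c.cls (hcomV v hv))]
      exact hΩ.pt_sum hex _
    · set co : c.U → ZMod 2 := fun u => if hu : u ∈ Ω then w (eN ⟨u, hu⟩) else 0 with hco
      set v := ∑ u ∈ s, (co u).val • zf u with hv
      have hvE : v ∈ comS ρ (sSup S) := sum_mem fun u hu => by
        obtain ⟨-, -, -, -, hz, -⟩ := hzf u (hs hu).1 (hs hu).2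
        exact nsmul_mem hz _
      refine ⟨v, hvE, funext fun i => ?_⟩
      have e : pr v i = ∑ u ∈ s, co u * hΩ.pt (eN.symm i) (u + o) := by
        rw [hv, map_sum, Finset.sum_apply]
        refine Finset.sum_congr rfl fun u hu => ?_
        obtain ⟨hz, -, -, hcls, -, -⟩ := hzf u (hs hu).1 (hs hu).2
        rw [map_nsmul, Pi.smul_apply, hpr _ hz i, hcls, nsmul_eq_mul, ZMod.natCast_val, ZMod.cast_id]
      rw [e]
      obtain ⟨j, hj⟩ : ∃ j, eN.symm i = j := ⟨_, rfl⟩
      have hwj : w i = co j := by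
        rw [hco]; simp only [dif_pos j.2]
        rw [Subtype.coe_eta, ← hj, Equiv.apply_symm_apply]
      rw [hj, hwj]
      by_cases hjo : (j : c.U) = o
      · rw [hjo, Finset.sum_congr rfl (g := co) (fun u hu => by
          rw [(hΩ.pt_edge ho (hs hu).1 ho (hs hu).2).1 (Or.inr rfl), mul_one])]
        have htot : ∑ u ∈ Ω, co u = 0 := by
          rw [← Finset.sum_coe_sort, ← hw, ← Equiv.sum_comp eN]
          exact Finset.sum_congr rfl fun u _ => by simp [hco]
        rw [← Finset.add_sum_erase _ _ ho, add_eq_zero_iff_eq_neg, ZMod.neg_eq_self_mod_two] at htot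
        exact htot.symm
      · rw [Finset.sum_eq_single (j : c.U) (fun u hu hne => by
            rw [(hΩ.pt_edge j.2 (hs hu).1 ho (hs hu).2).2 (Ne.symm hne) hjo, mul_zero])
          (fun hn => absurd (Finset.mem_erase.2 ⟨hjo, j.2⟩) hn),
          (hΩ.pt_edge j.2 j.2 ho hjo).1 (Or.inl rfl), mul_one]
    · have hv1 := hcomV v hv
      constructor
      · intro h0
        refine r.mem_fix_of_cls hS hv1 fun g hg => ?_
        obtain ⟨g, hg, rfl⟩ := hg
        have hle : sSup S ≤ (fixingV c.actBar {c.cls hv1}).comap (QuotientGroup.mk' c.K) :=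
          sSup_le fun A hA a ha => by
            obtain ⟨x, ⟨p, hp, q, hq, hpq, rfl⟩, hm⟩ := hgen A hA a ha
            refine (zpowers_le.2 (show tv c.actBar (p + q) ∈ fixingV c.actBar {c.cls hv1} from fun w hw => ?_)) hm
            rw [Set.mem_singleton_iff.1 hw]
            refine h.app_zero' (hΩ.edge p hp q hq hpq) ?_
            have key : ∀ u : ↥Ω, hΩ.pt u (c.cls hv1) = 0 := fun u => by
              have := congrFun h0 (eN u)
              rwa [hpr v hv1, Equiv.symm_apply_apply] at this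
            rw [hΩ.f_eq_pt hex hp hq hpq, key ⟨p, hp⟩, key ⟨q, hq⟩, add_zero]
        exact hle hg _ rfl
      · intro hfix
        funext i
        rw [hpr v hv1]
        show hΩ.pt _ _ = 0
        obtain ⟨u, hu⟩ := eN.symm i
        rw [hΩ.pt_apply]
        refine Finset.sum_eq_zero fun w hw => ?_
        have hwne := (Finset.ne_of_mem_erase hw).symm
        rw [h.f_eq_zero_iff (hΩ.edge u hu w (Finset.mem_of_mem_erase hw) hwne)]
        obtain ⟨g, hg, hge⟩ := hedge _ ⟨u, hu, w, Finset.mem_of_mem_erase hw, hwne, rfl⟩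
        rw [← hge]
        exact (c.cls_eq (c.inv g v hv1) hv1).2 (by rw [hfix g hg, sub_self]; exact zero_mem _)
    · have hv1 := hcomV v hv
      rw [hpr _ (c.inv g v hv1), hpr v hv1]
      have e1 : (eN.symm ((ee g)⁻¹ i) : c.U) = c.actBar ((g : P) : c.Xbar)⁻¹ (eN.symm i : c.U) := by
        rw [show (ee g)⁻¹ i = eN ((π g)⁻¹ (eN.symm i)) from rfl, Equiv.symm_apply_apply, ← map_inv π]
        rfl
      rw [e1, ← hΩ.pt_app (hstab g g.2) (eN.symm i).2]
      rfl
  suffices hsp : ∃ (n : ℕ) (E : Fin n → Subgroup P), Split ρ 2 (T : Subgroup P) E ∧ sSup S ≤ (⨆ i, E i) ∧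
      ∀ i, ∃ t, cj (sSup S) t = E i by
    obtain ⟨n, E, hE, hle, hall⟩ := hsp
    obtain ⟨u, hu⟩ := Finset.card_pos.1 (show 0 < s.card by rw [hscard]; positivity)
    obtain ⟨-, hmem, -⟩ := hzf u (hs hu).1 (hs hu).2
    refine ⟨n, E, hE, ⟨_, hS _ hmem, (le_sSup hmem).trans hle⟩, fun i => ?_⟩
    obtain ⟨t, ht⟩ := hall i
    rw [← ht, cj, map_le_iff_le_comap]
    exact sSup_le fun A hA => map_le_iff_le_comap.1 (le_sSup ((hS A hA).conj t))
  refine split_of_pieces r.faith (E₀ := sSup S) ?_ hsplit (Or.inr hsec) fun t ht hne => ?_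
  · refine Subgroup.map_injective hinj ?_
    rw [Subgroup.map_top_of_surjective _ (QuotientGroup.mk'_surjective c.K)]
    refine top_le_iff.1 ?_
    refine (h.sylow_sup hex hMb hTb).ge.trans (sup_le ?_ ((closure_le _).2 ?_))
    · rw [c.sylowBar_coe hX]; exact map_mono le_sup_left
    · rintro _ ⟨y, hy, rfl⟩
      obtain ⟨t, ht, x, hx, rfl⟩ := hΩ.exists_translate hex hMb hTb hy
      rw [(h.tv_app t (hΩ.mem_tvSet hx)).2.1]
      rw [c.sylowBar_coe hX] at ht
      have ht' : t ∈ ((T : Subgroup P) ⊔ sSup S).map (QuotientGroup.mk' c.K) := map_mono le_sup_left ht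
      exact mul_mem (mul_mem ht' (map_mono le_sup_right (hedge x hx))) (inv_mem ht')
  · set tb := QuotientGroup.mk' c.K t
    set Ω' := Ω.image (c.actBar tb)
    have hΩ' : h.Frame Ω' := hΩ.image tb
    have hS' : ∀ A ∈ r.Gen h Ω', MinOff ρ 2 A := fun A hA => hA.1
    have hmap : ∀ {Ω : Finset c.U}, h.Frame Ω → ∀ g : P, ∀ A ∈ r.Gen h Ω,
        cj A g ∈ r.Gen h (Ω.image (c.actBar (QuotientGroup.mk' c.K g))) := by
      rintro Ω hΩ g A ⟨hA, x, ⟨p, hp, q, hq, hpq, rfl⟩, e⟩
      refine ⟨hA.conj g, _, ⟨_, Finset.mem_image_of_mem _ hp, _, Finset.mem_image_of_mem _ hq,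
        fun e => hpq ?_, map_add _ _ _⟩, ?_⟩
      · rw [← app_inv_self (σ := c.actBar) (QuotientGroup.mk' c.K g) p, e, app_inv_self]
      · rw [img_cj, e, (h.tv_app (QuotientGroup.mk' c.K g) (hΩ.edge p hp q hq hpq)).2.1]
        show Subgroup.map _ _ = _
        rw [MonoidHom.map_zpowers]; rfl
    have hcj : cj (sSup S) t = sSup (r.Gen h Ω') := by
      refine le_antisymm ?_ (sSup_le fun A hA => ?_)
      · show (sSup S).map _ ≤ _
        rw [map_le_iff_le_comap]
        exact sSup_le fun A hA => map_le_iff_le_comap.1 (le_sSup (hmap hΩ t A hA))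
      · have h1 := hmap hΩ' t⁻¹ A hA
        have e : Ω'.image (c.actBar (QuotientGroup.mk' c.K t⁻¹)) = Ω := by
          rw [Finset.image_image, map_inv]
          conv_rhs => rw [← Finset.image_id (s := Ω)]
          exact Finset.image_congr fun w _ => app_inv_self tb w
        rw [e] at h1
        refine le_trans ?_ (map_mono (le_sSup h1))
        show A ≤ cj (cj A t⁻¹) t
        rw [cj_cj, mul_inv_cancel, cj_eq_of_comm fun a _ => by simp]
    have hΩne : Ω' ≠ Ω := fun e => hne (by rw [hcj, e])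
    have horth : ∀ {x y}, Edge Ω x → Edge Ω' y → h.f x y = 0 ∧ h.f y x = 0 := by
      intro x y hx hy
      have hxX := hΩ.mem_tvSet hx
      have hyX := hΩ'.mem_tvSet hy
      have e : h.f x y = 0 := (TCtx.zmod_two_cases _).resolve_right fun e =>
        hΩne (hΩ.unique hΩ' hex (hΩ.edge_of_f_one hx hyX e) hy)
      exact ⟨e, (h.symm hxX hyX) ▸ e⟩
    have key : ∀ {Ω₁ Ω₂ : Finset c.U}, h.Frame Ω₁ → h.Frame Ω₂ →
        (∀ {x y}, Edge Ω₁ x → Edge Ω₂ y → h.f y x = 0) →
        comS c.actBar (c.img (sSup (r.Gen h Ω₁))) ≤ fixS c.actBar (c.img (sSup (r.Gen h Ω₂))) := by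
      intro Ω₁ Ω₂ h1 h2 hf
      rw [img_sSup]
      refine (comS_iSup_le _).trans (iSup_le fun A => (comS_iSup_le _).trans (iSup_le fun hA => ?_))
      obtain ⟨-, x, hx, e⟩ := hA
      rw [e]
      intro v hv g hg
      rcases h.mem_comS_cases (h1.mem_tvSet hx) hv with rfl | rfl
      · exact map_zero _
      · refine (?_ : c.img (sSup (r.Gen h Ω₂)) ≤ fixingV c.actBar {v}) hg v rfl
        rw [img_sSup]
        refine iSup₂_le fun B hB => ?_
        obtain ⟨-, y, hy, e'⟩ := hB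
        rw [e', zpowers_le]
        intro w hw
        rw [Set.mem_singleton_iff.1 hw]
        exact h.app_zero' (h2.mem_tvSet hy) (hf hx hy)
    rw [hcj]
    exact ⟨r.orth_of_top hS' hS (key hΩ' hΩ fun hx hy => (horth hy hx).1),
      r.orth_of_top hS hS' (key hΩ hΩ' fun hx hy => (horth hx hy).2)⟩

end Red

/-- The decomposition, in both cases. -/
theorem exists_split {P : Type u} [Group P] [Finite P] {V : Type v} [AddCommGroup V] [Finite V]
    {ρ : P →* AddMonoid.End V} {p : ℕ} [Fact p.Prime] (hp : ∀ v : V, p • v = 0)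
    (hf : ∀ g : P, (∀ v, ρ g v = v) → g = 1) (hpm : Cfsg.IsPMinimal p P) (hcore : Cfsg.pCore p P = ⊥)
    (hoff : ∃ A, Off ρ p A) (T : Sylow p P) :
    ∃ (n : ℕ) (E : Fin n → Subgroup P), Split ρ p (T : Subgroup P) E ∧ (∃ A', MinOff ρ p A' ∧ A' ≤ ⨆ i, E i) ∧
      ∀ i, E i ≤ sSup {A' | MinOff ρ p A'} := by
  obtain ⟨c, r⟩ := exists_red hp hf hpm hcore hoff
  obtain ⟨M, ⟨hM, hTM⟩, -⟩ := (hpm T).2
  rcases r.dichotomy hM hTM with ⟨A, hA, hAT, F, iF, fF, B, o⟩ | ⟨hp2, h⟩
  · exact r.exists_split_linear hM hTM hA hAT o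
  · subst hp2
    exact r.exists_split_sym h hM hTM

end Cfsg.Agent.FFMinimal
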