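import Cfsg.Agent.Lib.FFMinimal.Commute

/-!
* `Good.mem_of_series` : an element stabilising `V ≥ C_V(A) ≥ [V, A] ≥ 0` lies in the minimal offender `A`
-/

set_option autoImplicit false

namespace Cfsg.Agent.FFMinimal

open Subgroup
open RankOne (upSL loSL)
open scoped MatrixGroups
open OffenderSL2 (fixS cj app_mul app_one app_inv_self app_self_inv fix_le fix_sup mem_fix_cj apply_mem_fix_cj mem_cj cj_cj)

universe u v

variable {P : Type u} [Group P] {V : Type v} [AddCommGroup V] {σ : P →* AddMonoid.End V} {p : ℕ}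
  {F : Type} [Field F] {A : Subgroup P}

/-- A field of characteristic `p` when the block lives on a group of exponent `p`. -/
theorem Block.natCast_eq_zero (B : Block σ F A) (hp : ∀ v : V, p • v = 0) : (p : F) = 0 := by
  have h : B.lam ((p : F)) = 0 := by rw [← nsmul_one, map_nsmul, hp]
  exact B.lam_injective (h.trans (map_zero _).symm)

/-- An additive map of a finite field satisfying Leibniz' rule vanishes. -/
theorem derivation_eq_zero [Finite F] [Fact p.Prime] (hp : (p : F) = 0) (d : F →+ F)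
    (h : ∀ s y, d (s * y) = s * d y + y * d s) (y : F) : d y = 0 := by
  haveI : CharP F p := (CharP.charP_iff_prime_eq_zero (Fact.out : p.Prime)).2 hp
  have hpow : ∀ (n : ℕ) (x : F), d (x ^ (n + 1)) = (n + 1 : ℕ) * (x ^ n * d x) := by
    intro n x
    induction n with
    | zero => simp
    | succ n ih => rw [pow_succ, h, ih, pow_succ]; push_cast; ring
  obtain ⟨x, rfl⟩ := (bijective_frobenius F p).2 y
  rw [frobenius_def, show p = (p - 1) + 1 from (Nat.sub_add_cancel (Fact.out : p.Prime).one_le).symm, hpow,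
    Nat.sub_add_cancel (Fact.out : p.Prime).one_le, hp, zero_mul]

variable [Finite P] [Finite V] [Fact p.Prime] [Finite F]

/-- An element stabilising the series of a minimal offender lies in it. -/
theorem Good.mem_of_series (h : Good σ p) (hA : MinOff σ p A) (B : Block σ F A) (hB : B.hh = 0)
    (hq : ∃ s : Fˣ, (s : F) ≠ 1) {u : P} (h1 : ∀ v, σ u v - v ∈ fixS σ A)
    (h2 : ∀ v ∈ fixS σ A, σ u v - v ∈ comS σ A) (h3 : ∀ v ∈ comS σ A, σ u v = v) : u ∈ A := by
  classical
  have hp := h.exponent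
  have hpF := B.natCast_eq_zero hp
  have hlamL : ∀ x, B.lam x ∈ comS σ A := fun x => (B.comS_eq_range hB).ge ⟨x, rfl⟩
  have hulam : ∀ x, σ u (B.lam x) = B.lam x := fun x => h3 _ (hlamL x)
  -- the three components
  let φ : ↥B.C →+ F := AddMonoidHom.mk' (fun c => (B.crd (σ u c - c)).1) fun a b => by
    rw [AddSubgroup.coe_add, map_add, add_sub_add_comm, map_add]; rfl
  have hφ : ∀ c (hc : c ∈ B.C), σ u c = c + B.lam (φ ⟨c, hc⟩) := fun c hc => by
    obtain ⟨x, hx⟩ := (B.comS_eq_range hB).le (h2 c (B.C_le_fix hc))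
    show σ u c = c + B.lam (B.crd (σ u c - c)).1
    rw [← hx, B.crd_lam, hx]; abel
  let χ : F →+ F := AddMonoidHom.mk' (fun y => (B.crd (σ u (B.om y) - B.om y)).1) fun a b => by
    rw [map_add, map_add, add_sub_add_comm, map_add]; rfl
  have hψmem : ∀ y, σ u (B.om y) - B.om y - B.lam (χ y) ∈ B.C := fun y => by
    obtain ⟨c, hc, x, hx⟩ := B.mem_fix_A.1 (h1 (B.om y))
    show _ - B.lam (B.crd (σ u (B.om y) - B.om y)).1 ∈ _
    rw [hx, map_add, B.crd_C hc, B.crd_lam, zero_add, add_sub_cancel_right]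
    exact hc
  let ψ : F →+ ↥B.C := AddMonoidHom.mk' (fun y => ⟨_, hψmem y⟩) fun a b => Subtype.ext (by
    show _ - _ = _ - _ + (_ - _)
    rw [map_add B.om, map_add (σ u), map_add χ, map_add B.lam]; abel)
  have hom : ∀ y, σ u (B.om y) = B.om y + (ψ y : V) + B.lam (χ y) := fun y => by
    show _ = _ + (_ - B.lam (χ y)) + _
    abel
  -- the torus conjugates
  obtain ⟨us, hus⟩ : ∃ us : Fˣ → P, ∀ s, us s = B.dg s * u * (B.dg s)⁻¹ := ⟨_, fun _ => rfl⟩
  have hdinv : ∀ s : Fˣ, (B.dg s)⁻¹ = B.dg s⁻¹ := fun s => by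
    rw [Block.dg, Block.dg, ← map_inv, dgSL_inv]
  have hdC : ∀ (s : Fˣ) (c : ↥B.C), σ (B.dg s) c = c := fun s c => B.fix_C _ _ c.2
  have husC : ∀ s c (hc : c ∈ B.C), σ (us s) c = c + B.lam (s * φ ⟨c, hc⟩) := fun s c hc => by
    rw [hus, app_mul, app_mul, hdinv]
    simp only [Block.dg]
    rw [B.fix_C _ _ hc, hφ c hc, map_add, B.fix_C _ _ hc, B.dg_lam]
  have husL : ∀ s x, σ (us s) (B.lam x) = B.lam x := fun s x => by
    rw [hus, app_mul, app_mul, hdinv]
    simp only [Block.dg]
    rw [B.dg_lam, hulam, B.dg_lam, ← mul_assoc, Units.mul_inv, one_mul]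
  have husO : ∀ (s : Fˣ) y, σ (us s) (B.om y) = B.om y + (ψ (s * y) : V) + B.lam (s * χ (s * y)) := fun s y => by
    rw [hus, app_mul, app_mul, hdinv]
    simp only [Block.dg]
    rw [B.dg_om, inv_inv, hom, map_add, map_add, B.dg_om, B.dg_lam, B.fix_C _ _ (ψ _).2, ← mul_assoc,
      Units.inv_mul, one_mul]
  -- stabilising `C_V(A)`
  have hdH : ∀ s, B.dg s ∈ stabS σ (fixS σ A) := fun s w hw => by
    obtain ⟨c, hc, x, rfl⟩ := B.mem_fix_A.1 hw
    rw [map_add, Block.dg, B.fix_C _ _ hc, B.dg_lam]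
    exact B.mem_fix_A.2 ⟨c, hc, _, rfl⟩
  have huH : u ∈ stabS σ (fixS σ A) := fun w hw => by
    rw [show σ u w = w + (σ u w - w) by abel]
    exact add_mem hw (h1 w)
  have husH : ∀ s, us s ∈ stabS σ (fixS σ A) := fun s => by
    rw [hus]; exact mul_mem (mul_mem (hdH s) huH) (inv_mem (hdH s))
  -- membership
  have hmem : ∀ g₁ g₂ : P, g₂ ∈ stabS σ (fixS σ A) → (∀ x, σ g₁ (B.lam x) = σ g₂ (B.lam x)) →
      (∀ c ∈ B.C, σ g₁ c = σ g₂ c) → (∀ y, σ g₁ (B.om y) - σ g₂ (B.om y) ∈ fixS σ A) →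
      ∃ t, ∀ y, σ g₁ (B.om y) = σ g₂ (B.om y + B.lam (t * y)) := by
    intro g₁ g₂ hg₂ hll hcC ho
    have hfixH : ∀ v ∈ fixS σ A, σ g₁ v = σ g₂ v := fun v hv => by
      obtain ⟨c, hc, x, rfl⟩ := B.mem_fix_A.1 hv
      rw [map_add, map_add, hcC c hc, hll]
    have hw : g₂⁻¹ * g₁ ∈ A := by
      refine mem_of_hkill hp h.faith h.bound hA.off B.quad (fun v hv => ?_) fun v => ?_
      · rw [app_mul, hfixH v hv, app_inv_self]
      · obtain ⟨c, hc, x, y, rfl⟩ := B.decomp v
        have hv : c + B.lam x ∈ fixS σ A := B.mem_fix_A.2 ⟨c, hc, x, rfl⟩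
        rw [map_add, show σ (g₂⁻¹ * g₁) (c + B.lam x) = c + B.lam x by
          rw [app_mul, hfixH _ hv, app_inv_self], add_sub_add_left_eq_sub, app_mul,
          show σ g₂⁻¹ (σ g₁ (B.om y)) - B.om y = σ g₂⁻¹ (σ g₁ (B.om y) - σ g₂ (B.om y)) by
            rw [map_sub, app_inv_self]]
        exact inv_mem hg₂ _ (ho y)
    obtain ⟨t, ht⟩ := B.mem_A.1 hw
    refine ⟨t, fun y => ?_⟩
    have e : g₁ = g₂ * B.up t := by rw [ht, mul_inv_cancel_left]
    rw [e, app_mul, Block.up, B.up_om, hB, AddMonoidHom.zero_apply, add_zero]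
  have hproj : ∀ {c c' : V}, c ∈ B.C → c' ∈ B.C → ∀ {a a' b : F},
      B.om b + c + B.lam a = B.om b + c' + B.lam a' → a = a' := fun {c c'} hc hc' {a a' b} e => by
    have := congrArg (fun v => (B.crd v).1) e
    simpa [B.crd_C hc, B.crd_C hc', B.crd_lam, B.crd_om] using this
  -- the composite `φ ψ` is linear
  set β : F →+ F := φ.comp ψ with hβ
  have hβs : ∀ s : Fˣ, ∃ k, ∀ y, β (s * y) = s * β y + k * y := fun s => by
    obtain ⟨t, ht⟩ := hmem (u * us s) (us s * u) (mul_mem (husH s) huH)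
      (fun x => by rw [app_mul, app_mul, husL, hulam, husL])
      (fun c hc => by
        rw [app_mul, app_mul, husC s c hc, map_add, hφ c hc, map_add, hulam, husC s c hc, husL]
        abel)
      (fun y => by
        rw [app_mul, app_mul, husO, map_add, map_add, hom, hulam, hφ _ (ψ _).2, map_add, map_add, husO, husL,
          husC _ _ (ψ y).2]
        refine B.mem_fix_A.2 ⟨0, zero_mem _,
          φ (ψ ((s : F) * y)) - s * φ (ψ y), ?_⟩
        rw [map_sub, zero_add]; abel)
    refine ⟨t, fun y => ?_⟩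
    have e := ht y
    rw [app_mul, app_mul, husO, map_add, map_add, hom, hulam, hφ _ (ψ _).2, map_add (σ u), hom, hulam,
      map_add, map_add, map_add, husO, husL, husL, husC _ _ (ψ y).2] at e
    have := hproj (c := (ψ y : V) + ψ (s * y)) (c' := (ψ y : V) + ψ (s * y))
      (add_mem (ψ _).2 (ψ _).2) (add_mem (ψ _).2 (ψ _).2) (b := y)
      (a := χ y + φ (ψ (s * y)) + s * χ (s * y))
      (a' := s * χ (s * y) + s * φ (ψ y) + χ y + t * y) (by
        calc _ = B.om y + (ψ y : V) + B.lam (χ y) + ((ψ (s * y) : V) + B.lam (φ ⟨_, (ψ (s * y)).2⟩)) +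
              B.lam (s * χ (s * y)) := by
              simp only [map_add, Subtype.coe_eta]; abel
          _ = _ := e.trans (by simp only [map_add, Subtype.coe_eta]; abel))
    show φ (ψ (s * y)) = s * φ (ψ y) + t * y
    linear_combination this
  have hβlin : ∀ y, β y = β 1 * y := by
    let d : F →+ F := β - AddMonoidHom.mulLeft (β 1)
    have hd : ∀ s y, d (s * y) = s * d y + y * d s := by
      intro s y
      by_cases hs : s = 0
      · simp [hs]
      obtain ⟨k, hk⟩ := hβs (Units.mk0 s hs)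
      have h1 := hk y
      have h2 := hk 1
      rw [Units.val_mk0] at h1 h2
      rw [mul_one, mul_one] at h2
      simp only [d, AddMonoidHom.sub_apply, AddMonoidHom.coe_mulLeft]
      linear_combination h1 - y * h2
    intro y
    have := derivation_eq_zero hpF d hd y
    simpa [d, sub_eq_zero] using this
  -- `χ` is linear
  have hχμ : ∀ (s m : Fˣ), (s : F) = 1 + m → ∃ k, ∀ y, m * χ y + χ (m * y) = k * y := by
    intro s m hsm
    have hψs : ∀ y, ψ (s * y) = ψ y + ψ (m * y) := fun y => by rw [hsm, add_mul, one_mul, map_add]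
    obtain ⟨t, ht⟩ := hmem (us s) (u * us m) (mul_mem huH (husH m))
      (fun x => by rw [app_mul, husL, husL, hulam])
      (fun c hc => by
        rw [app_mul, husC m c hc, map_add, hφ c hc, hulam, husC s c hc, add_assoc, ← map_add, hsm, add_mul,
          one_mul])
      (fun y => by
        rw [app_mul, husO, husO, map_add, map_add, hom, hulam, hφ _ (ψ _).2, hψs]
        refine B.mem_fix_A.2 ⟨0, zero_mem _,
          s * χ (s * y) - χ y - φ (ψ ((m : F) * y)) - m * χ (m * y), ?_⟩
        rw [map_sub, map_sub, map_sub, zero_add, AddSubgroup.coe_add]; abel)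
    refine ⟨t + β 1 * m, fun y => ?_⟩
    have e := ht y
    rw [map_add, app_mul, app_mul, husO, husO, husL, hulam, map_add, map_add, hom, hulam, hφ _ (ψ _).2,
      hψs] at e
    have := hproj (c := (ψ y : V) + ψ (m * y)) (c' := (ψ y : V) + ψ (m * y))
      (add_mem (ψ _).2 (ψ _).2) (add_mem (ψ _).2 (ψ _).2) (b := y)
      (a := s * χ (s * y)) (a' := χ y + φ (ψ (m * y)) + m * χ (m * y) + t * y) (by
        rw [AddSubgroup.coe_add] at e
        refine e.trans ?_
        simp only [map_add, Subtype.coe_eta]; abel)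
    have h5 : φ (ψ ((m : F) * y)) = β 1 * (m * y) := hβlin _
    rw [h5, show χ ((s : F) * y) = χ y + χ (m * y) by rw [hsm, add_mul, one_mul, map_add], hsm] at this
    linear_combination this
  have hχlin : ∀ y, χ y = χ 1 * y := by
    by_cases h2 : (2 : F) = 0
    · have h11 : ∀ a : F, a + a = 0 := fun a => by rw [← two_mul, h2, zero_mul]
      haveI : CharP F 2 := (CharP.charP_iff_prime_eq_zero Nat.prime_two).2 (by exact_mod_cast h2)
      intro y
      obtain ⟨r, rfl⟩ := (bijective_frobenius F 2).2 y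
      rw [frobenius_def]
      by_cases hr0 : r = 0
      · simp [hr0]
      by_cases hr1 : r = 1
      · simp [hr1]
      have hr : 1 + r ≠ 0 := fun e => hr1 (by linear_combination e - h2)
      obtain ⟨k, hk⟩ := hχμ (Units.mk0 (1 + r) hr) (Units.mk0 r hr0) rfl
      have e1 := hk r
      have e2 := hk 1
      simp only [Units.val_mk0, mul_one] at e1 e2
      rw [pow_two]
      linear_combination e1 - r * e2
    · intro y
      obtain ⟨k, hk⟩ := hχμ (Units.mk0 2 h2) 1 (by rw [Units.val_mk0, Units.val_one]; norm_num)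
      have e1 := hk y
      have e2 := hk 1
      simp only [Units.val_one, one_mul, mul_one] at e1 e2
      refine mul_left_cancel₀ h2 ?_
      linear_combination e1 - y * e2
  -- remove `χ`
  set w := B.up (- χ 1) * u with hw
  suffices hwA : w ∈ A by
    have := mul_mem (inv_mem (B.up_mem (- χ 1))) hwA
    rwa [hw, inv_mul_cancel_left] at this
  have hwlam : ∀ x, σ w (B.lam x) = B.lam x := fun x => by
    rw [hw, app_mul, hulam, Block.up, B.up_lam]
  have hwom : ∀ y, σ w (B.om y) = B.om y + (ψ y : V) := fun y => by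
    rw [hw, app_mul, hom, map_add, map_add, Block.up, B.up_om, B.up_lam, hB, AddMonoidHom.zero_apply,
      add_zero, B.fix_C _ _ (ψ y).2, hχlin y, neg_mul, map_neg]
    abel
  have hwC : ∀ c (hc : c ∈ B.C), σ w c = c + B.lam (φ ⟨c, hc⟩) := fun c hc => by
    rw [hw, app_mul, hφ c hc, map_add, Block.up, B.fix_C _ _ hc, B.up_lam]
  -- the mirror of `ψ`
  have hψ : ∀ y, (ψ y : V) = 0 := by
    set A₁ := cj A (B.φ wSL * w * B.φ wSL) with hA₁
    have hA₁m : MinOff σ p A₁ := hA.conj _
    have himg : ∀ x, σ (B.φ wSL * w * B.φ wSL) (B.lam x) = -(B.lam x + (ψ x : V)) := fun x => by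
      rw [app_mul, app_mul, B.w_lam, map_neg, map_neg, hwom, map_add, B.w_om, B.fix_C _ _ (ψ x).2]
    have hL₁ : ∀ v, v ∈ comS σ A₁ ↔ ∃ x, v = B.lam x + (ψ x : V) := by
      intro v
      rw [hA₁, comS_cj, B.comS_eq_range hB]
      constructor
      · rintro ⟨_, ⟨x, rfl⟩, rfl⟩
        refine ⟨-x, ?_⟩
        show σ _ (B.lam x) = _
        rw [himg, map_neg, map_neg, AddSubgroup.coe_neg]; abel
      · rintro ⟨x, rfl⟩
        refine ⟨B.lam (-x), ⟨_, rfl⟩, ?_⟩
        show σ _ (B.lam (-x)) = _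
        rw [himg, map_neg, map_neg, AddSubgroup.coe_neg]; abel
    have hL₁H : comS σ A₁ ≤ fixS σ A := fun v hv => by
      obtain ⟨x, rfl⟩ := (hL₁ v).1 hv
      exact add_mem (B.lam_mem_fix x) (B.C_le_fix (ψ x).2)
    have hLA : comS σ A ≤ fixS σ A := B.quad
    set S₂ := comS σ A ⊔ comS σ A₁ with hS₂
    let N : Subgroup P :=
      { carrier := {g | (∀ v, σ g v - v ∈ S₂) ∧ (∀ v ∈ S₂, σ g v - v ∈ comS σ A₁) ∧
          ∀ v ∈ comS σ A₁, σ g v = v}
        one_mem' := ⟨fun v => by rw [app_one, sub_self]; exact zero_mem _,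
          fun v _ => by rw [app_one, sub_self]; exact zero_mem _, fun v _ => app_one v⟩
        mul_mem' := fun {a b} ha hb => ⟨fun v => by
            rw [app_mul, show σ a (σ b v) - v = (σ a (σ b v) - σ b v) + (σ b v - v) by abel]
            exact add_mem (ha.1 _) (hb.1 v), fun v hv => by
            rw [app_mul, show σ a (σ b v) - v = (σ a (σ b v) - σ b v) + (σ b v - v) by abel]
            refine add_mem (ha.2.1 _ ?_) (hb.2.1 v hv)
            rw [show σ b v = v + (σ b v - v) by abel]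
            exact add_mem hv (AddSubgroup.mem_sup_right (hb.2.1 v hv)), fun v hv => by
            rw [app_mul, hb.2.2 v hv, ha.2.2 v hv]⟩
        inv_mem' := fun {a} ha => ⟨fun v => by
            have := neg_mem (ha.1 (σ a⁻¹ v))
            rwa [app_self_inv, neg_sub] at this, fun v hv => by
            have hw' : σ a⁻¹ v ∈ S₂ := by
              have := sub_mem hv (ha.1 (σ a⁻¹ v))
              rwa [app_self_inv, sub_sub_cancel] at this
            have := neg_mem (ha.2.1 _ hw')
            rwa [app_self_inv, neg_sub] at this, fun v hv => by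
            conv_lhs => rw [← ha.2.2 v hv]
            rw [app_inv_self]⟩ }
    have hAN : A ≤ N := fun a ha => ⟨fun v => AddSubgroup.mem_sup_left (sub_mem_comS ha v), fun v hv => by
      rw [(sup_le hLA hL₁H hv) a ha, sub_self]; exact zero_mem _, fun v hv => hL₁H hv a ha⟩
    have hA₁N : A₁ ≤ N := fun a ha => ⟨fun v => AddSubgroup.mem_sup_right (sub_mem_comS ha v),
      fun v _ => sub_mem_comS ha v, fun v hv => h.quad hA₁m hv a ha⟩
    have hNp : IsPGroup p ↥N := isPGroup_of_chain hp h.faith (comS σ A₁) S₂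
      (fun g hg => hg.1) (fun g hg => hg.2.1) (fun g hg => hg.2.2)
    have hc := h.commute_of_le hNp hA₁m hA hA₁N hAN
    obtain ⟨s, hs⟩ := hq
    have heq : A₁ = A := by
      by_contra hne
      obtain ⟨hLC, -⟩ := h.grp_commute hA₁m hA hne hc B hB s hs
      have := B.indep (-(B.lam 1 + (ψ 1 : V)) + (ψ 1 : V))
        (add_mem (neg_mem (hLC ((hL₁ _).2 ⟨1, rfl⟩))) (ψ 1).2) 1 0 (by rw [map_zero]; abel)
      exact one_ne_zero this.1
    intro y
    obtain ⟨x, hx⟩ := (B.comS_eq_range hB).le (heq.le.trans le_rfl |> fun _ => by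
      have := (hL₁ (B.lam y + (ψ y : V))).2 ⟨y, rfl⟩
      rwa [heq] at this : B.lam y + (ψ y : V) ∈ comS σ A)
    have := B.indep (ψ y : V) (ψ y).2 (y - x) 0 (by rw [map_sub, map_zero, hx]; abel)
    rw [← sub_eq_zero.1 this.1] at hx
    exact left_eq_add.1 hx
  have hwmove : ∀ v, σ w v - v ∈ comS σ A := fun v => by
    obtain ⟨c, hc, x, y, rfl⟩ := B.decomp v
    rw [map_add, map_add, hwC c hc, hwlam, hwom, hψ, add_zero]
    refine (B.comS_eq_range hB).ge ⟨φ ⟨c, hc⟩, ?_⟩
    abel
  have hwL : ∀ v ∈ comS σ A, σ w v = v := fun v hv => by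
    obtain ⟨x, rfl⟩ := (B.comS_eq_range hB).le hv
    exact hwlam x
  have hwp : w ^ p = 1 := h.faith _ fun v => by
    rw [app_pow_of_fixed (hwL _ (hwmove v)), hp, add_zero]
  have hz : Elem p (zpowers w) := by
    refine ⟨fun a ha b hb => ?_, fun a ha => ?_⟩
    · obtain ⟨i, rfl⟩ := mem_zpowers_iff.1 ha
      obtain ⟨j, rfl⟩ := mem_zpowers_iff.1 hb
      exact (Commute.refl w).zpow_zpow i j
    · obtain ⟨i, rfl⟩ := mem_zpowers_iff.1 ha
      rw [← zpow_natCast, ← zpow_mul, mul_comm, zpow_mul, zpow_natCast, hwp, one_zpow]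
  let N : Subgroup P :=
    { carrier := {g | (∀ v, σ g v - v ∈ comS σ A) ∧ ∀ v ∈ comS σ A, σ g v = v}
      one_mem' := ⟨fun v => by rw [app_one, sub_self]; exact zero_mem _, fun v _ => app_one v⟩
      mul_mem' := fun {a b} ha hb => ⟨fun v => by
          rw [app_mul, show σ a (σ b v) - v = (σ a (σ b v) - σ b v) + (σ b v - v) by abel]
          exact add_mem (ha.1 _) (hb.1 v), fun v hv => by rw [app_mul, hb.2 v hv, ha.2 v hv]⟩
      inv_mem' := fun {a} ha => ⟨fun v => by
          have := neg_mem (ha.1 (σ a⁻¹ v))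
          rwa [app_self_inv, neg_sub] at this, fun v hv => by
          conv_lhs => rw [← ha.2 v hv]
          rw [app_inv_self]⟩ }
  have hzN : zpowers w ≤ N := zpowers_le.2 ⟨hwmove, hwL⟩
  have hAN : A ≤ N := fun a ha => ⟨fun v => sub_mem_comS ha v, fun v hv => B.quad hv a ha⟩
  have hcomm : ∀ a ∈ A, ∀ b ∈ zpowers w, a * b = b * a :=
    commute_of_comS h.faith (fun v hv b hb => (hzN hb).2 v hv)
      (comS_le fun b hb v => B.quad ((hzN hb).1 v))
  have hle : Nat.card ↥(A ⊔ zpowers w : Subgroup P) ≤ Nat.card ↥A := by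
    rw [← h.card_comS hA]
    exact (h.dual _ (hA.off.elem.sup hz hcomm)).trans (Nat.card_le_card_of_injective _
      (Set.inclusion_injective (comS_le fun g hg v => (sup_le hAN hzN hg).1 v)))
  rw [Subgroup.eq_of_le_of_card_ge (le_sup_left : A ≤ A ⊔ zpowers w) hle]
  exact mem_sup_right (mem_zpowers w)

end Cfsg.Agent.FFMinimal
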