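import Cfsg.Agent.Lib.FFMinimal.Unique
import Mathlib.FieldTheory.Finite.GaloisField

/-!
Blocks of the same offender over different fields, and the shape of `[V, A]` when `hh` is not zero.

* `Block.mapField` : change of the field
* `Block.range_dichotomy` : for two blocks with shears the ranges of the shears agree, or there are four
  field elements and the shear of one block is the natural part of the other
-/

set_option autoImplicit false

namespace Cfsg.Agent.FFMinimal

open Subgroup
open RankOne (upSL loSL)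
open scoped MatrixGroups
open OffenderSL2 (fixS cj app_mul app_one app_inv_self app_self_inv fix_le fix_sup mem_fix_cj apply_mem_fix_cj mem_cj cj_cj)

universe u v

variable {P : Type u} [Group P] {V : Type v} [AddCommGroup V] {σ : P →* AddMonoid.End V}
  {F : Type} [Field F] {A : Subgroup P}

section

variable {F' : Type} [Field F'] (e : F ≃+* F')

theorem map_upSL (t : F') :
    Matrix.SpecialLinearGroup.map (e.symm : F' →+* F) (upSL t) = upSL (e.symm t) := by
  apply Subtype.ext
  ext i j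
  fin_cases i <;> fin_cases j <;> simp [RankOne.coe_upSL]

theorem map_loSL (t : F') :
    Matrix.SpecialLinearGroup.map (e.symm : F' →+* F) (loSL t) = loSL (e.symm t) := by
  apply Subtype.ext
  ext i j
  fin_cases i <;> fin_cases j <;> simp [RankOne.coe_loSL]

theorem map_dgSL (s : F'ˣ) :
    Matrix.SpecialLinearGroup.map (e.symm : F' →+* F) (dgSL s) = dgSL (Units.map (e.symm : F' →* F) s) := by
  apply Subtype.ext
  ext i j
  fin_cases i <;> fin_cases j <;> simp [coe_dgSL]

theorem map_wSL : Matrix.SpecialLinearGroup.map (e.symm : F' →+* F) (wSL : SL(2, F')) = wSL := by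
  apply Subtype.ext
  ext i j
  fin_cases i <;> fin_cases j <;> simp [coe_wSL]

namespace Block

/-- The same block over an isomorphic field. -/
def mapField (B : Block σ F A) : Block σ F' A where
  φ := B.φ.comp (Matrix.SpecialLinearGroup.map (e.symm : F' →+* F))
  eqA := by
    ext a
    constructor
    · intro ha
      obtain ⟨t, rfl⟩ := B.mem_A.1 ha
      refine ⟨upSL (e t), RankOne.upSL_mem _, ?_⟩
      show B.φ (Matrix.SpecialLinearGroup.map _ (upSL (e t))) = B.φ (upSL t)
      rw [map_upSL, RingEquiv.symm_apply_apply]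
    · rintro ⟨k, hk, rfl⟩
      obtain ⟨t, rfl⟩ := RankOne.mem_upperUnipotentSL2.1 hk
      show B.φ (Matrix.SpecialLinearGroup.map _ (upSL t)) ∈ A
      rw [map_upSL]; exact B.up_mem _
  C := B.C
  lam := B.lam.comp e.symm.toAddMonoidHom
  om := B.om.comp e.symm.toAddMonoidHom
  hh := B.hh.comp e.symm.toAddMonoidHom
  hh_mem x := B.hh_mem _
  fix_C g := B.fix_C _
  decomp v := by
    obtain ⟨c, hc, x, y, rfl⟩ := B.decomp v
    exact ⟨c, hc, e x, e y, by simp⟩
  indep c hc x y h := by
    obtain ⟨h1, h2⟩ := B.indep c hc _ _ h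
    exact ⟨e.symm.injective (h1.trans (map_zero e.symm).symm), e.symm.injective (h2.trans (map_zero e.symm).symm)⟩
  up_lam t x := by
    show σ (B.φ (Matrix.SpecialLinearGroup.map _ (upSL t))) (B.lam (e.symm x)) = B.lam (e.symm x)
    rw [map_upSL, B.up_lam]
  up_om t x := by
    show σ (B.φ (Matrix.SpecialLinearGroup.map _ (upSL t))) (B.om (e.symm x)) =
      B.om (e.symm x) + B.lam (e.symm (t * x)) + B.hh (e.symm (t * x * x))
    rw [map_upSL, B.up_om, map_mul e.symm (t * x), map_mul e.symm]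
  dg_lam s x := by
    show σ (B.φ (Matrix.SpecialLinearGroup.map _ (dgSL s))) (B.lam (e.symm x)) = B.lam (e.symm (s * x))
    rw [map_dgSL, B.dg_lam, map_mul e.symm]; rfl
  dg_om s x := by
    show σ (B.φ (Matrix.SpecialLinearGroup.map _ (dgSL s))) (B.om (e.symm x)) =
      B.om (e.symm (((s⁻¹ : F'ˣ) : F') * x))
    rw [map_dgSL, B.dg_om, map_mul e.symm, ← map_inv (Units.map (e.symm : F' →* F))]; rfl
  w_lam x := by
    show σ (B.φ (Matrix.SpecialLinearGroup.map _ (wSL : SL(2, F')))) (B.lam (e.symm x)) = -B.om (e.symm x)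
    rw [map_wSL, B.w_lam]
  w_om x := by
    show σ (B.φ (Matrix.SpecialLinearGroup.map _ (wSL : SL(2, F')))) (B.om (e.symm x)) = B.lam (e.symm x)
    rw [map_wSL, B.w_om]
  hh_two h := by
    rw [B.hh_two fun t => (h (e t)).imp (fun h => e.injective (h.trans (map_zero e).symm))
      fun h => e.injective (h.trans (map_one e).symm), AddMonoidHom.zero_comp]

theorem mapField_grp (B : Block σ F A) : (B.mapField e).grp = B.grp := by
  refine le_antisymm ?_ ?_
  · rintro _ ⟨g, rfl⟩; exact ⟨_, rfl⟩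
  · rintro _ ⟨g, rfl⟩
    refine ⟨Matrix.SpecialLinearGroup.map (e : F →+* F') g, ?_⟩
    show B.φ _ = B.φ g
    congr 1
    apply Subtype.ext
    ext i j
    simp

theorem mapField_up (B : Block σ F A) (t : F') : (B.mapField e).up t = B.up (e.symm t) := by
  show B.φ (Matrix.SpecialLinearGroup.map _ (upSL t)) = _
  rw [map_upSL]; rfl

theorem mapField_dg (B : Block σ F A) (s : F'ˣ) :
    (B.mapField e).dg s = B.dg (Units.map (e.symm : F' →* F) s) := by
  show B.φ (Matrix.SpecialLinearGroup.map _ (dgSL s)) = _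
  rw [map_dgSL]; rfl

theorem mapField_range_hh (B : Block σ F A) : (B.mapField e).hh.range = B.hh.range := by
  ext v
  exact ⟨fun ⟨x, hx⟩ => ⟨_, hx⟩, fun ⟨x, hx⟩ => ⟨e x, by rw [← hx]; exact congrArg B.hh (e.symm_apply_apply x)⟩⟩

theorem mapField_range_lam (B : Block σ F A) : (B.mapField e).lam.range = B.lam.range := by
  ext v
  exact ⟨fun ⟨x, hx⟩ => ⟨_, hx⟩, fun ⟨x, hx⟩ => ⟨e x, by rw [← hx]; exact congrArg B.lam (e.symm_apply_apply x)⟩⟩

end Block

end

theorem le_of_le_union {W : Type*} [AddCommGroup W] {S R L : AddSubgroup W} (h : ∀ x ∈ S, x ∈ R ∨ x ∈ L) :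
    S ≤ R ∨ S ≤ L := by
  by_contra hc
  push Not at hc
  obtain ⟨a, ha, haR⟩ := SetLike.not_le_iff_exists.1 hc.1
  obtain ⟨b, hb, hbL⟩ := SetLike.not_le_iff_exists.1 hc.2
  have haL := (h a ha).resolve_left haR
  have hbR := (h b hb).resolve_right hbL
  rcases h (a + b) (add_mem ha hb) with h1 | h1
  · exact haR (by simpa using sub_mem h1 hbR)
  · exact hbL (by simpa using sub_mem h1 haL)

theorem card_four_of_frob [Finite F] (h4 : 4 ≤ Nat.card F) (h : ∀ y : F, y ^ 4 = y) : Nat.card F = 4 := by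
  classical
  haveI := Fintype.ofFinite F
  refine le_antisymm ?_ h4
  have hp : (Polynomial.X ^ 4 - Polynomial.X : Polynomial F) ≠ 0 := fun e => by
    have := congrArg (fun q : Polynomial F => q.coeff 1) e
    simp [Polynomial.coeff_X_pow] at this
  have hsub : (Finset.univ : Finset F) ⊆ (Polynomial.X ^ 4 - Polynomial.X : Polynomial F).roots.toFinset :=
    fun y _ => by
      rw [Multiset.mem_toFinset, Polynomial.mem_roots']
      exact ⟨hp, by simp [h y]⟩
  have h1 := (Finset.card_le_card hsub).trans ((Multiset.toFinset_card_le _).trans (Polynomial.card_roots' _))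
  have h2 : (Polynomial.X ^ 4 - Polynomial.X : Polynomial F).natDegree ≤ 4 := by compute_degree
  rw [Finset.card_univ, ← Nat.card_eq_fintype_card] at h1
  omega

namespace Block

/-- The points of `[V, A]` that are no commutators of single elements. -/
def Never (σ : P →* AddMonoid.End V) (A : Subgroup P) : Set V :=
  {w | w ∈ comS σ A ∧ ∀ a ∈ A, ∀ v, σ a v - v ≠ w}

theorem lam_mem_comS (B : Block σ F A) (hq : ∃ s : Fˣ, (s : F) ≠ 1) (x : F) : B.lam x ∈ comS σ A := by
  obtain ⟨s, hs⟩ := hq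
  rw [B.comS_eq]
  set S := {w | ∃ t x : F, w = B.lam (t * x) + B.hh (t * x * x)}
  have key : ∀ x : F, B.lam ((s : F) * x) ∈ AddSubgroup.closure S := by
    intro x
    set t := x / ((s : F) - 1)
    have h1 : B.lam (t * (s : F)) + B.hh (t * (s : F) * (s : F)) ∈ AddSubgroup.closure S :=
      AddSubgroup.subset_closure ⟨t, s, rfl⟩
    have h2 : B.lam (t * (s : F) * (s : F) * 1) + B.hh (t * (s : F) * (s : F) * 1 * 1) ∈ AddSubgroup.closure S :=
      AddSubgroup.subset_closure ⟨t * (s : F) * (s : F), 1, rfl⟩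
    rw [mul_one, mul_one] at h2
    have h3 := sub_mem h2 h1
    rw [show B.lam (t * (s : F) * (s : F)) + B.hh (t * (s : F) * (s : F)) - (B.lam (t * (s : F)) + B.hh (t * (s : F) * (s : F))) =
      B.lam (t * (s : F) * (s : F)) - B.lam (t * (s : F)) by abel, ← map_sub] at h3
    rwa [show t * (s : F) * (s : F) - t * (s : F) = (s : F) * x by
      simp only [t]; field_simp [sub_ne_zero.2 hs]] at h3
  have := key (((s⁻¹ : Fˣ) : F) * x)
  rwa [← mul_assoc, Units.mul_inv, one_mul] at this

theorem hh_mem_comS (B : Block σ F A) (hq : ∃ s : Fˣ, (s : F) ≠ 1) (x : F) : B.hh x ∈ comS σ A := by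
  have h : B.lam (x * 1) + B.hh (x * 1 * 1) ∈ comS σ A := by
    rw [B.comS_eq]; exact AddSubgroup.subset_closure ⟨x, 1, rfl⟩
  rw [mul_one, mul_one] at h
  simpa using sub_mem h (B.lam_mem_comS hq x)

theorem exists_of_mem_comS (B : Block σ F A) {w : V} (hw : w ∈ comS σ A) : ∃ a u, w = B.lam a + B.hh u := by
  rw [B.comS_eq] at hw
  have h : AddSubgroup.closure {w | ∃ t x : F, w = B.lam (t * x) + B.hh (t * x * x)} ≤ B.lam.range ⊔ B.hh.range :=
    (AddSubgroup.closure_le _).2 (by
      rintro _ ⟨t, x, rfl⟩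
      exact add_mem (AddSubgroup.mem_sup_left ⟨_, rfl⟩) (AddSubgroup.mem_sup_right ⟨_, rfl⟩))
  obtain ⟨_, ⟨a, rfl⟩, _, ⟨u, rfl⟩, e⟩ := AddSubgroup.mem_sup.1 (h hw)
  exact ⟨a, u, e.symm⟩

theorem lam_hh_inj (B : Block σ F A) {a b : F} {c d : V} (hc : c ∈ B.C) (hd : d ∈ B.C)
    (h : B.lam a + c = B.lam b + d) : a = b ∧ c = d := by
  have h1 := B.indep (c - d) (sub_mem hc hd) (a - b) 0 (by
    rw [map_sub, map_zero, add_zero]
    calc c - d + (B.lam a - B.lam b) = (B.lam a + c) - (B.lam b + d) := by abel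
      _ = 0 := by rw [h, sub_self])
  obtain rfl := sub_eq_zero.1 h1.1
  exact ⟨rfl, add_left_cancel h⟩

theorem mem_never (B : Block σ F A) (hq : ∃ s : Fˣ, (s : F) ≠ 1) {w : V} :
    w ∈ Never σ A ↔ w ≠ 0 ∧ (w ∈ B.hh.range ∨ (Function.Injective B.hh ∧ w ∈ B.lam.range)) := by
  constructor
  · rintro ⟨hw, hno⟩
    obtain ⟨a, u, rfl⟩ := B.exists_of_mem_comS hw
    have hreach : ∀ t y, B.lam (t * y) + B.hh (t * y * y) ≠ B.lam a + B.hh u := fun t y => by
      have h1 := hno _ (B.up_mem t) (B.om y)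
      rwa [B.sub_om] at h1
    have hne : B.lam a + B.hh u ≠ 0 := fun e => hreach 0 0 (by rw [e]; simp)
    refine ⟨hne, ?_⟩
    by_cases ha : a = 0
    · left; exact ⟨u, by rw [ha, map_zero, zero_add]⟩
    have hu : B.hh u = 0 := by
      by_contra hu0
      have hu' : u ≠ 0 := fun e => hu0 (by rw [e, map_zero])
      refine hreach (a / (u / a)) (u / a) ?_
      rw [show a / (u / a) * (u / a) = a by field_simp, show a * (u / a) = u by field_simp]
    right
    refine ⟨(injective_iff_map_eq_zero B.hh).2 fun k hk => ?_, ⟨a, by rw [hu, add_zero]⟩⟩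
    by_contra hk0
    refine hreach (a / (k / a)) (k / a) ?_
    rw [show a / (k / a) * (k / a) = a by field_simp, show a * (k / a) = k by field_simp, hk, hu]
  · rintro ⟨hne, hw⟩
    refine ⟨?_, fun g hg v e => ?_⟩
    · rcases hw with ⟨x, rfl⟩ | ⟨-, x, rfl⟩
      · exact B.hh_mem_comS hq x
      · exact B.lam_mem_comS hq x
    obtain ⟨t, rfl⟩ := B.mem_A.1 hg
    obtain ⟨c, hc, x, y, rfl⟩ := B.decomp v
    rw [B.app_up_sub hc] at e
    rcases hw with ⟨u, rfl⟩ | ⟨hinj, a, rfl⟩
    · obtain ⟨h1, h2⟩ := B.lam_hh_inj (a := t * y) (b := 0) (B.hh_mem (t * y * y)) (B.hh_mem u) (by rw [map_zero, zero_add]; exact e)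
      rw [← h2, h1, zero_mul, map_zero] at hne
      exact hne rfl
    · obtain ⟨h1, h2⟩ := B.lam_hh_inj (a := t * y) (b := a) (B.hh_mem (t * y * y)) (zero_mem _) (by rw [add_zero]; exact e)
      have h3 : t * y * y = 0 := hinj (h2.trans (map_zero _).symm)
      refine hne ?_
      rcases mul_eq_zero.1 h3 with h | h
      · rw [← h1, h, map_zero]
      · rw [← h1, h, mul_zero, map_zero]

theorem card_comS_eq (B : Block σ F A) (hq : ∃ s : Fˣ, (s : F) ≠ 1) :
    Nat.card ↥(comS σ A) = Nat.card F * Nat.card ↥B.hh.range := by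
  rw [← Nat.card_prod]
  refine (Nat.card_congr (Equiv.ofBijective
    (fun z : F × ↥B.hh.range => (⟨B.lam z.1 + z.2, add_mem (B.lam_mem_comS hq _) (by
      obtain ⟨u, hu⟩ := z.2.2; rw [← hu]; exact B.hh_mem_comS hq u)⟩ : ↥(comS σ A)))
    ⟨fun z z' h => ?_, fun ⟨w, hw⟩ => ?_⟩)).symm
  · obtain ⟨u, hu⟩ := z.2.2
    obtain ⟨u', hu'⟩ := z'.2.2
    obtain ⟨h1, h2⟩ := B.lam_hh_inj (hu ▸ B.hh_mem u) (hu' ▸ B.hh_mem u') (congrArg Subtype.val h)
    exact Prod.ext h1 (Subtype.ext h2)
  · obtain ⟨a, u, rfl⟩ := B.exists_of_mem_comS hw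
    exact ⟨(a, ⟨_, u, rfl⟩), rfl⟩

theorem injective_hh_iff [Finite F] (B : Block σ F A) :
    Function.Injective B.hh ↔ Nat.card ↥B.hh.range = Nat.card F := by
  constructor
  · exact fun h => (Nat.card_congr (AddMonoidHom.ofInjective h).toEquiv).symm
  · intro h
    have hb : Function.Bijective B.hh.rangeRestrict :=
      (Nat.bijective_iff_surjective_and_card _).2 ⟨B.hh.rangeRestrict_surjective, h.symm⟩
    exact fun x y e => hb.1 (Subtype.ext e)

/-- Two blocks with shears. -/
theorem range_dichotomy [Finite P] [Finite V] [Finite F] (B B' : Block σ F A) (h4 : 4 ≤ Nat.card F) :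
    B'.hh.range = B.hh.range ∨ (Nat.card F = 4 ∧ Function.Injective B.hh ∧
      B'.lam.range = B.hh.range ∧ B'.hh.range = B.lam.range) := by
  classical
  obtain ⟨s, hs⟩ := exists_sq_ne_one h4
  have hq : ∃ s : Fˣ, (s : F) ≠ 1 := ⟨s, fun e => hs (by rw [e, one_mul])⟩
  have hrange : Nat.card ↥B'.hh.range = Nat.card ↥B.hh.range := Nat.eq_of_mul_eq_mul_left Nat.card_pos
    ((B'.card_comS_eq hq).symm.trans (B.card_comS_eq hq))
  have hinjiff : Function.Injective B'.hh ↔ Function.Injective B.hh := by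
    rw [B'.injective_hh_iff, B.injective_hh_iff, hrange]
  have hmem : ∀ x ∈ B'.hh.range, x ∈ B.hh.range ∨ (Function.Injective B.hh ∧ x ∈ B.lam.range) := fun x hx => by
    by_cases h0 : x = 0
    · exact Or.inl (h0 ▸ zero_mem _)
    exact ((B.mem_never hq).1 ((B'.mem_never hq).2 ⟨h0, Or.inl hx⟩)).2
  by_cases hinj : Function.Injective B.hh
  swap
  · left
    refine AddSubgroup.eq_of_le_of_card_ge (fun x hx => ?_) hrange.ge
    exact (hmem x hx).resolve_right fun h => hinj h.1
  rcases le_of_le_union (R := B.hh.range) (L := B.lam.range) (fun x hx => (hmem x hx).imp_right And.right) with h | h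
  · exact Or.inl (AddSubgroup.eq_of_le_of_card_ge h hrange.ge)
  have hcl : Nat.card ↥B.lam.range = Nat.card F :=
    (Nat.card_congr (AddMonoidHom.ofInjective
      ((injective_iff_map_eq_zero B.lam).2 fun x hx =>
        (B.indep 0 (zero_mem _) x 0 (by rw [hx, map_zero, add_zero, add_zero])).1)).toEquiv).symm
  have hcl' : Nat.card ↥B'.lam.range = Nat.card F :=
    (Nat.card_congr (AddMonoidHom.ofInjective
      ((injective_iff_map_eq_zero B'.lam).2 fun x hx =>
        (B'.indep 0 (zero_mem _) x 0 (by rw [hx, map_zero, add_zero, add_zero])).1)).toEquiv).symm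
  have hch : Nat.card ↥B.hh.range = Nat.card F := B.injective_hh_iff.1 hinj
  have hR' : B'.hh.range = B.lam.range :=
    AddSubgroup.eq_of_le_of_card_ge h (by rw [hcl, hrange, hch])
  have hL' : B'.lam.range = B.hh.range := by
    refine AddSubgroup.eq_of_le_of_card_ge ?_ (by rw [hcl', hch])
    refine (le_of_le_union (R := B.hh.range) (L := B.lam.range) fun x hx => ?_).resolve_right fun h' => ?_
    · by_cases h0 : x = 0
      · exact Or.inl (h0 ▸ zero_mem _)
      exact (((B.mem_never hq).1 ((B'.mem_never hq).2 ⟨h0, Or.inr ⟨hinjiff.2 hinj, hx⟩⟩)).2).imp_right And.right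
    · rw [← hR'] at h'
      obtain ⟨u, hu⟩ := h' ⟨1, rfl⟩
      have := (B'.lam_hh_inj (a := 1) (b := 0) (zero_mem _) (B'.hh_mem u)
        (by rw [map_zero, zero_add, add_zero, hu])).1
      exact one_ne_zero this
  refine Or.inr ⟨card_four_of_frob h4 ?_, hinj, hL', hR'⟩
  -- the pairing
  choose τ hτ using fun t => B'.mem_A.1 (B.up_mem t)
  set π : F → F := fun y => (B'.crd (B.om y)).2
  have hrel : ∀ t y, B.hh (t * y * y) = B'.lam (τ t * π y) ∧ B.lam (t * y) = B'.hh (τ t * π y * π y) := fun t y => by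
    obtain ⟨c, hc, a, b, e⟩ := B'.decomp (B.om y)
    have hb : π y = b := by show (B'.crd (B.om y)).2 = b; rw [e, B'.crd_eq hc]
    have e1 : B.lam (t * y) + B.hh (t * y * y) = B'.lam (τ t * b) + B'.hh (τ t * b * b) := by
      rw [← B.sub_om, e, ← hτ t, B'.app_up_sub hc]
    obtain ⟨a₁, ha₁⟩ := hR'.le ⟨τ t * b * b, rfl⟩
    obtain ⟨u₁, hu₁⟩ := hL'.le ⟨τ t * b, rfl⟩
    have h2 := B.lam_hh_inj (B.hh_mem (t * y * y)) (B.hh_mem u₁) (b := a₁) (by rw [e1, ← ha₁, ← hu₁, add_comm])
    rw [hb, ← ha₁, ← hu₁]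
    exact ⟨h2.2, by rw [h2.1]⟩
  have hlinj : Function.Injective B.lam := (injective_iff_map_eq_zero B.lam).2 fun x hx =>
    (B.indep 0 (zero_mem _) x 0 (by rw [hx, map_zero, add_zero, add_zero])).1
  have hlinj' : Function.Injective B'.lam := (injective_iff_map_eq_zero B'.lam).2 fun x hx =>
    (B'.indep 0 (zero_mem _) x 0 (by rw [hx, map_zero, add_zero, add_zero])).1
  have hinj' : Function.Injective B'.hh := hinjiff.2 hinj
  intro y
  by_cases hy : y = 0
  · rw [hy]; simp
  set e := π 1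
  set c := τ 1
  -- comparisons with the values at one
  have hA : ∀ t y, τ (t * y * y) * e = τ t * π y := fun t y => hlinj' (by
    rw [← (hrel (t * y * y) 1).1, mul_one, mul_one, (hrel t y).1])
  have hB : ∀ t y, τ (t * y) * e * e = τ t * π y * π y := fun t y => hinj' (by
    rw [← (hrel (t * y) 1).2, mul_one, (hrel t y).2])
  have hc0 : c ≠ 0 := fun h0 => one_ne_zero (hinj (by
    have := (hrel 1 1).1
    rwa [show τ 1 = 0 from h0, zero_mul, map_zero, one_mul, one_mul, ← map_zero B.hh] at this))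
  have he0 : e ≠ 0 := fun h0 => one_ne_zero (hinj (by
    have := (hrel 1 1).1
    rwa [show π 1 = 0 from h0, mul_zero, map_zero, one_mul, one_mul, ← map_zero B.hh] at this))
  have h1 : τ (y * y) * e = c * π y := by simpa using hA 1 y
  have h2 : τ y * e * e = c * π y * π y := by simpa using hB 1 y
  have h3 : τ (y * y * (y * y)) * e = c * π (y * y) := by simpa using hA 1 (y * y)
  have h4' : τ (y * y) * e * e = c * π (y * y) * π (y * y) := by simpa using hB 1 (y * y)
  have h5 : τ y = τ (y * y * (y * y)) := by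
    refine mul_left_cancel₀ (mul_ne_zero (mul_ne_zero hc0 he0) he0) ?_
    -- both sides compared through `π`
    have hA2 : τ (y * y * (y * y)) * e = τ (y * y) * π y := by
      have := hA (y * y) y
      rwa [mul_assoc (y * y) y y] at this
    linear_combination c * h2 + (-(c * π y)) * h1 + (c * e) * (0 : F) * h3 + 0 * h4' + (-(c * e)) * hA2
  have h6 : B.hh y = B.hh (y * y * (y * y)) := by
    have a1 := (hrel y 1).1
    have a2 := (hrel (y * y * (y * y)) 1).1
    rw [mul_one, mul_one] at a1 a2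
    rw [a1, a2, h5]
  rw [show y ^ 4 = y * y * (y * y) by ring]
  exact (hinj h6).symm

end Block

end Cfsg.Agent.FFMinimal
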