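import Cfsg.Agent.Lib.FFMinimal.HKill

/-!
All minimal offenders of order two: transvections, their vectors and functionals.

* `TCtx` : the hypotheses, `TCtx.X` : the vectors
* `tv`, `TCtx.f` : the transvection and the functional of a vector
* `TCtx.symm`, `TCtx.add_mem` : the form is symmetric, two noncommuting ones give a third
* `TCtx.indep` : commuting ones have independent vectors
-/

set_option autoImplicit false

namespace Cfsg.Agent.FFMinimal

open Subgroup
open OffenderSL2 (fixS cj app_mul app_one app_inv_self app_self_inv fix_le fix_sup mem_fix_cj apply_mem_fix_cj mem_cj cj_cj)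

universe u v

variable {P : Type u} [Group P] {V : Type v} [AddCommGroup V] (σ : P →* AddMonoid.End V)

/-- `t` is a transvection with vector `x`. -/
def IsTv (t : P) (x : V) : Prop :=
  MinOff σ 2 (zpowers t) ∧ x ≠ 0 ∧ x ∈ comS σ (zpowers t)

/-- The vectors of transvections. -/
def tvSet : Set V := {x | ∃ t, IsTv σ t x}

open Classical in
/-- The transvection of a vector. -/
noncomputable def tv (x : V) : P := if h : ∃ t, IsTv σ t x then h.choose else 1

/-- All minimal offenders have order two. -/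
structure TCtx [Finite P] : Prop where
  ctx : Ctx σ 2
  good : Good σ 2
  small : ∀ A, MinOff σ 2 A → Nat.card ↥A = 2

variable {σ}

theorem closure_pair_card [Finite V] (h2 : ∀ v : V, v + v = 0) {ι : Type*} (g : ι → V) (s : Finset ι) :
    Nat.card ↥(s.sup fun i => AddSubgroup.closure {g i}) ≤ 2 ^ s.card := by
  classical
  induction s using Finset.induction_on with
  | empty => rw [Finset.sup_empty, AddSubgroup.card_bot, Finset.card_empty, pow_zero]
  | @insert a s ha ih =>
    rw [Finset.sup_insert, Finset.card_insert_of_notMem ha, pow_succ']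
    set S := s.sup fun i => AddSubgroup.closure {g i}
    have h := card_sup_mul_inf (AddSubgroup.closure {g a}) S
    have hpos : 0 < Nat.card ↥(AddSubgroup.closure {g a} ⊓ S : AddSubgroup V) := Nat.card_pos
    have hc : Nat.card ↥(AddSubgroup.closure {g a}) ≤ 2 := by
      rw [← AddSubgroup.zmultiples_eq_closure, Nat.card_zmultiples]
      exact Nat.le_of_dvd two_pos (addOrderOf_dvd_of_nsmul_eq_zero (by rw [two_nsmul, h2]))
    calc _ ≤ Nat.card ↥(AddSubgroup.closure {g a} ⊔ S : AddSubgroup V) *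
          Nat.card ↥(AddSubgroup.closure {g a} ⊓ S : AddSubgroup V) := Nat.le_mul_of_pos_right _ hpos
      _ = _ := h
      _ ≤ _ := Nat.mul_le_mul hc ih

namespace TCtx

variable [Finite P] [Finite V] (h : TCtx σ)
include h

theorem two (v : V) : v + v = 0 := by rw [← two_nsmul]; exact h.good.exponent v

theorem neg_eq (v : V) : -v = v := neg_eq_of_add_eq_zero_left (h.two v)

theorem sub_eq (v w : V) : v - w = v + w := by rw [sub_eq_add_neg, h.neg_eq]

theorem add_self_cancel (v w : V) : v + w + w = v := by rw [add_assoc, h.two, add_zero]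

theorem exists_of_minOff {A : Subgroup P} (hA : MinOff σ 2 A) :
    ∃ t x, A = zpowers t ∧ IsTv σ t x := by
  obtain ⟨t, ht, ht1⟩ : ∃ t ∈ A, t ≠ 1 := by
    by_contra hc
    push Not at hc
    exact hA.off.ne ((Subgroup.eq_bot_iff_forall A).2 hc)
  have e : A = zpowers t := by
    refine (Subgroup.eq_of_le_of_card_ge (zpowers_le.2 ht) ?_).symm
    rw [h.small A hA, Nat.card_zpowers]
    by_contra hlt
    have : orderOf t = 1 := by have := orderOf_pos t; omega
    exact ht1 (orderOf_eq_one_iff.1 this)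
  obtain ⟨x, hx, hx0⟩ : ∃ x ∈ comS σ A, x ≠ 0 := by
    by_contra hc
    push Not at hc
    exact h.good.comS_ne_bot hA ((AddSubgroup.eq_bot_iff_forall _).2 hc)
  subst e
  exact ⟨t, x, rfl, hA, hx0, hx⟩

variable {x y : V}

theorem isTv (hx : x ∈ tvSet σ) : IsTv σ (tv σ x) x := by
  have hx' : ∃ t, IsTv σ t x := hx
  rw [tv, dif_pos hx']
  exact hx'.choose_spec

theorem mem_pair {t : P} (ht : IsTv σ t x) {w : V} (hw : w ∈ comS σ (zpowers t)) : w = 0 ∨ w = x := by
  have hc : Nat.card ↥(comS σ (zpowers t)) = 2 := by rw [h.good.card_comS ht.1, h.small _ ht.1]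
  rw [Nat.card_eq_two_iff' (⟨0, zero_mem _⟩ : ↥(comS σ (zpowers t)))] at hc
  obtain ⟨z, -, hz⟩ := hc
  by_cases hw0 : w = 0
  · exact Or.inl hw0
  right
  have e1 := hz ⟨w, hw⟩ fun e => hw0 (congrArg Subtype.val e)
  have e2 := hz ⟨x, ht.2.2⟩ fun e => ht.2.1 (congrArg Subtype.val e)
  exact congrArg Subtype.val (e1.trans e2.symm)

theorem app_self_tv {t : P} (ht : IsTv σ t x) : σ t x = x := h.good.quad ht.1 ht.2.2 t (mem_zpowers t)

theorem sub_cases {t : P} (ht : IsTv σ t x) (v : V) : σ t v = v ∨ σ t v = v + x := by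
  rcases h.mem_pair ht (sub_mem_comS (mem_zpowers t) v) with e | e
  · exact Or.inl (sub_eq_zero.1 e)
  · exact Or.inr (by rw [← e]; abel)

theorem mem_fix_iff {t : P} {v : V} : v ∈ fixS σ (zpowers t) ↔ σ t v = v := by
  refine ⟨fun hv => hv t (mem_zpowers t), fun hv g hg => ?_⟩
  have hle : zpowers t ≤ fixingV σ {v} := zpowers_le.2 fun w hw => by rw [Set.mem_singleton_iff.1 hw]; exact hv
  exact hle hg v rfl

/-- The vector determines the transvection. -/
theorem tv_unique {t t' : P} (ht : IsTv σ t x) (ht' : IsTv σ t' x) : t = t' := by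
  have hfix : ∀ {t t' : P}, IsTv σ t x → IsTv σ t' x → comS σ (zpowers t) ≤ fixS σ (zpowers t') := by
    intro t t' ht ht' w hw
    rcases h.mem_pair ht hw with rfl | rfl
    · exact zero_mem _
    · exact h.mem_fix_iff.2 (h.app_self_tv ht')
  have hc := commute_of_comS h.good.faith (hfix ht ht') (hfix ht' ht)
  have e : zpowers t' = zpowers t := by
    by_contra hne
    exact ht.2.1 (AddSubgroup.mem_bot.1 ((h.good.comS_inf ht.1 ht'.1 hc hne).le ⟨ht.2.2, ht'.2.2⟩))
  have h1 : t' ∈ zpowers t := e ▸ mem_zpowers t'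
  obtain ⟨k, hk⟩ := mem_zpowers_iff.1 h1
  have h2 : t ^ (2 : ℤ) = 1 := by
    rw [show (2 : ℤ) = ((2 : ℕ) : ℤ) from rfl, zpow_natCast]
    exact ht.1.off.elem.pow_eq t (mem_zpowers t)
  rcases Int.even_or_odd' k with ⟨m, rfl | rfl⟩
  · rw [zpow_mul, h2, one_zpow] at hk
    exact absurd (h.good.comS_ne_bot ht'.1) (not_not.2 (by
      rw [← hk, zpowers_one_eq_bot, comS_bot]))
  · rw [zpow_add, zpow_mul, h2, one_zpow, one_mul, zpow_one] at hk
    exact hk

theorem eq_tv {t : P} (ht : IsTv σ t x) : tv σ x = t := h.tv_unique (h.isTv ⟨t, ht⟩) ht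

theorem ne_zero (hx : x ∈ tvSet σ) : x ≠ 0 := (h.isTv hx).2.1

theorem tv_ne_one (hx : x ∈ tvSet σ) : tv σ x ≠ 1 := fun e => by
  have := h.good.comS_ne_bot (h.isTv hx).1
  rw [e, zpowers_one_eq_bot, comS_bot] at this
  exact this rfl

theorem tv_mul_self (hx : x ∈ tvSet σ) : tv σ x * tv σ x = 1 := by
  rw [← pow_two]
  exact (h.isTv hx).1.off.elem.pow_eq _ (mem_zpowers _)

/-- The functional of a vector. -/
noncomputable def f (x : V) : V →+ ZMod 2 :=
  open Classical in
  if hx : x ∈ tvSet σ then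
    AddMonoidHom.mk' (fun v => if σ (tv σ x) v = v then 0 else 1) fun u w => by
      have hx0 := h.ne_zero hx
      rcases h.sub_cases (h.isTv hx) u with hu | hu <;> rcases h.sub_cases (h.isTv hx) w with hw | hw <;>
        rw [map_add, hu, hw]
      · simp
      · rw [← add_assoc]; simp [hx0]
      · rw [add_right_comm]; simp [hx0]
      · rw [add_add_add_comm, h.two, add_zero]; simp [hx0]; decide
  else 0

theorem f_eq_zero_iff (hx : x ∈ tvSet σ) {v : V} : h.f x v = 0 ↔ σ (tv σ x) v = v := by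
  classical
  rw [f, dif_pos hx]
  show (if _ then (0 : ZMod 2) else 1) = 0 ↔ _
  split_ifs with hv <;> simp [hv]

omit h in
theorem zmod_two_cases (a : ZMod 2) : a = 0 ∨ a = 1 := by revert a; decide

theorem app_zero' (hx : x ∈ tvSet σ) {v : V} (hv : h.f x v = 0) : σ (tv σ x) v = v := (h.f_eq_zero_iff hx).1 hv

theorem app_one' (hx : x ∈ tvSet σ) {v : V} (hv : h.f x v = 1) : σ (tv σ x) v = v + x := by
  refine (h.sub_cases (h.isTv hx) v).resolve_left fun e => ?_
  rw [← h.f_eq_zero_iff hx, hv] at e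
  exact one_ne_zero e

theorem f_self (hx : x ∈ tvSet σ) : h.f x x = 0 := (h.f_eq_zero_iff hx).2 (h.app_self_tv (h.isTv hx))

theorem exists_f_one (hx : x ∈ tvSet σ) : ∃ v, h.f x v = 1 := by
  by_contra hc
  refine h.tv_ne_one hx (h.good.faith _ fun v => h.app_zero' hx ?_)
  exact (zmod_two_cases (h.f x v)).resolve_right fun e => hc ⟨v, e⟩

/-- Transport by an element. -/
theorem tv_app (g : P) (hx : x ∈ tvSet σ) :
    σ g x ∈ tvSet σ ∧ tv σ (σ g x) = g * tv σ x * g⁻¹ ∧ ∀ v, h.f (σ g x) v = h.f x (σ g⁻¹ v) := by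
  have e : zpowers (g * tv σ x * g⁻¹) = cj (zpowers (tv σ x)) g := by
    show _ = Subgroup.map _ _
    rw [MonoidHom.map_zpowers]; rfl
  have ht : IsTv σ (g * tv σ x * g⁻¹) (σ g x) := by
    refine ⟨e ▸ (h.isTv hx).1.conj g, fun e0 => h.ne_zero hx ?_, e ▸ apply_mem_comS_cj g (h.isTv hx).2.2⟩
    rw [← app_inv_self (σ := σ) g x, e0, map_zero]
  refine ⟨⟨_, ht⟩, h.eq_tv ht, fun v => ?_⟩
  rcases zmod_two_cases (h.f x (σ g⁻¹ v)) with e' | e'
  · rw [e', h.f_eq_zero_iff ⟨_, ht⟩, h.eq_tv ht, app_mul, app_mul, h.app_zero' hx e', app_self_inv]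
  · refine (zmod_two_cases _).elim (fun e0 => ?_) (fun e1 => e1.trans e'.symm)
    rw [h.f_eq_zero_iff ⟨_, ht⟩, h.eq_tv ht, app_mul, app_mul, h.app_one' hx e', map_add, app_self_inv,
      add_eq_left] at e0
    exact absurd e0 ht.2.1

theorem mem_comS_cases (hx : x ∈ tvSet σ) {w : V} (hw : w ∈ comS σ (zpowers (tv σ x))) : w = 0 ∨ w = x :=
  h.mem_pair (h.isTv hx) hw

theorem commute_of_orth (hx : x ∈ tvSet σ) (hy : y ∈ tvSet σ) (e1 : h.f x y = 0) (e2 : h.f y x = 0) :
    ∀ a ∈ zpowers (tv σ x), ∀ b ∈ zpowers (tv σ y), a * b = b * a := by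
  refine commute_of_comS h.good.faith (fun w hw => ?_) fun w hw => ?_
  · rcases h.mem_comS_cases hx hw with rfl | rfl
    · exact zero_mem _
    · exact h.mem_fix_iff.2 (h.app_zero' hy e2)
  · rcases h.mem_comS_cases hy hw with rfl | rfl
    · exact zero_mem _
    · exact h.mem_fix_iff.2 (h.app_zero' hx e1)

/-- Equal functionals give equal vectors. -/
theorem eq_of_f_eq (hx : x ∈ tvSet σ) (hy : y ∈ tvSet σ) (e : ∀ v, h.f x v = h.f y v) : x = y := by
  have hc := h.commute_of_orth hx hy (by rw [e, h.f_self hy]) (by rw [← e, h.f_self hx])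
  by_contra hne
  have hne' : zpowers (tv σ y) ≠ zpowers (tv σ x) := fun e' => hne (by
    have := e' ▸ (h.isTv hy).2.2
    exact ((h.mem_comS_cases hx this).resolve_left (h.ne_zero hy)).symm)
  have htop := sup_fix_eq_top h.good.bound (h.isTv hx).1.off (h.isTv hy).1.off
    (h.good.inf_eq (h.isTv hx).1 (h.isTv hy).1 hne') hc
  obtain ⟨v, hv⟩ := h.exists_f_one hx
  obtain ⟨a, ha, b, hb, rfl⟩ := AddSubgroup.mem_sup.1 (htop.ge (AddSubgroup.mem_top v))
  rw [map_add, (h.f_eq_zero_iff hx).2 (h.mem_fix_iff.1 ha),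
    show h.f x b = 0 by rw [e]; exact (h.f_eq_zero_iff hy).2 (h.mem_fix_iff.1 hb), add_zero] at hv
  exact zero_ne_one hv

/-- Two noncommuting transvections give a third. -/
theorem tv_app_pair (hx : x ∈ tvSet σ) (hy : y ∈ tvSet σ) (e : h.f x y = 1) :
    x + y ∈ tvSet σ ∧ ∀ v, h.f (x + y) v = h.f y v + h.f x v * h.f y x := by
  obtain ⟨hm, -, hf⟩ := h.tv_app (tv σ x) hy
  rw [h.app_one' hx e, add_comm y x] at hm hf
  refine ⟨hm, fun v => ?_⟩
  rw [hf, inv_eq_of_mul_eq_one_right (h.tv_mul_self hx)]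
  rcases zmod_two_cases (h.f x v) with e' | e'
  · rw [h.app_zero' hx e', e', zero_mul, add_zero]
  · rw [h.app_one' hx e', map_add, e', one_mul]

theorem symm (hx : x ∈ tvSet σ) (hy : y ∈ tvSet σ) : h.f x y = h.f y x := by
  suffices key : ∀ {x y}, x ∈ tvSet σ → y ∈ tvSet σ → h.f x y = 1 → h.f y x = 1 by
    rcases zmod_two_cases (h.f x y) with e | e
    · rcases zmod_two_cases (h.f y x) with e' | e'
      · rw [e, e']
      · rw [key hy hx e'] at e; exact absurd e one_ne_zero
    · rw [e, key hx hy e]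
  intro x y hx hy e
  refine (zmod_two_cases _).resolve_left fun e0 => h.ne_zero hx ?_
  obtain ⟨hm, hf⟩ := h.tv_app_pair hx hy e
  exact add_eq_right.1 (h.eq_of_f_eq hm hy fun v => by rw [hf, e0, mul_zero, add_zero])

theorem add_mem (hx : x ∈ tvSet σ) (hy : y ∈ tvSet σ) (e : h.f x y = 1) : x + y ∈ tvSet σ :=
  (h.tv_app_pair hx hy e).1

theorem f_add (hx : x ∈ tvSet σ) (hy : y ∈ tvSet σ) (e : h.f x y = 1) (v : V) :
    h.f (x + y) v = h.f x v + h.f y v := by
  rw [(h.tv_app_pair hx hy e).2, ← h.symm hx hy, e, mul_one, add_comm]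

/-- Vectors of commuting transvections are independent. -/
theorem indep (s : Finset V) (hs : ∀ x ∈ s, x ∈ tvSet σ) (ho : ∀ x ∈ s, ∀ y ∈ s, h.f x y = 0)
    (hne : s.Nonempty) : ∑ x ∈ s, x ≠ 0 := by
  classical
  intro e0
  obtain ⟨x₀, hx₀⟩ := hne
  set A : V → Subgroup P := fun x => zpowers (tv σ x)
  have hinj : Set.InjOn A ↑s := fun a ha b hb e => by
    have e' : zpowers (tv σ a) = zpowers (tv σ b) := e
    have := e' ▸ (h.isTv (hs a ha)).2.2
    exact (h.mem_comS_cases (hs b hb) this).resolve_left (h.ne_zero (hs a ha))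
  obtain ⟨he, hcard, -, -, hcs⟩ := h.good.card_sup (s.image A) (fun B hB => by
      obtain ⟨x, hx, rfl⟩ := Finset.mem_image.1 hB
      exact (h.isTv (hs x hx)).1) (fun B hB B' hB' => by
      obtain ⟨x, hx, rfl⟩ := Finset.mem_image.1 hB
      obtain ⟨y, hy, rfl⟩ := Finset.mem_image.1 hB'
      exact h.commute_of_orth (hs x hx) (hs y hy) (ho x hx y hy) (ho y hy x hx))
  rw [Finset.prod_image hinj, Finset.prod_congr rfl (g := fun _ => 2) (fun x hx => h.small _ (h.isTv (hs x hx)).1),
    Finset.prod_const] at hcard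
  set S := (s.erase x₀).sup fun x => AddSubgroup.closure {x} with hS
  have hmem : ∀ x ∈ s.erase x₀, x ∈ S := fun x hx =>
    Finset.le_sup (f := fun x => AddSubgroup.closure {x}) hx (AddSubgroup.subset_closure rfl)
  have hx₀S : x₀ ∈ S := by
    rw [← Finset.add_sum_erase _ _ hx₀] at e0
    rw [eq_neg_of_add_eq_zero_left e0]
    exact neg_mem (sum_mem hmem)
  have hle : comS σ ((s.image A).sup id) ≤ S := hcs.trans (Finset.sup_le fun B hB w hw => by
    obtain ⟨x, hx, rfl⟩ := Finset.mem_image.1 hB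
    rcases h.mem_comS_cases (hs x hx) hw with rfl | rfl
    · exact zero_mem _
    · by_cases hw0 : w = x₀
      · exact hw0 ▸ hx₀S
      · exact hmem w (Finset.mem_erase.2 ⟨hw0, hx⟩))
  have h1 := ((h.good.dual _ he).trans (Nat.card_le_card_of_injective _ (Set.inclusion_injective hle))).trans
    (closure_pair_card h.two id (s.erase x₀))
  rw [hcard, Finset.card_erase_of_mem hx₀, Nat.pow_le_pow_iff_right (by norm_num : 1 < 2)] at h1
  have := Finset.card_pos.2 ⟨x₀, hx₀⟩
  omega

/-- The vectors span. -/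
theorem closure_eq_top (hex : ∃ A, MinOff σ 2 A) : AddSubgroup.closure (tvSet σ) = ⊤ := by
  refine (h.ctx.irr _ fun g v hv => ?_).resolve_left fun e => ?_
  · refine (AddSubgroup.closure_le (K := (AddSubgroup.closure (tvSet σ)).comap (σ g))).2 ?_ hv
    exact fun x hx => AddSubgroup.subset_closure (h.tv_app g hx).1
  · obtain ⟨A, hA⟩ := hex
    obtain ⟨t, x, -, ht⟩ := h.exists_of_minOff hA
    exact ht.2.1 (AddSubgroup.mem_bot.1 (e.le (AddSubgroup.subset_closure ⟨t, ht⟩)))

end TCtx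

end Cfsg.Agent.FFMinimal
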