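import Cfsg.Agent.Lib.FFMinimal.Stab

/-!
All blocks of a minimal offender have the same group.

* `Block.scale`, `Block.conjSelf` : changes of coordinates
* `Good.exists_normal` : after a change of coordinates two blocks have the same torus
* `Good.grp_le` : the group of one block lies in that of the other one
-/

set_option autoImplicit false

namespace Cfsg.Agent.FFMinimal

open Subgroup
open RankOne (upSL loSL)
open scoped MatrixGroups
open OffenderSL2 (fixS cj app_mul app_one app_inv_self app_self_inv fix_le fix_sup mem_fix_cj apply_mem_fix_cj mem_cj cj_cj)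

universe u v

variable {P : Type u} [Group P] {V : Type v} [AddCommGroup V] {σ : P →* AddMonoid.End V} {p : ℕ}
  {F : Type} [Field F] {A : Subgroup P}

namespace Block

/-- Scaling both coordinates. -/
def scale (B : Block σ F A) (c : Fˣ) : Block σ F A where
  φ := B.φ
  eqA := B.eqA
  C := B.C
  lam := B.lam.comp (AddMonoidHom.mulLeft (c : F))
  om := B.om.comp (AddMonoidHom.mulLeft (c : F))
  hh := B.hh.comp (AddMonoidHom.mulLeft ((c : F) * c))
  hh_mem x := B.hh_mem _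
  fix_C := B.fix_C
  decomp v := by
    obtain ⟨k, hk, x, y, rfl⟩ := B.decomp v
    refine ⟨k, hk, ((c⁻¹ : Fˣ) : F) * x, ((c⁻¹ : Fˣ) : F) * y, ?_⟩
    simp
  indep k hk x y e := by
    obtain ⟨h1, h2⟩ := B.indep k hk _ _ e
    exact ⟨(mul_eq_zero.1 h1).resolve_left c.ne_zero, (mul_eq_zero.1 h2).resolve_left c.ne_zero⟩
  up_lam t x := B.up_lam t _
  up_om t x := by
    show σ _ (B.om (c * x)) = B.om (c * x) + B.lam (c * (t * x)) + B.hh (c * c * (t * x * x))
    rw [B.up_om]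
    ring_nf
  dg_lam s x := by
    show σ _ (B.lam (c * x)) = B.lam (c * (s * x))
    rw [B.dg_lam, mul_left_comm]
  dg_om s x := by
    show σ _ (B.om (c * x)) = B.om (c * (_ * x))
    rw [B.dg_om, mul_left_comm]
  w_lam x := B.w_lam _
  w_om x := B.w_om _
  hh_two h := by rw [B.hh_two h, AddMonoidHom.zero_comp]

theorem scale_hh (B : Block σ F A) (c : Fˣ) (h : B.hh = 0) : (B.scale c).hh = 0 := by
  show B.hh.comp _ = 0
  rw [h, AddMonoidHom.zero_comp]

/-- Conjugation by an element normalising the root group. -/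
def conjSelf (B : Block σ F A) (g : P) (hg : cj A g = A) : Block σ F A :=
  { B.conj g with eqA := hg.symm.trans (B.conj g).eqA }

theorem conjSelf_hh (B : Block σ F A) (g : P) (hg : cj A g = A) (h : B.hh = 0) : (B.conjSelf g hg).hh = 0 := by
  refine AddMonoidHom.ext fun x => ?_
  show σ g (B.hh x) = 0
  rw [h, AddMonoidHom.zero_apply, map_zero]

theorem conjSelf_grp (B : Block σ F A) (g : P) (hg : cj A g = A) : (B.conjSelf g hg).grp = cj B.grp g :=
  B.conj_grp g

theorem cj_grp_self (B : Block σ F A) {g : P} (hg : g ∈ B.grp) : cj B.grp g = B.grp := by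
  ext x
  rw [mem_cj]
  exact ⟨fun h => by simpa [mul_assoc] using mul_mem (mul_mem hg h) (inv_mem hg),
    fun h => mul_mem (mul_mem (inv_mem hg) h) hg⟩

theorem app_dg_C (B : Block σ F A) (s : Fˣ) {c : V} (hc : c ∈ B.C) : σ (B.dg s) c = c := B.fix_C _ c hc

theorem app_dg_lam (B : Block σ F A) (s : Fˣ) (x : F) : σ (B.dg s) (B.lam x) = B.lam (s * x) := B.dg_lam s x

theorem app_dg_om (B : Block σ F A) (s : Fˣ) (x : F) :
    σ (B.dg s) (B.om x) = B.om (((s⁻¹ : Fˣ) : F) * x) := B.dg_om s x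

theorem dg_mul (B : Block σ F A) (r s : Fˣ) : B.dg r * B.dg s = B.dg (r * s) := by
  simp only [dg]; rw [← map_mul, dgSL_mul]

theorem dg_inv (B : Block σ F A) (r : Fˣ) : (B.dg r)⁻¹ = B.dg r⁻¹ := by
  simp only [dg]; rw [← map_inv, dgSL_inv]

theorem dg_comm_up (B : Block σ F A) (s : Fˣ) (t : F) : B.dg s * B.up t = B.up ((s : F) * s * t) * B.dg s := by
  simp only [dg, up]; rw [← map_mul, dg_up, map_mul]

theorem up_neg (B : Block σ F A) (t : F) : (B.up t)⁻¹ = B.up (-t) :=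
  inv_eq_of_mul_eq_one_right (by rw [← B.up_add, add_neg_cancel, B.up_zero])

theorem cj_up (B : Block σ F A) (t : F) : cj A (B.up t) = A :=
  cj_eq_of_comm fun a ha => by
    obtain ⟨r, rfl⟩ := B.mem_A.1 ha
    rw [← B.up_add, ← B.up_add, add_comm]

theorem cj_dg (B : Block σ F A) (s : Fˣ) : cj A (B.dg s) = A := by
  ext x
  rw [mem_cj]
  constructor
  · intro hx
    obtain ⟨r, hr⟩ := B.mem_A.1 hx
    have : x = B.up ((s : F) * s * r) := by
      rw [eq_comm, ← mul_left_inj (B.dg s), ← B.dg_comm_up, hr]; group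
    rw [this]; exact B.up_mem _
  · intro hx
    obtain ⟨r, rfl⟩ := B.mem_A.1 hx
    have e := B.dg_comm_up s (((s⁻¹ : Fˣ) : F) * (s⁻¹ : Fˣ) * r)
    rw [show (s : F) * s * (((s⁻¹ : Fˣ) : F) * (s⁻¹ : Fˣ) * r) = r by simp; field_simp] at e
    rw [mul_assoc, ← e, inv_mul_cancel_left]
    exact B.up_mem _

/-- Two endomorphisms agreeing on coordinates are equal. -/
theorem ext_action (B : Block σ F A) (hf : ∀ g : P, (∀ v, σ g v = v) → g = 1) {g g' : P}
    (hC : ∀ c ∈ B.C, σ g c = σ g' c) (hl : ∀ x, σ g (B.lam x) = σ g' (B.lam x))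
    (ho : ∀ y, σ g (B.om y) = σ g' (B.om y)) : g = g' := by
  refine (inv_mul_eq_one.1 (hf _ fun v => ?_)).symm
  obtain ⟨c, hc, x, y, rfl⟩ := B.decomp v
  rw [app_mul, show σ g (c + B.lam x + B.om y) = σ g' (c + B.lam x + B.om y) by
    rw [map_add, map_add, map_add, map_add, hC c hc, hl, ho], app_inv_self]

/-- The torus determines the fixed part. -/
theorem C_le_of_dg_eq {B B' : Block σ F A} {r r' : Fˣ} (hr : (r : F) ≠ 1) (e : B'.dg r' = B.dg r) :
    B'.C ≤ B.C := by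
  intro c hc
  have h1 : σ (B.dg r) c = c := by rw [← e]; exact B'.fix_C _ c hc
  obtain ⟨k, hk, x, y, rfl⟩ := B.decomp c
  rw [dg, map_add, map_add, B.fix_C _ _ hk, B.dg_lam, B.dg_om] at h1
  have h0 := B.indep 0 (zero_mem _) ((r : F) * x - x) (((r⁻¹ : Fˣ) : F) * y - y) (by
    rw [map_sub, map_sub, zero_add]
    calc _ = (k + B.lam ((r : F) * x) + B.om (((r⁻¹ : Fˣ) : F) * y)) - (k + B.lam x + B.om y) := by abel
      _ = 0 := by rw [h1, sub_self])
  have hr' : ((r⁻¹ : Fˣ) : F) ≠ 1 := fun e => hr (by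
    have := r.mul_inv; rw [e, mul_one] at this; exact this)
  rw [← sub_one_mul, ← sub_one_mul] at h0
  rw [(mul_eq_zero.1 h0.1).resolve_left (sub_ne_zero.2 hr),
    (mul_eq_zero.1 h0.2).resolve_left (sub_ne_zero.2 hr'), map_zero, map_zero, add_zero, add_zero]
  exact hk

end Block

variable [Finite P] [Finite V] [Fact p.Prime] [Finite F]

/-- The transition maps between the coordinates of two blocks. -/
theorem Good.transition (h : Good σ p) (hA : MinOff σ p A) {B B' : Block σ F A} (hB : B.hh = 0)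
    (hB' : B'.hh = 0) : ∃ τ β : F → F, Function.Bijective β ∧ τ 1 ≠ 0 ∧
      (∀ y y', β (y + y') = β y + β y') ∧
      (∀ y y', β (y * y') * β 1 = β y * β y') ∧ (∀ y, B.om y - B'.om (β y) ∈ fixS σ A) ∧
      (∀ x, B.lam x = B'.lam (τ 1 * β x)) := by
  classical
  choose τ hτ using fun t => B'.mem_A.1 (B.up_mem t)
  set β : F → F := fun y => (B'.crd (B.om y)).2
  have hrel : ∀ t y, B.lam (t * y) = B'.lam (τ t * β y) := fun t y => by
    obtain ⟨c, hc, a, b, e⟩ := B'.decomp (B.om y)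
    have hb : β y = b := by show (B'.crd (B.om y)).2 = b; rw [e, B'.crd_eq hc]
    have e1 : σ (B.up t) (B.om y) - B.om y = B.lam (t * y) := by
      rw [B.sub_om, hB, AddMonoidHom.zero_apply, add_zero]
    rw [← e1, e, ← hτ t, B'.app_up_sub hc, hB', hb, AddMonoidHom.zero_apply, add_zero]
  have hdiff : ∀ y, B.om y - B'.om (β y) ∈ fixS σ A := fun y => by
    obtain ⟨c, hc, a, b, e⟩ := B'.decomp (B.om y)
    have hb : β y = b := by show (B'.crd (B.om y)).2 = b; rw [e, B'.crd_eq hc]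
    rw [hb, e, add_sub_cancel_right]
    exact B'.mem_fix_A.2 ⟨c, hc, a, rfl⟩
  have hβ0 : ∀ y, β y = 0 → y = 0 := fun y hy => by
    have := hdiff y
    rw [hy, map_zero, sub_zero] at this
    obtain ⟨c, hc, x, hx⟩ := B.mem_fix_A.1 this
    exact (B.indep (-c) (neg_mem hc) (-x) y (by rw [hx, map_neg]; abel)).2
  have hβinj : Function.Injective β := fun x y e => sub_eq_zero.1 (hβ0 _ (by
    show (B'.crd (B.om (x - y))).2 = 0
    rw [map_sub, map_sub, Prod.snd_sub]
    exact sub_eq_zero.2 e))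
  have hτ1 : τ 1 ≠ 0 := fun e => by
    have := hrel 1 1
    rw [e, zero_mul, map_zero, one_mul] at this
    exact one_ne_zero (B.lam_injective (this.trans (map_zero B.lam).symm))
  refine ⟨τ, β, Finite.injective_iff_bijective.1 hβinj, hτ1, fun y y' => by
    show (B'.crd (B.om (y + y'))).2 = _
    rw [map_add, map_add]; rfl, fun y y' => ?_, hdiff, fun x => ?_⟩
  · have h1 := hrel y y'
    have h2 := hrel 1 (y * y')
    have h3 := hrel y 1
    have h4 := hrel 1 y
    rw [one_mul] at h2 h4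
    rw [mul_one] at h3
    have e1 : τ y * β y' = τ 1 * β (y * y') := B'.lam_injective (h1.symm.trans h2)
    have e2 : τ y * β 1 = τ 1 * β y := B'.lam_injective (h3.symm.trans h4)
    refine mul_left_cancel₀ hτ1 ?_
    linear_combination -β 1 * e1 + β y' * e2
  · have := hrel 1 x
    rwa [one_mul] at this

/-- A change of coordinates makes the tori equal. -/
theorem Good.exists_normal (h : Good σ p) (hA : MinOff σ p A) {B B' : Block σ F A} (hB : B.hh = 0)
    (hB' : B'.hh = 0) (hq : ∃ s : Fˣ, (s : F) ≠ 1) :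
    ∃ b : F, ∀ r, ∃ r', B'.dg r' = (B.conjSelf (B.up b) (B.cj_up b)).dg r := by
  classical
  obtain ⟨τ, β, hβ, hτ1, -, hmul, hdiff, hlam⟩ := h.transition hA hB hB'
  have hβ1 : β 1 ≠ 0 := fun e => by
    obtain ⟨y, hy⟩ := hβ.2 1
    have := hmul y 1
    rw [e, mul_zero] at this
    have h0 := hmul 1 1
    obtain ⟨z, hz⟩ := hβ.2 0
    have h2 := hmul y y
    rw [e, mul_zero, hy, mul_one] at h2
    exact zero_ne_one h2
  have hβne : ∀ y, y ≠ 0 → β y ≠ 0 := fun y hy e => hβ1 (by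
    have := hmul y y⁻¹
    rw [e, zero_mul, mul_inv_cancel₀ hy, ← pow_two] at this
    exact pow_eq_zero_iff (n := 2) (by norm_num) |>.1 this)
  -- each torus element of `B` is one of `B'` times a root element
  have hstep : ∀ r : Fˣ, ∃ r' a, B'.dg r' = B.up a * B.dg r := fun r => by
    set r' := Units.mk0 (β r / β 1) (div_ne_zero (hβne _ r.ne_zero) hβ1) with hr'
    suffices hu : B'.dg r' * (B.dg r)⁻¹ ∈ A by
      obtain ⟨a, ha⟩ := B.mem_A.1 hu
      exact ⟨r', a, by rw [ha, inv_mul_cancel_right]⟩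
    have hval : (r' : F) = β r / β 1 := rfl
    have hone : (r' : F) * β 1 = β r := by rw [hval, div_mul_cancel₀ _ hβ1]
    have hb : ∀ y, β ((r : F) * y) = r' * β y := fun y => by
      refine mul_right_cancel₀ hβ1 ?_
      rw [hmul, mul_assoc, mul_comm (β y), ← mul_assoc, hone]
    have hbi : ∀ y, β (((r⁻¹ : Fˣ) : F) * y) = ((r'⁻¹ : Fˣ) : F) * β y := fun y => by
      refine mul_left_cancel₀ r'.ne_zero ?_
      rw [← hb, ← mul_assoc, ← mul_assoc, Units.mul_inv, Units.mul_inv, one_mul, one_mul]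
    refine h.mem_of_series hA B hB hq (fun v => ?_) (fun v hv => ?_) fun v hv => ?_
    · obtain ⟨c, hc, x, y, rfl⟩ := B.decomp v
      have key : ∀ w ∈ fixS σ A, σ (B'.dg r') w ∈ fixS σ A := fun w hw => by
        obtain ⟨c, hc, x, rfl⟩ := B'.mem_fix_A.1 hw
        rw [map_add, B'.app_dg_C _ hc, B'.app_dg_lam]
        exact B'.mem_fix_A.2 ⟨c, hc, _, rfl⟩
      rw [app_mul, Block.dg_inv]
      simp only [map_add]
      rw [B.app_dg_C _ hc, B.app_dg_lam, B.app_dg_om, inv_inv]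
      have h1 : σ (B'.dg r') (B.om ((r : F) * y)) - B.om y ∈ fixS σ A := by
        rw [show σ (B'.dg r') (B.om ((r : F) * y)) - B.om y =
            σ (B'.dg r') (B.om ((r : F) * y) - B'.om (β ((r : F) * y))) - (B.om y - B'.om (β y)) by
          rw [map_sub, B'.app_dg_om, hb, ← mul_assoc, Units.inv_mul, one_mul]; abel]
        exact sub_mem (key _ (hdiff _)) (hdiff y)
      rw [show σ (B'.dg r') c + σ (B'.dg r') (B.lam (((r⁻¹ : Fˣ) : F) * x)) + σ (B'.dg r') (B.om ((r : F) * y)) -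
          (c + B.lam x + B.om y) = (σ (B'.dg r') c - c) +
            (σ (B'.dg r') (B.lam (((r⁻¹ : Fˣ) : F) * x)) - B.lam x) + (σ (B'.dg r') (B.om ((r : F) * y)) - B.om y) by abel]
      exact add_mem (add_mem (sub_mem (key _ (B.C_le_fix hc)) (B.C_le_fix hc))
        (sub_mem (key _ (B.lam_mem_fix _)) (B.lam_mem_fix _))) h1
    · obtain ⟨c, hc, x, rfl⟩ := B.mem_fix_A.1 hv
      rw [app_mul, Block.dg_inv, map_add, B.app_dg_C _ hc, B.app_dg_lam, map_add]
      obtain ⟨c', hc', a, e⟩ := B'.mem_fix_A.1 (B.C_le_fix hc)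
      rw [hlam x, hlam, e, map_add, B'.app_dg_C _ hc', B'.app_dg_lam, B'.app_dg_lam, B'.comS_eq_range hB']
      refine ⟨((r' : F) * a - a) + ((r' : F) * (τ 1 * β (((r⁻¹ : Fˣ) : F) * x)) - τ 1 * β x), ?_⟩
      rw [map_add, map_sub, map_sub]; abel
    · obtain ⟨x, rfl⟩ := (B.comS_eq_range hB).le hv
      rw [app_mul, Block.dg_inv, B.app_dg_lam, hlam, hlam x, B'.app_dg_lam, hbi,
        mul_left_comm (τ 1), ← mul_assoc (r' : F), Units.mul_inv, one_mul]
  have hsq : ∀ s r : Fˣ, B'.dg s * B'.dg r = B'.dg r * B'.dg s := fun s r => by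
    rw [B'.dg_mul, B'.dg_mul, mul_comm]
  have hdgB : ∀ (b : F) (r : Fˣ),
      (B.conjSelf (B.up b) (B.cj_up b)).dg r = B.up (b - (r : F) * r * b) * B.dg r := fun b r => by
    show B.up b * B.dg r * (B.up b)⁻¹ = _
    rw [B.up_neg, mul_assoc, B.dg_comm_up, ← mul_assoc, ← B.up_add, mul_neg, ← sub_eq_add_neg]
  have hone : B.dg 1 = 1 := by rw [Block.dg, dgSL_one, map_one]
  by_cases h4 : ∃ s : Fˣ, (s : F) * s ≠ 1
  · obtain ⟨s, hs⟩ := h4
    obtain ⟨s', a', e'⟩ := hstep s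
    have hne : (1 : F) - (s : F) * s ≠ 0 := sub_ne_zero.2 fun e => hs e.symm
    refine ⟨a' / (1 - (s : F) * s), fun r => ?_⟩
    obtain ⟨r', a, e⟩ := hstep r
    refine ⟨r', ?_⟩
    have h1 := hsq r' s'
    rw [e, e', show B.up a * B.dg r * (B.up a' * B.dg s) = B.up (a + (r : F) * r * a') * B.dg (r * s) by
        rw [mul_assoc, ← mul_assoc (B.dg r), B.dg_comm_up, ← B.dg_mul, B.up_add]; group,
      show B.up a' * B.dg s * (B.up a * B.dg r) = B.up (a' + (s : F) * s * a) * B.dg (r * s) by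
        rw [mul_assoc, ← mul_assoc (B.dg s), B.dg_comm_up, mul_comm r, ← B.dg_mul, B.up_add]; group,
      mul_left_inj] at h1
    have h2 := B.up_injective h1
    have ha : a = a' / (1 - (s : F) * s) - (r : F) * r * (a' / (1 - (s : F) * s)) := by
      refine mul_left_cancel₀ hne ?_
      have hd : (1 - (s : F) * s) * (a' / (1 - (s : F) * s)) = a' := mul_div_cancel₀ _ hne
      linear_combination h2 - (1 - (r : F) * r) * hd
    rw [e, hdgB, ← ha]
  · push Not at h4
    refine ⟨0, fun r => ?_⟩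
    obtain ⟨r', a, e⟩ := hstep r
    refine ⟨r', ?_⟩
    obtain ⟨s, hs⟩ := hq
    have h2 : (2 : F) ≠ 0 := fun e2 => hs (by
      rcases mul_self_eq_one_iff.1 (h4 s) with e1 | e1
      · exact e1
      · rw [e1, neg_eq_iff_add_eq_zero, one_add_one_eq_two, e2])
    have h1 : B'.dg r' * B'.dg r' = B.up (a + a) := by
      rw [e, mul_assoc, ← mul_assoc (B.dg r), B.dg_comm_up, h4 r, one_mul, mul_assoc (B.up a),
        B.dg_mul, show r * r = 1 from Units.ext (h4 r), hone, mul_one, B.up_add]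
    rw [B'.dg_mul, show r' * r' = 1 from Units.ext (h4 r'), Block.dg, dgSL_one, map_one] at h1
    have h3 : a + a = 0 := B.up_injective (h1.symm.trans B.up_zero.symm)
    rw [← two_mul] at h3
    rw [e, hdgB, (mul_eq_zero.1 h3).resolve_left h2, mul_zero, sub_zero]

/-- A field of four elements. -/
theorem exists_omega (h : Nat.card F = 4) : ∃ w : F, w * w = w + 1 ∧ w * w * w = 1 ∧ (2 : F) = 0 ∧
    ∀ x : F, x * x * x * x = x := by
  haveI := Fintype.ofFinite F
  rw [Nat.card_eq_fintype_card] at h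
  have hpow : ∀ x : F, x * x * x * x = x := fun x => by
    have := FiniteField.pow_card x
    rw [h] at this
    linear_combination this
  have h2 : (2 : F) = 0 := by
    have h4 : (4 : F) = 0 := by
      have := FiniteField.cast_card_eq_zero F
      rw [h] at this
      exact_mod_cast this
    refine pow_eq_zero_iff (n := 2) (by norm_num) |>.1 ?_
    linear_combination h4
  classical
  obtain ⟨w, hw⟩ : ∃ w : F, w ∉ ({0, 1} : Finset F) := by
    by_contra hc
    push Not at hc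
    have := (Finset.card_le_card (fun x (_ : x ∈ Finset.univ) => hc x)).trans Finset.card_le_two
    rw [Finset.card_univ, h] at this
    omega
  simp only [Finset.mem_insert, Finset.mem_singleton, not_or] at hw
  have e : (w - 1) * (w * w + w + 1) = 0 := by
    refine mul_left_cancel₀ hw.1 ?_
    linear_combination hpow w
  have e' := (mul_eq_zero.1 e).resolve_left (sub_ne_zero.2 hw.2)
  refine ⟨w, ?_, ?_, h2, hpow⟩
  · linear_combination e' - (w + 1) * h2
  · linear_combination (w - 1) * e'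

omit [Finite P] [Finite V] [Fact p.Prime] in
/-- Over four elements a second block sheared by squares moves the stabiliser of a point outside `M`. -/
theorem false_of_four (hf : ∀ g : P, (∀ v, σ g v = v) → g = 1) (h4 : Nat.card F = 4) {B : Block σ F A}
    (hB : B.hh = 0) {M : Subgroup P} (hAM : A ≤ M) (hdM : ∀ s, B.dg s ∈ M) (hout : ¬ B.grp ≤ M)
    (hM : ∀ w : F, w * w = w + 1 → ∃ e, (∀ c ∈ B.C, σ e c = c) ∧
      (∀ x, σ e (B.lam x) = B.lam x + B.om (w * x) + B.lam (w * x * (w * x))) ∧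
      (∀ y, σ e (B.om y) = B.om y + B.om (w * (y * y)) + B.lam (w * w * y)) ∧
      (σ (B.lo w * B.up w * e) (B.lam 1) = B.lam 1 → B.lo w * B.up w * e ∈ M)) : False := by
  obtain ⟨w, hw, hw3, h2, hpow⟩ := exists_omega (F := F) h4
  obtain ⟨e, heC, hel, heo, heM⟩ := hM w hw
  set g := B.lo w * B.up w * e with hg
  have hup : ∀ t x, σ (B.up t) (B.lam x) = B.lam x := fun t x => B.up_lam t x
  have hupo : ∀ t x, σ (B.up t) (B.om x) = B.om x + B.lam (t * x) := fun t x => by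
    rw [Block.up, B.up_om, hB, AddMonoidHom.zero_apply, add_zero]
  have hlol : ∀ t x, σ (B.lo t) (B.lam x) = B.lam x + B.om (t * x) := fun t x => by
    rw [B.lo_lam, hB, AddMonoidHom.zero_apply, add_zero]
  have hgl : ∀ x, σ g (B.lam x) = B.lam (w * x + w * w * (x * x)) + B.om (x + x * x) := fun x => by
    rw [show w * x + w * w * (x * x) = x + w * x * (w * x) + (w * (w * x)) by
        linear_combination ((-1) * x ^ 1) * hw + ((-1) * x ^ 1) * h2,
      show x + x * x = w * x + w * x + (w * (w * x * (w * x))) + (w * (w * (w * x))) by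
        linear_combination ((-1) * x ^ 1 + (-1) * x ^ 2 + (-1) * w ^ 1 * x ^ 1 + (-1) * w ^ 1 * x ^ 2) * hw + ((-2) * w ^ 1 * x ^ 1 + (-1) * w ^ 1 * x ^ 2) * h2,
      hg, app_mul, app_mul, hel]
    simp only [map_add, hup, hupo, hlol, B.lo_om]
    abel
  have hgo : ∀ y, σ g (B.om y) = B.lam (y + w * w * (y * y)) + B.om (w * w * y + w * w * (y * y)) := fun y => by
    rw [show y + w * w * (y * y) = w * y + w * (w * (y * y)) + w * w * y by
        linear_combination ((-1) * y ^ 1) * hw + ((-1) * w ^ 1 * y ^ 1) * h2,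
      show w * w * y + w * w * (y * y) = y + w * (y * y) + w * (w * y) + w * (w * (w * (y * y))) + w * (w * w * y) by
        linear_combination ((-1) * y ^ 1 + (-1) * w ^ 1 * y ^ 1 + (-1) * w ^ 1 * y ^ 2) * hw + ((-1) * y ^ 1 + (-1) * w ^ 1 * y ^ 1 + (-1) * w ^ 1 * y ^ 2) * h2,
      hg, app_mul, app_mul, heo]
    simp only [map_add, hup, hupo, hlol, B.lo_om]
    abel
  have hgC : ∀ c ∈ B.C, σ g c = c := fun c hc => by
    rw [hg, app_mul, app_mul, heC c hc, B.app_up_C hc, Block.lo, B.fix_C _ _ hc]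
  have hgM : g ∈ M := heM (by
    rw [hgl]
    simp only [mul_one]
    rw [show w + w * w = 1 by linear_combination hw + w * h2, show (1 : F) + 1 = 0 by linear_combination h2,
      map_zero, add_zero])
  have hw0 : w ≠ 0 := fun e => one_ne_zero (α := F) (by rw [← hw3, e, mul_zero])
  have hwu : ((Units.mk0 w hw0)⁻¹ : Fˣ).1 = w * w := by
    rw [Units.val_inv_eq_inv_val, Units.val_mk0]
    exact inv_eq_of_mul_eq_one_right (by linear_combination hw3)
  have hlo1 : B.lo 1 = g * B.up w * B.dg (Units.mk0 w hw0) * g := by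
    refine B.ext_action hf (fun c hc => ?_) (fun x => ?_) (fun y => ?_)
    · rw [app_mul, app_mul, app_mul, hgC c hc, B.app_dg_C _ hc, B.app_up_C hc, hgC c hc, Block.lo,
        B.fix_C _ _ hc]
    · rw [app_mul, app_mul, app_mul, hgl, map_add, B.app_dg_lam, B.app_dg_om, hwu, Units.val_mk0,
        map_add, hup, hupo, map_add, map_add, hgl, hgo, hgl, hlol, one_mul]
      set a := w * (w * x + w * w * (x * x))
      set b := w * w * (x + x * x)
      set c := w * (w * w * (x + x * x))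
      have e1 : x = w * a + w * w * (a * a) + (b + w * w * (b * b)) + (w * c + w * w * (c * c)) := by
        simp only [a, b, c]
        linear_combination ((-4) * x ^ 1 + (-28) * x ^ 2 + (-52) * x ^ 3 + (-31) * x ^ 4 + (-2) * w ^ 1 * x ^ 1 + (-16) * w ^ 1 * x ^ 2 + (-32) * w ^ 1 * x ^ 3 + (-19) * w ^ 1 * x ^ 4 + (-1) * w ^ 2 * x ^ 1 + (-11) * w ^ 2 * x ^ 2 + (-20) * w ^ 2 * x ^ 3 + (-12) * w ^ 2 * x ^ 4 + (-5) * w ^ 3 * x ^ 2 + (-12) * w ^ 3 * x ^ 3 + (-7) * w ^ 3 * x ^ 4 + (-4) * w ^ 4 * x ^ 2 + (-8) * w ^ 4 * x ^ 3 + (-5) * w ^ 4 * x ^ 4 + (-1) * w ^ 5 * x ^ 2 + (-4) * w ^ 5 * x ^ 3 + (-2) * w ^ 5 * x ^ 4 + (-1) * w ^ 6 * x ^ 2 + (-2) * w ^ 6 * x ^ 3 + (-2) * w ^ 6 * x ^ 4) * hw + ((-31) + (-50) * w ^ 1) * (hpow x) + ((-17) * x ^ 1 + (-14) * x ^ 2 + (-26) * x ^ 3 + (-28) * w ^ 1 * x ^ 1 + (-22) * w ^ 1 * x ^ 2 + (-42) * w ^ 1 * x ^ 3) * h2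
      have e2 : x = a + a * a + (w * w * b + w * w * (b * b)) + (c + c * c) := by
        simp only [a, b, c]
        linear_combination ((-4) * x ^ 1 + (-16) * x ^ 2 + (-26) * x ^ 3 + (-15) * x ^ 4 + (-2) * w ^ 1 * x ^ 1 + (-10) * w ^ 1 * x ^ 2 + (-16) * w ^ 1 * x ^ 3 + (-9) * w ^ 1 * x ^ 4 + (-1) * w ^ 2 * x ^ 1 + (-6) * w ^ 2 * x ^ 2 + (-10) * w ^ 2 * x ^ 3 + (-6) * w ^ 2 * x ^ 4 + (-2) * w ^ 3 * x ^ 2 + (-6) * w ^ 3 * x ^ 3 + (-3) * w ^ 3 * x ^ 4 + (-2) * w ^ 4 * x ^ 2 + (-4) * w ^ 4 * x ^ 3 + (-3) * w ^ 4 * x ^ 4) * hw + ((-15) + (-24) * w ^ 1) * (hpow x) + ((-9) * x ^ 1 + (-8) * x ^ 2 + (-13) * x ^ 3 + (-15) * w ^ 1 * x ^ 1 + (-13) * w ^ 1 * x ^ 2 + (-21) * w ^ 1 * x ^ 3) * h2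
      conv_lhs => rw [show B.lam x = B.lam (w * a + w * w * (a * a) + (b + w * w * (b * b)) +
        (w * c + w * w * (c * c))) by rw [← e1], show B.om x = B.om (a + a * a + (w * w * b + w * w * (b * b)) +
        (c + c * c)) by rw [← e2]]
      simp only [map_add]
      abel
    · rw [app_mul, app_mul, app_mul, hgo, map_add, B.app_dg_lam, B.app_dg_om, hwu, Units.val_mk0,
        map_add, hup, hupo, map_add, map_add, hgl, hgo, hgl, B.lo_om]
      set a := w * (y + w * w * (y * y))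
      set b := w * w * (w * w * y + w * w * (y * y))
      set c := w * (w * w * (w * w * y + w * w * (y * y)))
      have e1 : (0 : F) = w * a + w * w * (a * a) + (b + w * w * (b * b)) + (w * c + w * w * (c * c)) := by
        simp only [a, b, c]
        linear_combination ((-8) * y ^ 1 + (-134) * y ^ 2 + (-256) * y ^ 3 + (-136) * y ^ 4 + (-4) * w ^ 1 * y ^ 1 + (-82) * w ^ 1 * y ^ 2 + (-158) * w ^ 1 * y ^ 3 + (-84) * w ^ 1 * y ^ 4 + (-3) * w ^ 2 * y ^ 1 + (-52) * w ^ 2 * y ^ 2 + (-98) * w ^ 2 * y ^ 3 + (-52) * w ^ 2 * y ^ 4 + (-1) * w ^ 3 * y ^ 1 + (-30) * w ^ 3 * y ^ 2 + (-60) * w ^ 3 * y ^ 3 + (-32) * w ^ 3 * y ^ 4 + (-1) * w ^ 4 * y ^ 1 + (-19) * w ^ 4 * y ^ 2 + (-38) * w ^ 4 * y ^ 3 + (-20) * w ^ 4 * y ^ 4 + (-11) * w ^ 5 * y ^ 2 + (-22) * w ^ 5 * y ^ 3 + (-12) * w ^ 5 * y ^ 4 + (-7) * w ^ 6 * y ^ 2 + (-14) * w ^ 6 * y ^ 3 + (-8) * w ^ 6 * y ^ 4 + (-4) * w ^ 7 * y ^ 2 + (-8) * w ^ 7 * y ^ 3 + (-4) * w ^ 7 * y ^ 4 + (-3) * w ^ 8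 * y ^ 2 + (-6) * w ^ 8 * y ^ 3 + (-3) * w ^ 8 * y ^ 4 + (-1) * w ^ 9 * y ^ 2 + (-2) * w ^ 9 * y ^ 3 + (-1) * w ^ 9 * y ^ 4 + (-1) * w ^ 10 * y ^ 2 + (-2) * w ^ 10 * y ^ 3 + (-1) * w ^ 10 * y ^ 4) * hw + ((-136) + (-220) * w ^ 1) * (hpow y) + ((-72) * y ^ 1 + (-67) * y ^ 2 + (-128) * y ^ 3 + (-116) * w ^ 1 * y ^ 1 + (-108) * w ^ 1 * y ^ 2 + (-207) * w ^ 1 * y ^ 3) * h2
      have e2 : y = a + a * a + (w * w * b + w * w * (b * b)) + (c + c * c) := by
        simp only [a, b, c]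
        linear_combination ((-8) * y ^ 1 + (-78) * y ^ 2 + (-140) * y ^ 3 + (-73) * y ^ 4 + (-5) * w ^ 1 * y ^ 1 + (-48) * w ^ 1 * y ^ 2 + (-86) * w ^ 1 * y ^ 3 + (-45) * w ^ 1 * y ^ 4 + (-3) * w ^ 2 * y ^ 1 + (-29) * w ^ 2 * y ^ 2 + (-54) * w ^ 2 * y ^ 3 + (-28) * w ^ 2 * y ^ 4 + (-2) * w ^ 3 * y ^ 1 + (-18) * w ^ 3 * y ^ 2 + (-32) * w ^ 3 * y ^ 3 + (-17) * w ^ 3 * y ^ 4 + (-1) * w ^ 4 * y ^ 1 + (-11) * w ^ 4 * y ^ 2 + (-20) * w ^ 4 * y ^ 3 + (-11) * w ^ 4 * y ^ 4 + (-6) * w ^ 5 * y ^ 2 + (-12) * w ^ 5 * y ^ 3 + (-6) * w ^ 5 * y ^ 4 + (-4) * w ^ 6 * y ^ 2 + (-8) * w ^ 6 * y ^ 3 + (-4) * w ^ 6 * y ^ 4 + (-2) * w ^ 7 * y ^ 2 + (-4) * w ^ 7 * y ^ 3 + (-2) * w ^ 7 * y ^ 4 + (-2) * w ^ 8 * y ^ 2 + (-4) * w ^ 8 * y ^ 3 + (-2) * w ^ 8 * y ^ 4) * hw + ((-73) + (-118) * w ^ 1) * (hpow y) + ((-40) * y ^ 1 + (-39) * y ^ 2 + (-70) * y ^ 3 + (-66) * w ^ 1 * y ^ 1 + (-63) * w ^ 1 * y ^ 2 + (-113) * w ^ 1 * y ^ 3) * h2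
      conv_lhs => rw [← zero_add (B.om y), show (0 : V) = B.lam (w * a + w * w * (a * a) + (b + w * w * (b * b)) +
        (w * c + w * w * (c * c))) by rw [← e1, map_zero], show B.om y = B.om (a + a * a + (w * w * b + w * w * (b * b)) +
        (c + c * c)) by rw [← e2]]
      simp only [map_add]
      abel
  have h1 : B.lo 1 ∈ M := hlo1 ▸ mul_mem (mul_mem (mul_mem hgM (hAM (B.up_mem w))) (hdM _)) hgM
  refine hout (le_trans B.grp_eq.le (sup_le hAM ?_))
  rintro _ ⟨a, ha, rfl⟩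
  obtain ⟨t, rfl⟩ := B.mem_A.1 ha
  show B.φ wSL * B.up t * (B.φ wSL)⁻¹ ∈ M
  rw [show B.φ wSL * B.up t * (B.φ wSL)⁻¹ = B.lo (-t) by
    rw [Block.up, Block.lo, ← map_inv, ← map_mul, ← map_mul, w_up, mul_inv_cancel_right]]
  by_cases ht : -t = 0
  · rw [ht, Block.lo, RankOne.loSL_zero, map_one]; exact one_mem _
  have hne : (-t) * (-t) ≠ 0 := mul_ne_zero ht ht
  set r := Units.mk0 ((-t) * (-t)) hne
  have hr : B.dg r⁻¹ * B.lo 1 * B.dg r = B.lo (-t) := by
    refine B.ext_action hf (fun c hc => ?_) (fun x => ?_) (fun y => ?_)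
    · rw [app_mul, app_mul, B.app_dg_C _ hc, Block.lo, B.fix_C _ _ hc, B.app_dg_C _ hc, Block.lo,
        B.fix_C _ _ hc]
    · rw [app_mul, app_mul, B.app_dg_lam, hlol, map_add, B.app_dg_lam, B.app_dg_om, hlol, inv_inv, one_mul,
        ← mul_assoc, Units.inv_mul, one_mul, ← mul_assoc]
      congr 2
      show -t * -t * (-t * -t) * x = -t * x
      linear_combination x * hpow (-t)
    · rw [app_mul, app_mul, B.app_dg_om, B.lo_om, B.app_dg_om, inv_inv, ← mul_assoc, Units.mul_inv, one_mul,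
        B.lo_om]
  rw [← hr]
  exact mul_mem (mul_mem (hdM _) h1) (hdM _)

/-- All blocks of a minimal offender have the same group. -/
theorem Good.grp_eq (h : Good σ p) (hA : MinOff σ p A) {B B' : Block σ F A} (hB : B.hh = 0) (hB' : B'.hh = 0)
    (hq : ∃ s : Fˣ, (s : F) ≠ 1)
    (hfour : Nat.card F = 4 → ∃ M : Subgroup P, A ≤ M ∧ ¬ B.grp ≤ M ∧ (∀ s, B.dg s ∈ M) ∧
      ∃ x₀ : F, x₀ ≠ 0 ∧ ∀ g ∈ B.grp ⊔ B'.grp, σ g (B.lam x₀) = B.lam x₀ → g ∈ M) :
    B'.grp = B.grp := by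
  classical
  obtain ⟨b₀, hdg⟩ := h.exists_normal hA hB hB' hq
  set B₁ := B.conjSelf (B.up b₀) (B.cj_up b₀) with hB₁
  have hB₁0 : B₁.hh = 0 := B.conjSelf_hh _ _ hB
  have hgrp : B₁.grp = B.grp := (B.conjSelf_grp _ _).trans (B.cj_grp_self (B.up_mem_grp b₀))
  rw [← hgrp]
  obtain ⟨τ, β, hβ, hτ1, hadd, hmul, hdiff, hlam⟩ := h.transition hA hB₁0 hB'
  obtain ⟨s, hs⟩ := hq
  have hCC : B'.C = B₁.C := by
    obtain ⟨r', e⟩ := hdg s
    refine le_antisymm (Block.C_le_of_dg_eq hs e) (Block.C_le_of_dg_eq (fun hr => hs ?_) e.symm)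
    have h1 : σ (B'.dg r') (B₁.lam 1) = B₁.lam 1 := by
      rw [hlam, B'.app_dg_lam, hr, one_mul]
    rw [e, B₁.app_dg_lam, mul_one] at h1
    exact B₁.lam_injective h1
  let g : F →+ F := AddMonoidHom.mk' (fun y => (B₁.crd (B'.om (β y) - B₁.om y)).1) fun y y' => by
    rw [hadd, map_add, map_add, add_sub_add_comm, map_add]; rfl
  -- the shear
  have hβ1 : β 1 ≠ 0 := fun e => by
    obtain ⟨y, hy⟩ := hβ.2 1
    have h2 := hmul y y
    rw [e, mul_zero, hy, mul_one] at h2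
    exact zero_ne_one h2
  have hβne : ∀ y, y ≠ 0 → β y ≠ 0 := fun y hy e => hβ1 (by
    have := hmul y y⁻¹
    rw [e, zero_mul, mul_inv_cancel₀ hy, ← pow_two] at this
    exact pow_eq_zero_iff (n := 2) (by norm_num) |>.1 this)
  have hdgrel : ∀ r r', B'.dg r' = B₁.dg r → ∀ y, β ((r : F) * y) = r' * β y := fun r r' e y => by
    have h1 := hlam ((r : F) * y)
    rw [← B₁.app_dg_lam, ← e, hlam y, B'.app_dg_lam, ← mul_assoc, mul_comm (r' : F), mul_assoc] at h1
    exact (mul_left_cancel₀ hτ1 (B'.lam_injective h1)).symm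
  have hsplit : ∀ y, ∃ c ∈ B₁.C, B'.om (β y) = B₁.om y + c + B₁.lam (g y) := fun y => by
    obtain ⟨c, hc, x, e⟩ := B₁.mem_fix_A.1 (neg_mem (hdiff y))
    rw [neg_sub] at e
    refine ⟨c, hc, ?_⟩
    show _ = _ + _ + B₁.lam (B₁.crd (B'.om (β y) - B₁.om y)).1
    rw [e, map_add, B₁.crd_C hc, B₁.crd_lam, zero_add, add_assoc, ← e]; abel
  have hshift : ∀ (r : Fˣ) y c, c ∈ B₁.C → B'.om (β ((r : F) * y)) = B₁.om ((r : F) * y) + c + B₁.lam (g ((r : F) * y)) →
      B'.om (β y) = B₁.om y + c + B₁.lam (r * g ((r : F) * y)) := fun r y c hc e => by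
    obtain ⟨r', er⟩ := hdg r
    have := congrArg (σ (B₁.dg r)) e
    rw [map_add, map_add, B₁.app_dg_C _ hc, B₁.app_dg_lam, B₁.app_dg_om, ← mul_assoc, Units.inv_mul, one_mul,
      hdgrel r r' er, ← er, B'.app_dg_om, ← mul_assoc, Units.inv_mul, one_mul] at this
    exact this
  have hom0 : ∀ y, B'.om (β y) = B₁.om y + B₁.lam (g y) := by
    intro y
    obtain ⟨c, hc, e⟩ := hsplit y
    -- `c` is invariant under scaling
    have hinv : ∀ (r : Fˣ) z c c', c ∈ B₁.C → c' ∈ B₁.C →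
        B'.om (β ((r : F) * z)) = B₁.om ((r : F) * z) + c + B₁.lam (g ((r : F) * z)) →
        B'.om (β z) = B₁.om z + c' + B₁.lam (g z) → c = c' := fun r z c c' hc hc' e1 e2 => by
      have h1 := (hshift r z c hc e1).symm.trans e2
      have h2 := B₁.indep (c - c') (sub_mem hc hc') ((r : F) * g ((r : F) * z) - g z) 0 (by
        rw [map_sub, map_zero, add_zero]
        calc _ = (B₁.om z + c + B₁.lam (r * g ((r : F) * z))) - (B₁.om z + c' + B₁.lam (g z)) := by abel
          _ = 0 := by rw [h1, sub_self])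
      have h3 : B₁.lam ((r : F) * g ((r : F) * z) - g z) = 0 := by rw [h2.1, map_zero]
      rw [map_sub, sub_eq_zero] at h3
      rwa [h3, add_left_inj, add_right_inj] at h1
    set y' := y / ((s : F) - 1)
    obtain ⟨c', hc', e'⟩ := hsplit y'
    obtain ⟨c'', hc'', e''⟩ := hsplit ((s : F) * y')
    have h1 : c'' = c' := hinv s y' _ _ hc'' hc' e'' e'
    have hy : y = (s : F) * y' - y' := by
      rw [← sub_one_mul, mul_div_cancel₀ _ (sub_ne_zero.2 hs)]
    have hβsub : β y = β ((s : F) * y') - β y' := by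
      rw [eq_sub_iff_add_eq, ← hadd, hy, sub_add_cancel]
    rw [hβsub, map_sub, e'', e', h1, hy, map_sub g, map_sub B₁.lam, map_sub B₁.om]; abel
  have hgsc : ∀ (r : Fˣ) y, g y = r * g ((r : F) * y) := fun r y => by
    have h1 := hshift r y 0 (zero_mem _) (by rw [add_zero]; exact hom0 _)
    rw [hom0, add_zero, add_right_inj] at h1
    exact B₁.lam_injective h1
  have hginv : ∀ y : F, y ≠ 0 → g y = y⁻¹ * g 1 := fun y hy => by
    have := hgsc (Units.mk0 y hy) 1
    rw [Units.val_mk0, mul_one] at this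
    rw [this, inv_mul_cancel_left₀ hy]
  -- a generator
  have hlo : ∀ (B₂ : Block σ F A), B₂.hh = 0 → B₂.C = B₁.C → (∀ x, B₂.lam x = B₁.lam x) →
      ∀ t u, τ 1 * β 1 * u = β t → (∀ y, B'.om (β y) = B₂.om y + B₂.lam (g y)) →
      (∀ x, σ (B'.lo u) (B₂.lam x) = B₂.lam x + B₂.om (t * x) + B₂.lam (g (t * x))) := by
    intro B₂ _ _ hl t u hu ho x
    have hxx : u * (τ 1 * β x) = β (t * x) := by
      refine mul_right_cancel₀ hβ1 ?_
      rw [hmul, ← hu]; ring
    rw [hl, hlam, B'.lo_lam, hB', AddMonoidHom.zero_apply, add_zero, hxx, ho, add_assoc]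
  by_cases hg0 : g 1 = 0
  · -- no shear
    have hg : ∀ y, g y = 0 := fun y => by
      by_cases hy : y = 0
      · rw [hy, map_zero]
      · rw [hginv y hy, hg0, mul_zero]
    have ho : ∀ y, B'.om (β y) = B₁.om y := fun y => by rw [hom0, hg, map_zero, add_zero]
    have heq : ∀ t u, τ 1 * β 1 * u = β t → B₁.lo t = B'.lo u := fun t u hu => by
      refine B₁.ext_action h.faith (fun c hc => ?_) (fun x => ?_) (fun y => ?_)
      · simp only [Block.lo]
        rw [B₁.fix_C _ _ hc, B'.fix_C _ _ (hCC.symm ▸ hc)]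
      · rw [B₁.lo_lam, hB₁0, hlo B₁ hB₁0 rfl (fun _ => rfl) t u hu hom0, hg, map_zero,
          AddMonoidHom.zero_apply]
      · rw [B₁.lo_om, ← ho, B'.lo_om]
    have hgen : ∀ (C₁ C₂ : Block σ F A), (∀ t, C₁.lo t ∈ C₂.grp) → C₁.grp ≤ C₂.grp := by
      intro C₁ C₂ hl
      rw [C₁.grp_eq]
      refine sup_le C₂.A_le_grp ?_
      rintro _ ⟨a, ha, rfl⟩
      obtain ⟨t, rfl⟩ := C₁.mem_A.1 ha
      show C₁.φ wSL * C₁.up t * (C₁.φ wSL)⁻¹ ∈ C₂.grp
      rw [show C₁.φ wSL * C₁.up t * (C₁.φ wSL)⁻¹ = C₁.lo (-t) by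
        rw [Block.up, Block.lo, ← map_inv, ← map_mul, ← map_mul, w_up, mul_inv_cancel_right]]
      exact hl _
    refine le_antisymm (hgen _ _ fun u => ?_) (hgen _ _ fun t => ?_)
    · obtain ⟨t, ht⟩ := hβ.2 (τ 1 * β 1 * u)
      rw [← heq t u ht.symm]; exact B₁.lo_mem_grp t
    · rw [heq t (β t / (τ 1 * β 1)) (mul_div_cancel₀ _ (mul_ne_zero hτ1 hβ1))]
      exact B'.lo_mem_grp _
  · haveI := Fintype.ofFinite F
    by_cases h3 : Nat.card F = 3
    · -- conjugating by a root element removes a linear shear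
      have hsq : ∀ r : F, r ≠ 0 → r⁻¹ = r := fun r hr => by
        have := FiniteField.pow_card_sub_one_eq_one r hr
        rw [← Nat.card_eq_fintype_card, h3] at this
        exact inv_eq_of_mul_eq_one_right (by rw [← pow_two]; exact this)
      have hglin : ∀ y, g y = g 1 * y := fun y => by
        by_cases hy : y = 0
        · rw [hy, map_zero, mul_zero]
        · rw [hginv y hy, hsq y hy, mul_comm]
      set B₂ := B₁.conjSelf (B₁.up (g 1)) (B₁.cj_up _) with hB₂
      have hgrp2 : B₂.grp = B₁.grp := (B₁.conjSelf_grp _ _).trans (B₁.cj_grp_self (B₁.up_mem_grp _))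
      rw [← hgrp2]
      have hlam2 : ∀ x, B₂.lam x = B₁.lam x := fun x => B₁.up_lam _ x
      have hom2 : ∀ y, B₂.om y = B'.om (β y) := fun y => by
        show σ (B₁.up (g 1)) (B₁.om y) = _
        rw [Block.up, B₁.up_om, hB₁0, AddMonoidHom.zero_apply, add_zero, hom0, hglin y]
      have hB₂0 : B₂.hh = 0 := B₁.conjSelf_hh _ _ hB₁0
      have hCC2 : B₂.C = B₁.C := by
        refine le_antisymm ?_ fun c hc => ⟨c, hc, B₁.app_up_C hc _⟩
        rintro _ ⟨c, hc, rfl⟩
        show σ (B₁.up (g 1)) c ∈ B₁.C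
        rwa [B₁.app_up_C hc]
      have heq : ∀ t u, τ 1 * β 1 * u = β t → B₂.lo t = B'.lo u := fun t u hu => by
        refine B₂.ext_action h.faith (fun c hc => ?_) (fun x => ?_) (fun y => ?_)
        · simp only [Block.lo]
          rw [B₂.fix_C _ _ hc, B'.fix_C _ _ (hCC.symm ▸ hCC2 ▸ hc)]
        · rw [B₂.lo_lam, hB₂0, AddMonoidHom.zero_apply, add_zero, hlam2, hlam x, B'.lo_lam, hB',
            AddMonoidHom.zero_apply, add_zero, hom2]
          congr 2
          refine mul_right_cancel₀ hβ1 ?_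
          rw [hmul, ← hu]; ring
        · rw [B₂.lo_om, hom2, B'.lo_om]
      have hgen : ∀ (C₁ C₂ : Block σ F A), (∀ t, C₁.lo t ∈ C₂.grp) → C₁.grp ≤ C₂.grp := by
        intro C₁ C₂ hl
        rw [C₁.grp_eq]
        refine sup_le C₂.A_le_grp ?_
        rintro _ ⟨a, ha, rfl⟩
        obtain ⟨t, rfl⟩ := C₁.mem_A.1 ha
        show C₁.φ wSL * C₁.up t * (C₁.φ wSL)⁻¹ ∈ C₂.grp
        rw [show C₁.φ wSL * C₁.up t * (C₁.φ wSL)⁻¹ = C₁.lo (-t) by
          rw [Block.up, Block.lo, ← map_inv, ← map_mul, ← map_mul, w_up, mul_inv_cancel_right]]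
        exact hl _
      refine le_antisymm (hgen _ _ fun u => ?_) (hgen _ _ fun t => ?_)
      · obtain ⟨t, ht⟩ := hβ.2 (τ 1 * β 1 * u)
        rw [← heq t u ht.symm]; exact B₂.lo_mem_grp t
      · rw [heq t (β t / (τ 1 * β 1)) (mul_div_cancel₀ _ (mul_ne_zero hτ1 hβ1))]
        exact B'.lo_mem_grp _
    exfalso
    -- only four elements are left
    have hpoly : ∀ y : F, y ≠ 0 → y + 1 ≠ 0 → y * y + y + 1 = 0 := fun y hy hy1 => by
      have e := map_add g y 1
      rw [hginv _ hy1, hginv _ hy] at e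
      have e' : (y + 1) * y * ((y + 1)⁻¹ * g 1) = (y + 1) * y * (y⁻¹ * g 1 + g 1) := by rw [e]
      rw [mul_comm (y + 1) y, mul_assoc y, mul_inv_cancel_left₀ hy1, mul_assoc, mul_add,
        ← mul_assoc (y + 1) y⁻¹] at e'
      have e2 : (y * y + y + 1) * g 1 = 0 := by
        have hyy : y * y⁻¹ = 1 := mul_inv_cancel₀ hy
        linear_combination -e' - (y + 1) * g 1 * hyy
      exact (mul_eq_zero.1 e2).resolve_right hg0
    have hcard : Nat.card F = 4 := by
      have hs0 : (s : F) ≠ 0 := s.ne_zero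
      have h2 : 2 ≤ Nat.card F := Finite.one_lt_card
      have hle : Nat.card F ≤ 4 := by
        have hsub : (Finset.univ : Finset F) ⊆ {0, -1} ∪
            ((Polynomial.X ^ 2 + Polynomial.X + 1 : Polynomial F).roots.toFinset) := fun y _ => by
          simp only [Finset.mem_union, Finset.mem_insert, Finset.mem_singleton, Multiset.mem_toFinset]
          by_cases hy : y = 0
          · exact Or.inl (Or.inl hy)
          by_cases hy1 : y + 1 = 0
          · exact Or.inl (Or.inr (eq_neg_of_add_eq_zero_left hy1))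
          right
          rw [Polynomial.mem_roots']
          refine ⟨fun e => ?_, by simpa [pow_two] using hpoly y hy hy1⟩
          have := congrArg (Polynomial.eval 0) e
          simp at this
        have := (Finset.card_le_card hsub).trans ((Finset.card_union_le _ _).trans
          (Nat.add_le_add Finset.card_le_two ((Multiset.toFinset_card_le _).trans
            ((Polynomial.card_roots' _).trans (b := _) le_rfl))))
        rw [Finset.card_univ, ← Nat.card_eq_fintype_card] at this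
        have hdeg : (Polynomial.X ^ 2 + Polynomial.X + 1 : Polynomial F).natDegree ≤ 2 := by compute_degree
        omega
      have hne2 : Nat.card F ≠ 2 := fun e => hs (by
        have := FiniteField.pow_card_sub_one_eq_one (s : F) hs0
        rwa [← Nat.card_eq_fintype_card, e, pow_one] at this)
      omega
    obtain ⟨M, hAM, hout, hdM, x₀, hx₀, hM⟩ := hfour hcard
    obtain ⟨w, hw, hw3, h2, hpow⟩ := exists_omega (F := F) hcard
    have hgk : ∀ y, g y = g 1 * (y * y) := fun y => by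
      by_cases hy : y = 0
      · rw [hy, map_zero]; ring
      rw [hginv y hy, mul_comm]
      congr 1
      refine inv_eq_of_mul_eq_one_right (mul_left_cancel₀ hy ?_)
      linear_combination hpow y
    set k := g 1 with hk
    -- normalise the shear and the fixed vector
    set r := Units.mk0 (x₀ * k) (mul_ne_zero hx₀ hg0)
    set c : Fˣ := (Units.mk0 k hg0)⁻¹
    set B₂ := (B₁.conjSelf (B₁.dg r) (B₁.cj_dg r)).scale c with hB₂
    have hB₂0 : B₂.hh = 0 := Block.scale_hh _ c (B₁.conjSelf_hh _ _ hB₁0)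
    have hlam2 : ∀ x, B₂.lam x = B₁.lam (x₀ * x) := fun x => by
      show σ (B₁.dg r) (B₁.lam ((c : F) * x)) = _
      rw [B₁.app_dg_lam]
      congr 1
      simp only [r, c, Units.val_mk0, Units.val_inv_eq_inv_val]
      field_simp
    have hom2 : ∀ y, B₂.om y = B₁.om (((r⁻¹ : Fˣ) : F) * ((c : F) * y)) := fun y => B₁.app_dg_om r _
    have hC2 : B₂.C = B₁.C := by
      show B₁.C.map (σ (B₁.dg r)) = B₁.C
      refine le_antisymm ?_ fun c hc => ⟨c, hc, B₁.app_dg_C _ hc⟩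
      rintro _ ⟨c, hc, rfl⟩
      show σ (B₁.dg r) c ∈ B₁.C
      rwa [B₁.app_dg_C _ hc]
    have hgrp2 : B₂.grp = B₁.grp := (B₁.conjSelf_grp (B₁.dg r) (B₁.cj_dg r)).trans
      (B₁.cj_grp_self (B₁.dg_mem_grp r))
    have hb : B.up b₀ ∈ M := hAM (B.up_mem _)
    have hdM1 : ∀ s, B₁.dg s ∈ M := fun s => mul_mem (mul_mem hb (hdM s)) (inv_mem hb)
    refine false_of_four h.faith hcard (B := B₂) hB₂0 (M := M) hAM
      (fun s => mul_mem (mul_mem (hdM1 r) (hdM1 s)) (inv_mem (hdM1 r)))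
      (fun hle => hout (by rw [← hgrp, ← hgrp2]; exact hle)) fun w hw => ?_
    -- the opposite element of the other block
    set q : F := ((r⁻¹ : Fˣ) : F) * (c : F) with hq0
    have hqv : q = x₀⁻¹ * (k * k)⁻¹ := by
      simp only [q, r, c, Units.val_mk0, Units.val_inv_eq_inv_val]
      field_simp
    have hom2' : ∀ y, B₁.om (q * y) = B₂.om y := fun y => by rw [hom2, hq0, mul_assoc]
    have hoy : ∀ y, B'.om (β (q * y)) = B₂.om y + B₂.lam (y * y) := fun y => by
      rw [hom0, hgk, hom2', hlam2]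
      congr 2
      have h4 := hpow x₀
      have h5 := hpow k
      have hx3 : x₀ * x₀ * x₀ = 1 := mul_left_cancel₀ hx₀ (by linear_combination h4)
      have hk3 : k * k * k = 1 := mul_left_cancel₀ hg0 (by linear_combination h5)
      rw [hqv]
      field_simp
      linear_combination (-(y * y) * x₀ * x₀ * x₀) * hk3 + (-(y * y)) * hx3
    obtain ⟨t₁, ht₁⟩ : ∃ t₁, t₁ * x₀ = q * w := ⟨q * w / x₀, div_mul_cancel₀ _ hx₀⟩
    set u := β t₁ / (τ 1 * β 1) with hu
    have hu' : τ 1 * β 1 * u = β t₁ := mul_div_cancel₀ _ (mul_ne_zero hτ1 hβ1)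
    refine ⟨B'.lo u, fun c hc => ?_, fun x => ?_, fun y => ?_, fun hfix => ?_⟩
    · exact B'.fix_C _ _ (hCC.symm ▸ hC2 ▸ hc)
    · rw [hlam2, hlam, B'.lo_lam, hB', AddMonoidHom.zero_apply, add_zero,
        show u * (τ 1 * β (x₀ * x)) = β (q * (w * x)) by
          refine mul_right_cancel₀ hβ1 ?_
          rw [show q * (w * x) = t₁ * (x₀ * x) by rw [← mul_assoc t₁, ht₁]; simp only [q]; ring]
          rw [hmul, ← hu']; ring, hoy, add_assoc]
    · have e1 : B₂.om y = B'.om (β (q * y)) - B₂.lam (y * y) := by rw [hoy]; abel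
      conv_lhs => rw [e1, map_sub, B'.lo_om, hlam2, hlam, B'.lo_lam, hB', AddMonoidHom.zero_apply, add_zero]
      rw [show u * (τ 1 * β (x₀ * (y * y))) = β (q * (w * (y * y))) by
          refine mul_right_cancel₀ hβ1 ?_
          rw [show q * (w * (y * y)) = t₁ * (x₀ * (y * y)) by rw [← mul_assoc t₁, ht₁]; simp only [q]; ring]
          rw [hmul, ← hu']; ring, hoy, hoy, ← hlam, ← hlam2,
        show B₂.lam (w * w * y) = B₂.lam (w * (y * y) * (w * (y * y))) by
          congr 1; linear_combination (-(w * w)) * hpow y]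
      have hneg : ∀ v : V, -v = v := fun v => neg_eq_of_add_eq_zero_left (by
        have h1 := h.exponent v
        have hp2 : p = 2 := by
          by_contra hne
          have hpF := B.natCast_eq_zero h.exponent
          haveI : CharP F p := (CharP.charP_iff_prime_eq_zero (Fact.out : p.Prime)).2 hpF
          have : ((2 : ℕ) : F) = 0 := by exact_mod_cast h2
          rw [CharP.cast_eq_zero_iff F p] at this
          exact hne ((Nat.prime_dvd_prime_iff_eq Fact.out Nat.prime_two).1 this)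
        rwa [hp2, two_nsmul] at h1)
      simp only [sub_eq_add_neg, hneg]
      abel_nf
      rw [two_zsmul, ← map_add B₂.lam, ← two_mul, h2, zero_mul, map_zero, zero_add]
    · refine hM _ (mul_mem (mul_mem ?_ ?_) ?_) ?_
      · exact mem_sup_left (hgrp ▸ hgrp2 ▸ B₂.lo_mem_grp w)
      · exact mem_sup_left (hgrp ▸ hgrp2 ▸ B₂.up_mem_grp w)
      · exact mem_sup_right (B'.lo_mem_grp u)
      · have hlamB : B.lam x₀ = B₂.lam 1 := by
          rw [hlam2, mul_one]
          exact (B.up_lam _ x₀).symm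
        rw [hlamB]; exact hfix

end Cfsg.Agent.FFMinimal
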